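import Cfsg.Agent.Lib.SmallOrders.OrderData
import Cfsg.Agent.Lib.Blocks.InducedChar
import Cfsg.Agent.Lib.Blocks.Proj

/-!
# The class equation for involutions inverting a self-centralising subgroup of order `p`
-/

namespace CfsgLib.SmallOrders

open Cfsg CfsgLib.CharTheory CfsgLib.Blocks
open scoped ComplexConjugate

set_option autoImplicit false
set_option linter.unusedVariables false
set_option linter.style.haveILetI false
set_option linter.unusedSectionVars false

universe u

variable {G : Type u} [Group G] [Fintype G]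

/-- Searching over values attached to a list. -/
def uSearch {α β : Type} (rng : α → List β) (ok : List (α × β) → Bool) : List α → List (α × β) → Bool
  | [], acc => ok acc
  | a :: l, acc => (rng a).any fun b => uSearch rng ok l ((a, b) :: acc)

theorem uSearch_complete {α β : Type} {rng : α → List β} {ok : List (α × β) → Bool} :
    ∀ (l acc : List (α × β)), (∀ x ∈ l, x.2 ∈ rng x.1) → ok (l.reverse ++ acc) = true →
      uSearch rng ok (l.map Prod.fst) acc = true
  | [], acc, _, h => by simpa [uSearch] using h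
  | x :: l, acc, hl, h => by
    simp only [List.map_cons, uSearch, List.any_eq_true]
    refine ⟨x.2, hl x (List.mem_cons_self ..), uSearch_complete l _
      (fun y hy => hl y (List.mem_cons_of_mem _ hy)) ?_⟩
    simpa [List.reverse_cons, List.append_assoc] using h

theorem uSearch_mono {α β : Type} {rng : α → List β} {ok ok' : List (α × β) → Bool}
    (h : ∀ l, ok l = true → ok' l = true) :
    ∀ (l : List α) (acc : List (α × β)), uSearch rng ok l acc = true → uSearch rng ok' l acc = true
  | [], acc, hs => h acc hs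
  | a :: l, acc, hs => by
    simp only [uSearch, List.any_eq_true] at hs ⊢
    obtain ⟨b, hb, hs⟩ := hs
    exact ⟨b, hb, uSearch_mono h l _ hs⟩

theorem search_mono {α : Type} {A : List α} {ok ok' : List α → Bool}
    (h : ∀ l, ok l = true → ok' l = true) :
    ∀ (n : ℕ) (acc : List α), search A ok n acc = true → search A ok' n acc = true
  | 0, acc, hs => h acc hs
  | n + 1, acc, hs => by
    simp only [search, List.any_eq_true] at hs ⊢
    obtain ⟨b, hb, hs⟩ := hs
    exact ⟨b, hb, search_mono h n _ hs⟩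

/-- Integers of absolute value at most `|a|` and the parity of `a`. -/
def parityRange (a : ℤ) : List ℤ :=
  ((List.range (2 * a.natAbs + 1)).map fun i : ℕ => (i : ℤ) - (a.natAbs : ℤ)).filter
    fun u => decide ((u - a) % 2 = 0)

theorem mem_parityRange {a u : ℤ} (h1 : u.natAbs ≤ a.natAbs) (h2 : (2 : ℤ) ∣ u - a) :
    u ∈ parityRange a := by
  simp only [parityRange, List.mem_filter, List.mem_map, List.mem_range, decide_eq_true_eq]
  refine ⟨⟨(u + a.natAbs).toNat, ?_, ?_⟩, Int.emod_eq_zero_of_dvd h2⟩ <;> omega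

/-- Values at an involution inverting `P`. -/
def rngT (p : ℕ) (a : ℤ) : List ℤ :=
  (parityRange a).filter fun u => decide (p * u.natAbs ≤ (a + (p : ℤ) - 1).natAbs)

/-- Values at an involution. -/
def rngZ (a : ℤ) : List ℤ :=
  (parityRange a).filter fun u => decide (u ≠ a)

/-- The sum in the class equation. -/
def classSum (l : List (ℤ × ℤ)) : ℚ :=
  1 + (l.map fun x => ((x.2 * x.2 : ℤ) : ℚ) / (x.1 : ℚ)).sum -
    (((1 + (l.map Prod.snd).sum) * (1 + (l.map Prod.snd).sum) : ℤ) : ℚ) /
      ((1 + (l.map Prod.fst).sum : ℤ) : ℚ)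

/-- Whether some values satisfy the class equation for an involution not inverting `P`. -/
def zSearch (as : List ℤ) : Bool :=
  uSearch rngZ (fun l => decide (classSum l = 0)) as []

/-- The class equation for an involution inverting `P`, and the orthogonality bound. -/
def classOk (p N e : ℕ) (l : List (ℤ × ℤ)) (c : ℕ) : Bool :=
  decide ((N : ℚ) * classSum l = ((p * c * c : ℕ) : ℚ)) &&
    decide (1 + (l.map fun x => x.2.natAbs * x.2.natAbs).sum +
      (p - 1) / e * ((1 + (l.map Prod.snd).sum).natAbs * (1 + (l.map Prod.snd).sum).natAbs) ≤ c)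

/-- The whole search. -/
def classSearch (p m e q : ℕ) (cs : List ℕ) : Bool :=
  search (cands p m (p * m) 2 1) (fun as => degOk p m (p * m) 2 e as &&
    uSearch (rngT p) (fun l => cs.any fun c => classOk p (p * m) e l c &&
      (decide (c % q = 0) || zSearch as)) as []) (e - 1) []

/-- The possible orders of centralisers of involutions. -/
def involCents (p N : ℕ) : List ℕ :=
  (List.range (N + 1)).filter fun c : ℕ => decide (N % c = 0) && decide (c % 2 = 0) && !decide (c % p = 0)

section SelfCentralising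

variable [IsSimpleGroup G] {p : ℕ} [hpf : Fact p.Prime] {M : Ideal AlgInt} {P : Sylow p G}

theorem centralizer_eq (hP : Nat.card P = p)
    (hC : Nat.card (Subgroup.centralizer ((P : Subgroup G) : Set G)) = p) :
    Subgroup.centralizer ((P : Subgroup G) : Set G) = (P : Subgroup G) := by
  haveI : IsCyclic (P : Subgroup G) := isCyclic_of_prime_card hP
  exact (Subgroup.eq_of_le_of_card_ge (P : Subgroup G).le_centralizer
    (hC.le.trans hP.ge)).symm

theorem orderOf_eq (hP : Nat.card P = p) {x : G} (hx : x ∈ (P : Subgroup G)) (hx1 : x ≠ 1) :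
    orderOf x = p := by
  refine orderOf_eq_prime ?_ hx1
  have := pow_card_eq_one' (x := (⟨x, hx⟩ : (P : Subgroup G)))
  rw [show Nat.card (P : Subgroup G) = p from hP] at this
  exact congrArg Subtype.val this

theorem zpowers_eq (hP : Nat.card P = p) {x : G} (hx : x ∈ (P : Subgroup G)) (hx1 : x ≠ 1) :
    Subgroup.zpowers x = (P : Subgroup G) :=
  Subgroup.eq_of_le_of_card_ge (Subgroup.zpowers_le.2 hx)
    (by rw [Nat.card_zpowers, orderOf_eq hP hx hx1]; exact hP.le)

theorem mem_of_commute (hP : Nat.card P = p)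
    (hC : Nat.card (Subgroup.centralizer ((P : Subgroup G) : Set G)) = p) {x g : G}
    (hx : x ∈ (P : Subgroup G)) (hx1 : x ≠ 1) (h : g * x = x * g) : g ∈ (P : Subgroup G) := by
  rw [← centralizer_eq hP hC, ← zpowers_eq hP hx hx1, Subgroup.mem_centralizer_iff]
  rintro _ ⟨k, rfl⟩
  exact ((Commute.zpow_right (h : Commute g x)) k).symm.eq

/-- Outside the principal block the characters vanish on `P`. -/
theorem vanish_outside (hM : IsPModular p M) (hP : Nat.card P = p)
    (hC : Nat.card (Subgroup.centralizer ((P : Subgroup G) : Set G)) = p)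
    (hval : (Nat.card G).factorization p = 1) {χ : IrrCharacter G}
    (hχ : χ ∉ principalBlock M G) {x : G} (hx : x ∈ (P : Subgroup G)) (hx1 : x ≠ 1) :
    (χ : G → ℂ) x = 0 := by
  classical
  have hp : p.Prime := hpf.out
  have hB : IsPBlock M (blockOf M (χ : G → ℂ)) := blockOf_isPBlock χ
  have hcls : Subsingleton {C : ConjClasses G // ∃ g : G, ConjClasses.mk g = C ∧ IsPRegular p g ∧
      1 ≤ (Nat.card (Subgroup.centralizer ({g} : Set G))).factorization p} := by
    have key : ∀ g : G, IsPRegular p g →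
        1 ≤ (Nat.card (Subgroup.centralizer ({g} : Set G))).factorization p → g = 1 := by
      intro g hg h1
      have hd : p ∣ Nat.card (Subgroup.centralizer ({g} : Set G)) :=
        (hp.dvd_iff_one_le_factorization Nat.card_pos.ne').2 h1
      obtain ⟨w, hw⟩ := exists_prime_orderOf_dvd_card' p hd
      have hwG : orderOf (w : G) = p := by rw [Subgroup.orderOf_coe, hw]
      have hpg : IsPGroup p (Subgroup.zpowers (w : G)) :=
        IsPGroup.of_card (n := 1) (by rw [Nat.card_zpowers, hwG, pow_one])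
      obtain ⟨Q, hQ⟩ := hpg.exists_le_sylow
      obtain ⟨s, hs⟩ := MulAction.exists_smul_eq G Q P
      have hwP : s * w * s⁻¹ ∈ (P : Subgroup G) := by
        rw [← hs]
        exact ⟨w, hQ (Subgroup.mem_zpowers _), rfl⟩
      have hwne : s * w * s⁻¹ ≠ 1 := by
        rw [Ne, conj_eq_one_iff]
        intro h
        rw [h, orderOf_one] at hwG
        exact hp.ne_one hwG.symm
      have hcomm : (w : G) * g = g * w := by
        have := Subgroup.mem_centralizer_singleton_iff.1 w.2
        exact this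
      have hgP : s * g * s⁻¹ ∈ (P : Subgroup G) := by
        refine mem_of_commute hP hC hwP hwne ?_
        rw [show s * g * s⁻¹ * (s * w * s⁻¹) = s * (g * w) * s⁻¹ by group,
          show s * w * s⁻¹ * (s * g * s⁻¹) = s * (w * g) * s⁻¹ by group, hcomm]
      by_contra hg1
      have := orderOf_eq hP hgP (by rwa [Ne, conj_eq_one_iff])
      rw [show s * g * s⁻¹ = MulAut.conj s g from rfl, MulEquiv.orderOf_eq] at this
      exact hg (this ▸ dvd_rfl)
    refine ⟨fun A B => ?_⟩
    obtain ⟨a, ha, hra, hda⟩ := A.2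
    obtain ⟨b, hb, hrb, hdb⟩ := B.2
    rw [key a hra hda] at ha
    rw [key b hrb hdb] at hb
    exact Subtype.ext (ha.symm.trans hb)
  have hone : 1 ≤ blockDefect p (principalBlock M G) := by
    rw [blockDefect_eq, hval]
    have h1 : minDv p (principalBlock M G) ≤ dv p ((oneIrr G : IrrCharacter G) : G → ℂ) :=
      minDv_le (oneIrr_mem hM)
    have h2 : dv p ((oneIrr G : IrrCharacter G) : G → ℂ) = 0 := by
      have h3 : charDegree ((oneIrr G : IrrCharacter G) : G → ℂ) = 1 := by
        have := irr_charDegree_cast (oneIrr G)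
        rw [show ((oneIrr G : IrrCharacter G) : G → ℂ) 1 = 1 from rfl] at this
        exact_mod_cast this
      simp [dv, h3]
    omega
  have h0 : blockDefect p (blockOf M (χ : G → ℂ)) = 0 := by
    by_contra hne
    have hle : Nat.card {B : Set (IrrCharacter G) // IsPBlock M B ∧ 1 ≤ blockDefect p B} ≤ 1 :=
      le_trans (InducedChar.card_blocks_le_classes hM 1) (Finite.card_le_one_iff_subsingleton.2 hcls)
    haveI := Finite.card_le_one_iff_subsingleton.1 hle
    have heq := congrArg Subtype.val (Subsingleton.elim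
      (⟨blockOf M (χ : G → ℂ), hB, by omega⟩ :
        {B : Set (IrrCharacter G) // IsPBlock M B ∧ 1 ≤ blockDefect p B})
      ⟨principalBlock M G, principalBlock_isPBlock, hone⟩)
    exact hχ (heq.le (mem_blockOf_self hM χ))
  refine ThreePrimes.vanish_of_defZero hM χ ?_ (by rw [orderOf_eq hP hx hx1])
  rw [blockDefect_eq] at h0
  have h1 := minDv_le (p := p) (mem_blockOf_self hM χ)
  have h2 : dv p (χ : G → ℂ) ≤ (Nat.card G).factorization p :=
    (Nat.factorization_le_iff_dvd (irr_charDegree_pos χ).ne' Nat.card_pos.ne').2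
      (charDegree_dvd_card χ) p
  omega

/-- The class equation, summed over the principal block. -/
theorem pairCount_block (hM : IsPModular p M) (hP : Nat.card P = p)
    (hC : Nat.card (Subgroup.centralizer ((P : Subgroup G) : Set G)) = p)
    (hval : (Nat.card G).factorization p = 1) {e : ℕ} (S : Shape p M (P : Subgroup G) e)
    {x : G} (hx : x ∈ (P : Subgroup G)) (hx1 : x ≠ 1) (g : G) :
    (pairCount g g x : ℂ) * (Nat.card (Subgroup.centralizer ({g} : Set G)) : ℂ) ^ 2 =
      (Nat.card G : ℂ) * (1 + ∑ χ ∈ S.X, (χ : G → ℂ) g ^ 2 / (χ : G → ℂ) 1 * (S.δ χ : ℂ) +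
        ∑ ψ ∈ S.Y, (ψ : G → ℂ) g ^ 2 / (ψ : G → ℂ) 1 * conj ((ψ : G → ℂ) x)) := by
  classical
  have h := pairCount_mul g g x
  have hsub : ∑ χ : IrrCharacter G, clv g χ * ((χ : G → ℂ) g * conj ((χ : G → ℂ) x)) =
      ∑ χ ∈ insert (oneIrr G) (S.X ∪ S.Y), clv g χ * ((χ : G → ℂ) g * conj ((χ : G → ℂ) x)) := by
    refine (Finset.sum_subset (Finset.subset_univ _) fun χ _ hχ => ?_).symm
    rw [vanish_outside hM hP hC hval ?_ hx hx1, map_zero, mul_zero, mul_zero]
    rw [S.block]
    simpa using hχ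
  rw [hsub, Finset.sum_insert (by simp [S.one_notX, S.one_notY]), Finset.sum_union S.disj] at h
  set c : ℂ := (Nat.card (Subgroup.centralizer ({g} : Set G)) : ℂ) with hc
  have hcG : ((Subgroup.centralizer ({g} : Set G)).index : ℂ) * c = (Nat.card G : ℂ) := by
    rw [hc, ← Nat.cast_mul, Subgroup.index_mul_card]
  have hterm : ∀ χ : IrrCharacter G, clv g χ * ((χ : G → ℂ) g * conj ((χ : G → ℂ) x)) * c =
      (Nat.card G : ℂ) * ((χ : G → ℂ) g ^ 2 / (χ : G → ℂ) 1 * conj ((χ : G → ℂ) x)) := fun χ => by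
    rw [← hcG, clv, centralChar]
    ring
  have hX : ∀ χ ∈ S.X, conj ((χ : G → ℂ) x) = (S.δ χ : ℂ) := fun χ hχ => by
    have := S.valX χ hχ x hx hx1 1 (one_mem _) (by rw [orderOf_one]; exact hpf.out.not_dvd_one)
    rw [mul_one] at this
    rw [this, map_intCast]
  have h1 : ∀ y : G, ((oneIrr G : IrrCharacter G) : G → ℂ) y = 1 := fun y => rfl
  rw [sq c, ← mul_assoc, h, add_mul, add_mul, Finset.sum_mul, Finset.sum_mul, hterm, h1, h1, h1,
    Finset.sum_congr rfl fun χ _ => hterm χ, Finset.sum_congr rfl fun χ _ => hterm χ,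
    ← Finset.mul_sum, ← Finset.mul_sum, Finset.sum_congr rfl fun χ hχ => by rw [hX χ hχ]]
  simp only [map_one, one_pow, div_one, mul_one]
  ring

/-- The value of a character at an involution. -/
theorem exists_value {χ : IrrCharacter G} (hχ : χ ≠ oneIrr G) {z : G} (hz : orderOf z = 2) :
    ∃ v : ℤ, (χ : G → ℂ) z = (v : ℂ) ∧ v.natAbs ≤ charDegree (χ : G → ℂ) ∧
      (2 : ℤ) ∣ v - charDegree (χ : G → ℂ) ∧ v ≠ charDegree (χ : G → ℂ) := by
  classical
  set H := Subgroup.zpowers z with hH
  haveI : Fintype H := Fintype.ofFinite _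
  obtain ⟨n, hn⟩ := classInner_char_nat
    (isCharacter_restrict (isCharacter_of_irr χ.2) H) (isCharacter_one (G := H))
  have hz1 : (⟨z, Subgroup.mem_zpowers z⟩ : H) ≠ 1 := fun h => by
    have := congrArg Subtype.val h
    simp only [Subgroup.coe_one] at this
    rw [this, orderOf_one] at hz
    omega
  have hcard : Nat.card H = 2 := by rw [hH, Nat.card_zpowers, hz]
  have huniv : (Finset.univ : Finset H) = {1, ⟨z, Subgroup.mem_zpowers z⟩} :=
    (Finset.eq_univ_of_card _ (by
      rw [Finset.card_pair (Ne.symm hz1), ← Nat.card_eq_fintype_card, hcard])).symm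
  rw [classInner, hcard, huniv, Finset.sum_pair (Ne.symm hz1)] at hn
  simp only [map_one, mul_one, Subgroup.coe_one, ← irr_charDegree_cast] at hn
  refine ⟨2 * n - charDegree (χ : G → ℂ), ?_, ?_, ⟨(n : ℤ) - charDegree (χ : G → ℂ), by ring⟩, ?_⟩
  · push_cast at hn ⊢
    linear_combination 2 * hn
  · have h := norm_char_le (isCharacter_of_irr χ.2) z
    rw [show (χ : G → ℂ) z = ((2 * (n : ℤ) - charDegree (χ : G → ℂ) : ℤ) : ℂ) by
      push_cast at hn ⊢; linear_combination 2 * hn, ← irr_charDegree_cast, Complex.norm_intCast,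
      Complex.norm_natCast] at h
    have h' : |(2 * (n : ℤ) - charDegree (χ : G → ℂ))| ≤ (charDegree (χ : G → ℂ) : ℤ) := by
      exact_mod_cast h
    rw [Int.abs_eq_natAbs] at h'
    exact_mod_cast h'
  · intro hv
    have hz' : (χ : G → ℂ) z = (χ : G → ℂ) 1 := by
      have hn' : (n : ℂ) = (charDegree (χ : G → ℂ) : ℂ) := by
        exact_mod_cast (show n = charDegree (χ : G → ℂ) by omega)
      rw [← irr_charDegree_cast]
      push_cast at hn
      linear_combination 2 * hn + 2 * hn'
    have := eq_one_of_apply_eq_apply_one hχ hz'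
    rw [this, orderOf_one] at hz
    omega

/-- An involution in the normaliser inverting `P`. -/
theorem exists_inverting (hodd : p ≠ 2) (hP : Nat.card P = p)
    (hC : Nat.card (Subgroup.centralizer ((P : Subgroup G) : Set G)) = p) {e : ℕ} (he : 2 ∣ e)
    (hNe : Nat.card (Subgroup.normalizer ((P : Subgroup G) : Set G)) =
      Nat.card (Subgroup.centralizer ((P : Subgroup G) : Set G)) * e) :
    ∃ t : G, orderOf t = 2 ∧ ∀ x ∈ (P : Subgroup G), t * x * t = x⁻¹ := by
  have hp : p.Prime := hpf.out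
  obtain ⟨t, ht⟩ := exists_prime_orderOf_dvd_card' (G := Subgroup.normalizer ((P : Subgroup G) : Set G))
    2 (by rw [hNe]; exact he.mul_left _)
  have ht2 : orderOf (t : G) = 2 := by rw [Subgroup.orderOf_coe, ht]
  have htt : (t : G) * t = 1 := by rw [← sq, ← ht2, pow_orderOf_eq_one]
  refine ⟨t, ht2, fun x hx => ?_⟩
  have htinv : (t : G)⁻¹ = t := inv_eq_of_mul_eq_one_right htt
  have hy : (t : G) * x * t ∈ (P : Subgroup G) := by
    have := (Subgroup.mem_normalizer_iff.1 t.2 x).1 hx
    rwa [htinv] at this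
  have hcomm : x * ((t : G) * x * t) = (t : G) * x * t * x := by
    have hy' := Subgroup.mem_centralizer_iff.1
      ((centralizer_eq hP hC).ge hy) x hx
    exact hy'
  set w := x * ((t : G) * x * t) with hw
  have hwP : w ∈ (P : Subgroup G) := mul_mem hx hy
  have htw : (t : G) * w = w * t := by
    rw [hw]
    calc (t : G) * (x * ((t : G) * x * t)) = (t : G) * x * t * x * t := by group
      _ = x * ((t : G) * x * t) * t := by rw [← hw, hcomm]
  by_cases hw1 : w = 1
  · rw [hw] at hw1
    exact eq_inv_of_mul_eq_one_right hw1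
  · exfalso
    have := mem_of_commute hP hC hwP hw1 htw
    by_cases ht1 : (t : G) = 1
    · rw [ht1, orderOf_one] at ht2; omega
    · have := orderOf_eq hP this ht1
      omega

variable {t : G}

theorem invert_mul_mem (hP : Nat.card P = p)
    (hC : Nat.card (Subgroup.centralizer ((P : Subgroup G) : Set G)) = p)
    (ht : orderOf t = 2) (hinv : ∀ x ∈ (P : Subgroup G), t * x * t = x⁻¹) {x a : G}
    (hx : x ∈ (P : Subgroup G)) (hx1 : x ≠ 1) (ha : a * x * a = x⁻¹) (ha2 : a * a = 1) :
    a * t ∈ (P : Subgroup G) := by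
  refine mem_of_commute hP hC hx hx1 ?_
  have htt : t * t = 1 := by rw [← sq, ← ht, pow_orderOf_eq_one]
  have h1 : t * x = x⁻¹ * t := by
    rw [← hinv x hx, mul_assoc, htt, mul_one]
  have h2 : a * x⁻¹ = x * a := by
    rw [← ha, show a * (a * x * a) = a * a * x * a by group, ha2, one_mul]
  rw [mul_assoc, h1, ← mul_assoc, h2, mul_assoc]

theorem isConj_mul (hodd : p ≠ 2) (hP : Nat.card P = p) (ht : orderOf t = 2)
    (hinv : ∀ x ∈ (P : Subgroup G), t * x * t = x⁻¹) {q : G} (hq : q ∈ (P : Subgroup G)) :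
    IsConj t (q * t) := by
  obtain ⟨k, hk⟩ := hpf.out.odd_of_ne_two hodd
  have htt : t * t = 1 := by rw [← sq, ← ht, pow_orderOf_eq_one]
  set s := q ^ (k + 1) with hs
  have hsP : s ∈ (P : Subgroup G) := pow_mem hq _
  have hss : s * s = q := by
    have hqp : q ^ p = 1 := by
      have := pow_card_eq_one' (x := (⟨q, hq⟩ : (P : Subgroup G)))
      rw [show Nat.card (P : Subgroup G) = p from hP] at this
      exact congrArg Subtype.val this
    rw [hs, ← pow_add, show k + 1 + (k + 1) = p + 1 by omega, pow_succ, hqp, one_mul]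
  refine isConj_iff.2 ⟨s, ?_⟩
  rw [← hss, ← hinv s hsP, show s * t * (t * s * t) = s * (t * t) * s * t by group, htt, mul_one]

/-- Involutions inverting `P` are counted by `P`. -/
theorem pairCount_self (hodd : p ≠ 2) (hP : Nat.card P = p)
    (hC : Nat.card (Subgroup.centralizer ((P : Subgroup G) : Set G)) = p)
    (ht : orderOf t = 2) (hinv : ∀ x ∈ (P : Subgroup G), t * x * t = x⁻¹) {x : G}
    (hx : x ∈ (P : Subgroup G)) (hx1 : x ≠ 1) : pairCount t t x = p := by
  have htt : t * t = 1 := by rw [← sq, ← ht, pow_orderOf_eq_one]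
  have hsq : ∀ a : G, IsConj t a → a * a = 1 := fun a ha => by
    obtain ⟨s, rfl⟩ := isConj_iff.1 ha
    rw [show s * t * s⁻¹ * (s * t * s⁻¹) = s * (t * t) * s⁻¹ by group, htt, mul_one, mul_inv_cancel]
  refine Eq.trans ?_ hP
  refine Nat.card_congr
    { toFun := fun a => ⟨(a : G) * t, ?_⟩
      invFun := fun q => ⟨(q : G) * t, isConj_mul hodd hP ht hinv q.2, ?_⟩
      left_inv := fun a => Subtype.ext (by simp [mul_assoc, htt])
      right_inv := fun q => Subtype.ext (by simp [mul_assoc, htt]) }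
  · have h1 := hsq _ a.2.1
    have h2 := hsq _ a.2.2
    refine invert_mul_mem hP hC ht hinv hx hx1 ?_ h1
    rw [inv_eq_of_mul_eq_one_right h1] at h2
    rw [← mul_eq_one_iff_eq_inv]
    rw [show (a : G) * x * a * x = (a : G) * x * ((a : G) * x) by group]
    exact h2
  · rw [mul_inv_rev, inv_eq_of_mul_eq_one_right htt]
    have hc : (q : G)⁻¹ * x ∈ (P : Subgroup G) := mul_mem (inv_mem q.2) hx
    have h2 : t * (q : G)⁻¹ * x = ((q : G)⁻¹ * x)⁻¹ * t := by
      rw [← hinv _ hc, mul_assoc (t * ((q : G)⁻¹ * x)), htt, mul_one, mul_assoc]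
    rw [h2]
    exact isConj_mul hodd hP ht hinv (inv_mem hc)

/-- An involution not conjugate to `t` does not invert `P`. -/
theorem pairCount_other (hodd : p ≠ 2) (hP : Nat.card P = p)
    (hC : Nat.card (Subgroup.centralizer ((P : Subgroup G) : Set G)) = p)
    (ht : orderOf t = 2) (hinv : ∀ x ∈ (P : Subgroup G), t * x * t = x⁻¹) {x z : G}
    (hx : x ∈ (P : Subgroup G)) (hx1 : x ≠ 1) (hz : orderOf z = 2) (hzt : ¬ IsConj t z) :
    pairCount z z x = 0 := by
  have hzz : z * z = 1 := by rw [← sq, ← hz, pow_orderOf_eq_one]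
  have htt : t * t = 1 := by rw [← sq, ← ht, pow_orderOf_eq_one]
  have hsq : ∀ a : G, IsConj z a → a * a = 1 := fun a ha => by
    obtain ⟨s, rfl⟩ := isConj_iff.1 ha
    rw [show s * z * s⁻¹ * (s * z * s⁻¹) = s * (z * z) * s⁻¹ by group, hzz, mul_one, mul_inv_cancel]
  unfold pairCount
  rw [Nat.card_eq_zero]
  refine Or.inl ⟨fun ⟨a, ha1, ha2⟩ => hzt ?_⟩
  have h1 := hsq _ ha1
  have h2 := hsq _ ha2
  rw [inv_eq_of_mul_eq_one_right h1] at h2
  have hm : a * t ∈ (P : Subgroup G) := invert_mul_mem hP hC ht hinv hx hx1 (by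
    rw [← mul_eq_one_iff_eq_inv, show a * x * a * x = a * x * (a * x) by group]
    exact h2) h1
  have := isConj_mul hodd hP ht hinv hm
  rw [mul_assoc, htt, mul_one] at this
  exact this.trans ha1.symm

/-- The bound on the value at an involution inverting `P`. -/
theorem value_bound (hodd : p ≠ 2) (hP : Nat.card P = p)
    (ht : orderOf t = 2) (hinv : ∀ x ∈ (P : Subgroup G), t * x * t = x⁻¹) {χ : IrrCharacter G}
    {δ v : ℤ} (hval : ∀ x ∈ (P : Subgroup G), x ≠ 1 → (χ : G → ℂ) x = (δ : ℂ))
    (hv : (χ : G → ℂ) t = (v : ℂ)) :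
    (p : ℤ) * v.natAbs ≤ (charDegree (χ : G → ℂ) : ℤ) + ((p : ℤ) - 1) * δ := by
  classical
  have hp : p.Prime := hpf.out
  have htt : t * t = 1 := by rw [← sq, ← ht, pow_orderOf_eq_one]
  have htinv : t⁻¹ = t := inv_eq_of_mul_eq_one_right htt
  have htP : t ∉ (P : Subgroup G) := fun h => by
    by_cases ht1 : t = 1
    · rw [ht1, orderOf_one] at ht; omega
    · have := orderOf_eq hP h ht1; omega
  have hswap : ∀ q ∈ (P : Subgroup G), t * q = q⁻¹ * t := fun q hq => by
    rw [← hinv q hq, mul_assoc, htt, mul_one]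
  have hcase : ∀ b, b * t ∈ (P : Subgroup G) → t * b = (b * t)⁻¹ := fun b hb => by
    rw [← hinv _ hb, mul_assoc, mul_assoc, htt, mul_one]
  let D : Subgroup G :=
    { carrier := {g | g ∈ (P : Subgroup G) ∨ g * t ∈ (P : Subgroup G)}
      one_mem' := Or.inl (one_mem _)
      mul_mem' := by
        rintro a b (ha | ha) (hb | hb)
        · exact Or.inl (mul_mem ha hb)
        · exact Or.inr (by rw [mul_assoc]; exact mul_mem ha hb)
        · refine Or.inr ?_
          rw [show a * b * t = a * t * (t⁻¹ * b * t) by group, htinv, hinv b hb]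
          exact mul_mem ha (inv_mem hb)
        · refine Or.inl ?_
          rw [show a * b = a * t * (t⁻¹ * b) by group, htinv, hcase b hb]
          exact mul_mem ha (inv_mem hb)
      inv_mem' := by
        rintro b (hb | hb)
        · exact Or.inl (inv_mem hb)
        · refine Or.inr ?_
          have h1 : b * b = 1 := by
            rw [show b * b = b * t * (t⁻¹ * b) by group, htinv, hcase b hb, mul_inv_cancel]
          rwa [inv_eq_of_mul_eq_one_right h1] }
  haveI : Fintype D := Fintype.ofFinite _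
  haveI : Fintype (P : Subgroup G) := Fintype.ofFinite _
  have hPD : ∀ q : (P : Subgroup G), (q : G) ∈ D := fun q => Or.inl q.2
  have hPtD : ∀ q : (P : Subgroup G), (q : G) * t ∈ D := fun q =>
    Or.inr (by rw [mul_assoc, htt, mul_one]; exact q.2)
  have hcoset : ∀ q : (P : Subgroup G), (q : G) * t ∉ (P : Subgroup G) := fun q h =>
    htP ((Subgroup.mul_mem_cancel_left _ q.2).1 h)
  let F : (P : Subgroup G) ⊕ (P : Subgroup G) → D :=
    Sum.elim (fun q => ⟨q, hPD q⟩) (fun q => ⟨q * t, hPtD q⟩)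
  have hF : Function.Bijective F := by
    refine ⟨?_, ?_⟩
    · rintro (q | q) (r | r) h <;> have h' := congrArg Subtype.val h <;>
        simp only [F, Sum.elim_inl, Sum.elim_inr] at h'
      · rw [Subtype.ext h']
      · exact absurd (h' ▸ q.2) (hcoset r)
      · exact absurd (h'.symm ▸ r.2) (hcoset q)
      · rw [Subtype.ext (mul_right_cancel h')]
    · rintro ⟨g, hg | hg⟩
      · exact ⟨Sum.inl ⟨g, hg⟩, rfl⟩
      · exact ⟨Sum.inr ⟨g * t, hg⟩, Subtype.ext (by simp [F, mul_assoc, htt])⟩
  have hPc : Nat.card (P : Subgroup G) = p := hP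
  have hcardD : Nat.card D = 2 * p := by
    rw [← Nat.card_congr (Equiv.ofBijective F hF), Nat.card_sum, hPc]; ring
  have hs1 : ∑ q : (P : Subgroup G), (χ : G → ℂ) q =
      (charDegree (χ : G → ℂ) : ℂ) + ((p : ℂ) - 1) * (δ : ℂ) := by
    rw [← Finset.add_sum_erase _ _ (Finset.mem_univ (1 : (P : Subgroup G))), Subgroup.coe_one,
      ← irr_charDegree_cast, Finset.sum_congr rfl fun (q : (P : Subgroup G)) hq =>
        hval q q.2 fun h => (Finset.mem_erase.1 hq).1 (Subtype.ext h),
      Finset.sum_const, Finset.card_erase_of_mem (Finset.mem_univ _), Finset.card_univ,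
      ← Nat.card_eq_fintype_card, hPc, nsmul_eq_mul, Nat.cast_sub hp.one_le, Nat.cast_one]
  have hs2 : ∀ q : (P : Subgroup G), (χ : G → ℂ) ((q : G) * t) = (v : ℂ) := fun q => by
    obtain ⟨s, hs⟩ := isConj_iff.1 (isConj_mul hodd hP ht hinv q.2)
    rw [← hs, isClassFunction_irr χ.2 t s, hv]
  have hinner : ∀ (f : D →* ℂˣ) (s : ℤ), (∀ g : D, (g : G) ∈ (P : Subgroup G) → f g = 1) →
      (∀ g : D, (g : G) ∉ (P : Subgroup G) → (f g : ℂ) = (s : ℂ)) →
      0 ≤ (charDegree (χ : G → ℂ) : ℤ) + ((p : ℤ) - 1) * δ + (p : ℤ) * (s * v) := by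
    intro f s hf1 hf2
    obtain ⟨n, hn⟩ := classInner_char_nat (isCharacter_restrict (isCharacter_of_irr χ.2) D)
      (isCharacter_of_irr (isIrrCharacter_linear f))
    rw [classInner, hcardD, ← (Equiv.ofBijective F hF).sum_comp, Fintype.sum_sum_type] at hn
    simp only [Equiv.ofBijective_apply, F, Sum.elim_inl, Sum.elim_inr, hs2] at hn
    have e1 : ∀ q : (P : Subgroup G), (f ⟨q, hPD q⟩ : ℂ) = 1 := fun q => by
      rw [hf1 ⟨q, hPD q⟩ q.2, Units.val_one]
    have e2 : ∀ q : (P : Subgroup G), (f ⟨_, hPtD q⟩ : ℂ) = (s : ℂ) := fun q => hf2 _ (hcoset q)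
    simp only [e1, e2, map_one, mul_one, map_intCast] at hn
    rw [hs1, Finset.sum_const, Finset.card_univ, ← Nat.card_eq_fintype_card, hPc, nsmul_eq_mul] at hn
    have h2 : (charDegree (χ : G → ℂ) : ℤ) + ((p : ℤ) - 1) * δ + (p : ℤ) * (s * v) =
        2 * (p : ℤ) * n := by
      have hc : (charDegree (χ : G → ℂ) : ℂ) + ((p : ℂ) - 1) * (δ : ℂ) + (p : ℂ) * ((v : ℂ) * (s : ℂ)) =
          2 * (p : ℂ) * (n : ℂ) := by
        rw [← hn, Nat.cast_mul, Nat.cast_ofNat, mul_inv_cancel_left₀]
        exact mul_ne_zero two_ne_zero (Nat.cast_ne_zero.2 hp.ne_zero)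
      rw [mul_comm (v : ℂ)] at hc
      exact_mod_cast hc
    rw [h2]
    positivity
  have hidx : ((P : Subgroup G).subgroupOf D).index = 2 := by
    have h := Subgroup.card_mul_index ((P : Subgroup G).subgroupOf D)
    rw [Nat.card_congr (Subgroup.subgroupOfEquivOfLe (fun q hq => Or.inl hq :
      (P : Subgroup G) ≤ D)).toEquiv, hPc, hcardD, mul_comm 2 p] at h
    exact Nat.eq_of_mul_eq_mul_left hp.pos h
  let sgn : D →* ℂˣ :=
    { toFun := fun g => if (g : G) ∈ (P : Subgroup G) then 1 else -1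
      map_one' := by simp
      map_mul' := fun a b => by
        have h := Subgroup.mul_mem_iff_of_index_two hidx (a := a) (b := b)
        simp only [Subgroup.mem_subgroupOf, Subgroup.coe_mul] at h
        rw [Subgroup.coe_mul]
        by_cases ha : (a : G) ∈ (P : Subgroup G) <;> by_cases hb : (b : G) ∈ (P : Subgroup G) <;>
          simp [ha, hb, h] }
  have h1 := hinner 1 1 (fun g _ => rfl) (fun g _ => by simp)
  have h2 := hinner sgn (-1) (fun g hg => by simp [sgn, hg]) (fun g hg => by simp [sgn, hg])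
  rcases le_total 0 v with hv0 | hv0
  · rw [Int.natAbs_of_nonneg hv0]
    linarith
  · rw [Int.ofNat_natAbs_of_nonpos hv0]
    linarith

/-- The centraliser order of an involution inverting `P` passes the search, it inverts `P`, and the involutions are
conjugate unless the degrees allow another class. -/
theorem exists_classData_inverting (hna : ∃ a b : G, a * b ≠ b * a) (hM : IsPModular p M) (hodd : p ≠ 2)
    (hP : Nat.card P = p) {m e q k : ℕ} (hN : Nat.card G = p * m) (hpm : ¬ p ∣ m)
    (hC : Nat.card (Subgroup.centralizer ((P : Subgroup G) : Set G)) = p) (he2 : 2 ∣ e) (he0 : 0 < e)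
    (hep : e < p)
    (hNe : Nat.card (Subgroup.normalizer ((P : Subgroup G) : Set G)) =
      Nat.card (Subgroup.centralizer ((P : Subgroup G) : Set G)) * e)
    (hq : q = 2 ^ k) (hqd : q ∣ p * m) (S : Shape p M (P : Subgroup G) e) :
    ∃ t c, (orderOf t = 2 ∧ ∀ x ∈ (P : Subgroup G), t * x * t = x⁻¹) ∧ c = Nat.card (Subgroup.centralizer ({t} : Set G)) ∧
      c ∈ involCents p (p * m) ∧ classSearch p m e q [c] = true ∧
      ((∀ z : G, orderOf z = 2 → IsConj t z) ∨
        search (cands p m (p * m) 2 1) (fun as => degOk p m (p * m) 2 e as && zSearch as) (e - 1) []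
          = true) := by
  classical
  have hp : p.Prime := hpf.out
  have hm0 : m ≠ 0 := fun h => Nat.card_pos.ne' (by rw [hN, h, mul_zero] : Nat.card G = 0)
  have hval : (Nat.card G).factorization p = 1 := by
    rw [hN, Nat.factorization_mul hp.ne_zero hm0, Finsupp.add_apply, hp.factorization_self,
      Nat.factorization_eq_zero_of_not_dvd hpm]
  have hreg1 : ¬ p ∣ orderOf (1 : G) := by rw [orderOf_one]; exact hp.not_dvd_one
  obtain ⟨t, ht, hinv⟩ := exists_inverting hodd hP hC he2 hNe
  have hpinv : ∀ z : G, orderOf z = 2 → ¬ p ∣ orderOf z := fun z hz h => by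
    rw [hz] at h
    have := Nat.le_of_dvd two_pos h
    have := hp.two_le
    omega
  obtain ⟨x, hx, hx1⟩ : ∃ x ∈ (P : Subgroup G), x ≠ 1 := by
    refine ((Subgroup.bot_or_exists_ne_one (P : Subgroup G)).resolve_left fun hb => hp.ne_one ?_)
    rw [← hP]; exact Subgroup.card_eq_one.2 hb
  set N := p * m with hNdef
  set L := S.X.toList with hL
  have hLmem : ∀ χ, χ ∈ L ↔ χ ∈ S.X := fun χ => Finset.mem_toList
  set a : IrrCharacter G → ℤ := fun χ => S.δ χ * (charDegree (χ : G → ℂ) : ℤ) with ha
  obtain ⟨ψ, hψ⟩ : S.Y.Nonempty := Finset.card_pos.1 (S.cardY ▸ S.cardY_pos)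
  set db : ℤ := S.ε * (charDegree (ψ : G → ℂ) : ℤ) with hdb
  have hb : 1 + ∑ χ ∈ S.X, a χ = db := (S.degree_relation hp hψ).symm
  have hne : ∀ χ ∈ S.X, χ ≠ oneIrr G := fun χ hχ h => S.one_notX (h ▸ hχ)
  have hneY : ∀ φ ∈ S.Y, φ ≠ oneIrr G := fun φ hφ h => S.one_notY (h ▸ hφ)
  have hdpos : ∀ χ : IrrCharacter G, (charDegree (χ : G → ℂ) : ℂ) ≠ 0 := fun χ =>
    Nat.cast_ne_zero.2 (irr_charDegree_pos χ).ne'
  -- the data at an involution
  have hdata : ∀ z : G, orderOf z = 2 → ∃ u : IrrCharacter G → ℤ,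
      (∀ χ ∈ S.X, (χ : G → ℂ) z = ((S.δ χ * u χ : ℤ) : ℂ) ∧
        u χ ∈ rngZ (a χ) ∧ u χ ∈ parityRange (a χ)) ∧
      (∀ φ ∈ S.Y, (φ : G → ℂ) z = ((S.ε * (1 + ∑ χ ∈ S.X, u χ) : ℤ) : ℂ)) ∧
      (pairCount z z x : ℚ) * (Nat.card (Subgroup.centralizer ({z} : Set G)) : ℚ) ^ 2 =
        (N : ℚ) * classSum (L.map fun χ => (a χ, u χ)) := by
    intro z hz
    choose! v hv1 hv2 hv3 hv4 using fun (χ : IrrCharacter G) (h : χ ∈ S.X) =>
      exists_value (hne χ h) hz
    set u : IrrCharacter G → ℤ := fun χ => S.δ χ * v χ with hu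
    have hδ : ∀ χ ∈ S.X, S.δ χ * S.δ χ = 1 := fun χ hχ => by
      rcases S.sign χ hχ with h | h <;> simp [h]
    have hY : ∀ φ ∈ S.Y, (φ : G → ℂ) z = ((S.ε * (1 + ∑ χ ∈ S.X, u χ) : ℤ) : ℂ) := by
      intro φ hφ
      have h := S.relY φ hφ z (hpinv z hz)
      rw [Finset.sum_congr rfl fun χ hχ => by rw [hv1 χ hχ]] at h
      push_cast [hu]
      rw [← h, ← mul_assoc]
      rcases S.signY with e1 | e1 <;> simp [e1]
    refine ⟨u, fun χ hχ => ⟨?_, ?_, ?_⟩, hY, ?_⟩
    · rw [hu]
      show _ = ((S.δ χ * (S.δ χ * v χ) : ℤ) : ℂ)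
      rw [← mul_assoc, hδ χ hχ, one_mul, hv1 χ hχ]
    · have h1 : u χ ∈ parityRange (a χ) := by
        refine mem_parityRange ?_ ?_
        · rcases S.sign χ hχ with h | h <;> simp [hu, ha, h] <;> exact hv2 χ hχ
        · rw [hu, ha]
          exact dvd_of_eq_int ((hv3 χ hχ).mul_left (S.δ χ)) (by ring)
      simp only [rngZ, List.mem_filter, decide_eq_true_eq]
      refine ⟨h1, fun h => hv4 χ hχ ?_⟩
      have := congrArg (fun k => S.δ χ * k) h
      simp only [hu, ha, ← mul_assoc, hδ χ hχ, one_mul] at this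
      exact this
    · refine mem_parityRange ?_ ?_
      · rcases S.sign χ hχ with h | h <;> simp [hu, ha, h] <;> exact hv2 χ hχ
      · rw [hu, ha]
        exact dvd_of_eq_int ((hv3 χ hχ).mul_left (S.δ χ)) (by ring)
    · have h := pairCount_block hM hP hC hval S hx hx1 z
      have hsumY : ∑ φ ∈ S.Y, (φ : G → ℂ) z ^ 2 / (φ : G → ℂ) 1 * conj ((φ : G → ℂ) x) =
          -((((1 + ∑ χ ∈ S.X, u χ) * (1 + ∑ χ ∈ S.X, u χ) : ℤ) : ℂ) / (db : ℂ)) := by
        rw [Finset.sum_congr rfl fun φ hφ => by
          rw [hY φ hφ, ← irr_charDegree_cast φ, S.charDegree_eq hp hφ hψ],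
          ← Finset.mul_sum, ← map_sum, S.sumY x hx hx1, map_neg, map_intCast, hdb]
        have := hdpos ψ
        rcases S.signY with e1 | e1 <;> simp only [e1] <;> push_cast <;> field_simp <;> ring
      have hsumX : ∑ χ ∈ S.X, (χ : G → ℂ) z ^ 2 / (χ : G → ℂ) 1 * (S.δ χ : ℂ) =
          ∑ χ ∈ S.X, ((u χ * u χ : ℤ) : ℂ) / (a χ : ℂ) := by
        refine Finset.sum_congr rfl fun χ hχ => ?_
        have := hdpos χ
        rw [hv1 χ hχ, ← irr_charDegree_cast χ, hu, ha]
        rcases S.sign χ hχ with h | h <;> simp only [h] <;> push_cast <;> field_simp <;> ring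
      rw [hsumX, hsumY, hN] at h
      have hsq : classSum (L.map fun χ => (a χ, u χ)) = 1 + ∑ χ ∈ S.X, ((u χ * u χ : ℤ) : ℚ) / (a χ : ℚ) -
          ((((1 + ∑ χ ∈ S.X, u χ) * (1 + ∑ χ ∈ S.X, u χ) : ℤ) : ℚ) / (db : ℚ)) := by
        simp only [classSum, List.map_map, hL, Finset.sum_map_toList, Function.comp_def]
        rw [hb]
      rw [hsq]
      apply (algebraMap ℚ ℂ).injective
      simp only [eq_ratCast, Rat.cast_mul, Rat.cast_pow, Rat.cast_natCast, Rat.cast_add,
        Rat.cast_sub, Rat.cast_one, Rat.cast_div, Rat.cast_intCast, Rat.cast_sum, ← hNdef] at h ⊢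
      linear_combination h
  -- the values at `t`
  obtain ⟨u, hu, huY, hteq⟩ := hdata t ht
  rw [pairCount_self hodd hP hC ht hinv hx hx1] at hteq
  set c := Nat.card (Subgroup.centralizer ({t} : Set G)) with hc
  have hcmem : c ∈ involCents p N := by
    simp only [involCents, List.mem_filter, List.mem_range, Bool.and_eq_true, decide_eq_true_eq,
      Bool.not_eq_true', decide_eq_false_iff_not]
    have hcd : c ∣ N := hN ▸ Subgroup.card_subgroup_dvd_card _
    refine ⟨Nat.lt_succ_of_le (Nat.le_of_dvd (hN ▸ Nat.card_pos) hcd),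
      ⟨Nat.mod_eq_zero_of_dvd hcd, ?_⟩, ?_⟩
    · refine Nat.mod_eq_zero_of_dvd ?_
      have := Subgroup.card_dvd_of_le (Subgroup.zpowers_le.2
        (Subgroup.mem_centralizer_singleton_iff.2 rfl) :
        Subgroup.zpowers t ≤ Subgroup.centralizer ({t} : Set G))
      rwa [Nat.card_zpowers, ht] at this
    · intro h
      obtain ⟨w, hw⟩ := exists_prime_orderOf_dvd_card' p (Nat.dvd_of_mod_eq_zero h)
      have hwG : orderOf (w : G) = p := by rw [Subgroup.orderOf_coe, hw]
      obtain ⟨Q, hQ⟩ := (IsPGroup.of_card (n := 1) (by rw [Nat.card_zpowers, hwG, pow_one]) :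
        IsPGroup p (Subgroup.zpowers (w : G))).exists_le_sylow
      obtain ⟨s, hs⟩ := MulAction.exists_smul_eq G Q P
      have hwP : s * w * s⁻¹ ∈ (P : Subgroup G) := by
        rw [← hs]
        exact ⟨w, hQ (Subgroup.mem_zpowers _), rfl⟩
      have hne1 : s * w * s⁻¹ ≠ 1 := by
        rw [Ne, conj_eq_one_iff]
        intro h1
        rw [h1, orderOf_one] at hwG
        exact hp.ne_one hwG.symm
      have htP : s * t * s⁻¹ ∈ (P : Subgroup G) := by
        refine mem_of_commute hP hC hwP hne1 ?_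
        rw [show s * t * s⁻¹ * (s * w * s⁻¹) = s * (t * w) * s⁻¹ by group,
          show s * w * s⁻¹ * (s * t * s⁻¹) = s * (w * t) * s⁻¹ by group,
          (Subgroup.mem_centralizer_singleton_iff.1 w.2 : (w : G) * t = t * w)]
      have h2 := orderOf_eq hP htP (by
        rw [Ne, conj_eq_one_iff]
        intro h1
        rw [h1, orderOf_one] at ht
        omega)
      rw [show s * t * s⁻¹ = MulAut.conj s t from rfl, MulEquiv.orderOf_eq, ht] at h2
      exact hodd h2.symm
  -- the search
  set l := (L.map a).reverse with hl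
  have hlen : l.length = e - 1 := by simp [hl, hL, S.cardX]
  have hsumnorm := S.sum_normSq_le t
  have hzs : ∀ z : G, orderOf z = 2 → ¬ IsConj t z → zSearch (L.map a) = true := by
    intro z hzG hzt
    obtain ⟨w, hw, -, hweq⟩ := hdata z hzG
    rw [pairCount_other hodd hP hC ht hinv hx hx1 hzG hzt, Nat.cast_zero, zero_mul] at hweq
    have hsq0 : classSum (L.map fun χ => (a χ, w χ)) = 0 :=
      (mul_eq_zero.1 hweq.symm).resolve_left (Nat.cast_ne_zero.2 (hN ▸ Nat.card_pos.ne'))
    rw [zSearch, show L.map a = (L.map fun χ => (a χ, w χ)).map Prod.fst by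
      rw [List.map_map]; rfl]
    refine uSearch_complete _ [] (fun y hy => ?_) ?_
    · obtain ⟨χ, hχ, rfl⟩ := List.mem_map.1 hy
      exact (hw χ ((hLmem χ).1 hχ)).2.1
    · simp only [List.append_nil, classSum, List.map_reverse, List.sum_reverse, decide_eq_true_eq]
      exact hsq0
  have hcands : ∀ y ∈ l, y ∈ cands p m (p * m) 2 1 := by
    intro y hy
    rw [hl, List.mem_reverse, List.mem_map] at hy
    obtain ⟨χ, hχ, rfl⟩ := hy
    rw [hLmem] at hχ
    have hn := natAbs_sign_mul (S.sign χ hχ) (charDegree (χ : G → ℂ))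
    have h1 : charDegree (χ : G → ℂ) ^ 2 ≤ ∑ φ ∈ S.X, charDegree (φ : G → ℂ) ^ 2 :=
      Finset.single_le_sum (f := fun φ : IrrCharacter G => charDegree (φ : G → ℂ) ^ 2)
        (fun _ _ => Nat.zero_le _) hχ
    have h2 := S.sum_sq_degree_le
    refine mem_cands hm0 ?_ (by rw [ha, hn]; exact two_le_charDegree hna (hne χ hχ))
      (S.degX χ hχ) ?_
    · rw [ha, hn]
      refine dvd_of_dvd_mul_prime hp (by rw [← hNdef, ← hN]; exact charDegree_dvd_card χ) fun hd => ?_
      have := dvd_sub (dvd_mul_of_dvd_right (Int.natCast_dvd_natCast.2 hd) (S.δ χ)) (S.degX χ hχ)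
      have := Int.le_of_dvd one_pos (by simpa using this : (p : ℤ) ∣ 1)
      have := hp.two_le
      omega
    · rw [ha, hn, ← sq]
      omega
  have hdeg : degOk p m (p * m) 2 e (L.map a) = true := by
    have hn := natAbs_sign_mul S.signY (charDegree (ψ : G → ℂ))
    have hsa : (L.map a).sum = ∑ χ ∈ S.X, a χ := Finset.sum_map_toList _ _
    simp only [degOk, Bool.and_eq_true, decide_eq_true_eq, hsa, hb, hdb, hn]
    refine ⟨⟨⟨?_, two_le_charDegree hna (hneY ψ hψ)⟩, Int.emod_eq_zero_of_dvd (S.degY ψ hψ)⟩, ?_⟩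
    · refine dvd_of_dvd_mul_prime hp (by rw [← hNdef, ← hN]; exact charDegree_dvd_card ψ) fun hd => ?_
      have := dvd_sub (dvd_mul_of_dvd_right (Int.natCast_dvd_natCast.2 hd) S.ε) (S.degY ψ hψ)
      have := Int.le_of_dvd (by omega) (by simpa using this : (p : ℤ) ∣ (e : ℤ))
      omega
    refine le_trans (le_of_eq ?_) (hN ▸ S.sum_sq_degree_le)
    rw [List.map_map, hL, Finset.sum_map_toList, Finset.sum_congr (s₁ := S.X) rfl fun χ hχ => by
        rw [Function.comp_apply, ha, natAbs_sign_mul (S.sign χ hχ), ← sq],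
      Finset.sum_congr (s₁ := S.Y) rfl fun φ hφ => by rw [S.charDegree_eq hp hφ hψ],
      Finset.sum_const, S.cardY, smul_eq_mul, ← sq]
  simp only [classSearch, ← hlen]
  refine ⟨t, c, ⟨ht, hinv⟩, hc, hcmem, search_complete l [] hcands ?_, ?_⟩
  · rw [List.append_nil, hl, List.reverse_reverse]
    rw [Bool.and_eq_true]
    refine ⟨hdeg, ?_⟩
    rw [show L.map a = (L.map fun χ => (a χ, u χ)).map Prod.fst by rw [List.map_map]; rfl]
    refine uSearch_complete _ [] (fun y hy => ?_) ?_
    · obtain ⟨χ, hχ, rfl⟩ := List.mem_map.1 hy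
      rw [hLmem] at hχ
      simp only [rngT, List.mem_filter, decide_eq_true_eq]
      refine ⟨(hu χ hχ).2.2, ?_⟩
      have hb1 := value_bound hodd hP ht hinv (δ := S.δ χ) (v := S.δ χ * u χ) (fun y hy hy1 => by
        have := S.valX χ hχ y hy hy1 1 (one_mem _) hreg1
        rwa [mul_one] at this) (hu χ hχ).1
      zify
      rcases S.sign χ hχ with h | h <;> rw [h] at hb1 <;> simp [ha, h] at hb1 ⊢
      · exact hb1.trans (le_abs.2 (Or.inl (by linarith)))
      · exact hb1.trans (le_abs.2 (Or.inr (by linarith)))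
    · rw [List.append_nil, List.any_eq_true]
      refine ⟨c, List.mem_singleton.2 rfl, ?_⟩
      have hperm := List.reverse_perm (L.map fun χ => (a χ, u χ))
      have hs : classSum (L.map fun χ => (a χ, u χ)).reverse = classSum (L.map fun χ => (a χ, u χ)) := by
        simp only [classSum, List.map_reverse, List.sum_reverse]
      rw [Bool.and_eq_true, Bool.or_eq_true, decide_eq_true_eq]
      refine ⟨?_, ?_⟩
      · simp only [classOk, Bool.and_eq_true, decide_eq_true_eq, hs]
        refine ⟨by rw [← hteq]; push_cast; ring, ?_⟩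
        simp only [List.map_reverse, List.sum_reverse, List.map_map, hL, Finset.sum_map_toList,
          Function.comp_def]
        have hc1 : ∀ χ ∈ S.X, Complex.normSq ((χ : G → ℂ) t) = (((u χ).natAbs * (u χ).natAbs : ℕ) : ℝ) :=
          fun χ hχ => by
          rw [(hu χ hχ).1, Complex.normSq_intCast, Nat.cast_mul, Nat.cast_natAbs, Int.cast_abs,
            abs_mul_abs_self, Int.cast_mul]
          rcases S.sign χ hχ with h | h <;> simp [h]
        have hc2 : ∀ φ ∈ S.Y, Complex.normSq ((φ : G → ℂ) t) =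
            (((1 + ∑ χ ∈ S.X, u χ).natAbs * (1 + ∑ χ ∈ S.X, u χ).natAbs : ℕ) : ℝ) := fun φ hφ => by
          rw [huY φ hφ, Complex.normSq_intCast, Nat.cast_mul, Nat.cast_natAbs, Int.cast_abs,
            abs_mul_abs_self, Int.cast_mul]
          rcases S.signY with h | h <;> simp [h] <;> ring
        rw [Finset.sum_congr rfl hc1, Finset.sum_congr rfl hc2, Finset.sum_const, S.cardY,
          nsmul_eq_mul, ← hc] at hsumnorm
        exact_mod_cast hsumnorm
      · by_contra hcon
        rw [not_or] at hcon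
        obtain ⟨hc1, hc2⟩ := hcon
        refine hc1 (Nat.mod_eq_zero_of_dvd ?_)
        rcases Nat.eq_zero_or_pos k with hk | hk
        · rw [hq, hk, pow_zero]; exact one_dvd _
        obtain ⟨Q⟩ : Nonempty (Sylow 2 G) := inferInstance
        have hqQ : q ∣ Nat.card Q := by
          rw [hq]
          exact Q.pow_dvd_card_of_pow_dvd_card (hq ▸ hN ▸ hqd)
        haveI : Nontrivial Q := Finite.one_lt_card_iff_nontrivial.1 (lt_of_lt_of_le
          (hq ▸ Nat.one_lt_two_pow hk.ne') (Nat.le_of_dvd Nat.card_pos hqQ))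
        haveI : Nontrivial (Subgroup.center Q) := Q.2.center_nontrivial
        obtain ⟨j, hj⟩ := (IsPGroup.to_subgroup Q.2 (Subgroup.center Q)).exists_card_eq
        have hj0 : j ≠ 0 := fun h => by
          rw [h, pow_zero] at hj
          exact (Finite.one_lt_card_iff_nontrivial.2 inferInstance).ne' hj
        obtain ⟨z, hz⟩ := exists_prime_orderOf_dvd_card' (G := Subgroup.center Q) 2
          (hj ▸ dvd_pow_self 2 hj0)
        have hzG : orderOf ((z : Q) : G) = 2 := by
          rw [Subgroup.orderOf_coe, Subgroup.orderOf_coe, hz]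
        have hQle : (Q : Subgroup G) ≤ Subgroup.centralizer ({((z : Q) : G)} : Set G) := fun g hg =>
          Subgroup.mem_centralizer_singleton_iff.2
            (congrArg Subtype.val (Subgroup.mem_center_iff.1 z.2 ⟨g, hg⟩))
        have hqc := hqQ.trans (Subgroup.card_dvd_of_le hQle)
        by_cases hzt : IsConj t ((z : Q) : G)
        · obtain ⟨s, hs⟩ := isConj_iff.1 hzt
          have hcc : Nat.card (Subgroup.centralizer ({((z : Q) : G)} : Set G)) = c := by
            have h1 := card_isConj_mul_card_centralizer t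
            have h2 := card_isConj_mul_card_centralizer ((z : Q) : G)
            rw [Nat.card_congr (Equiv.subtypeEquivRight fun y =>
              (⟨fun h => hzt.trans h, fun h => hzt.symm.trans h⟩ :
                IsConj ((z : Q) : G) y ↔ IsConj t y))] at h2
            refine Nat.eq_of_mul_eq_mul_left ?_ (h2.trans h1.symm)
            haveI : Nonempty {y : G // IsConj t y} := ⟨⟨t, IsConj.refl t⟩⟩
            exact Nat.card_pos
          rwa [hcc] at hqc
        · exfalso
          refine hc2 ?_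
          rw [List.map_map]
          exact hzs _ hzG hzt
  · by_cases hall : ∀ z : G, orderOf z = 2 → IsConj t z
    · exact Or.inl hall
    · obtain ⟨z, hz, hzt⟩ : ∃ z : G, orderOf z = 2 ∧ ¬ IsConj t z := by simpa using hall
      refine Or.inr (search_complete l [] hcands ?_)
      rw [List.append_nil, hl, List.reverse_reverse, Bool.and_eq_true]
      exact ⟨hdeg, hzs z hz hzt⟩

/-- The centraliser order of an involution inverting `P` passes the search, and the involutions are
conjugate unless the degrees allow another class. -/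
theorem exists_classData (hna : ∃ a b : G, a * b ≠ b * a) (hM : IsPModular p M) (hodd : p ≠ 2)
    (hP : Nat.card P = p) {m e q k : ℕ} (hN : Nat.card G = p * m) (hpm : ¬ p ∣ m)
    (hC : Nat.card (Subgroup.centralizer ((P : Subgroup G) : Set G)) = p) (he2 : 2 ∣ e) (he0 : 0 < e)
    (hep : e < p)
    (hNe : Nat.card (Subgroup.normalizer ((P : Subgroup G) : Set G)) =
      Nat.card (Subgroup.centralizer ((P : Subgroup G) : Set G)) * e)
    (hq : q = 2 ^ k) (hqd : q ∣ p * m) (S : Shape p M (P : Subgroup G) e) :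
    ∃ t c, orderOf t = 2 ∧ c = Nat.card (Subgroup.centralizer ({t} : Set G)) ∧
      c ∈ involCents p (p * m) ∧ classSearch p m e q [c] = true ∧
      ((∀ z : G, orderOf z = 2 → IsConj t z) ∨
        search (cands p m (p * m) 2 1) (fun as => degOk p m (p * m) 2 e as && zSearch as) (e - 1) []
          = true) := by
  obtain ⟨t, c, ⟨ht, -⟩, hc, hrest⟩ := exists_classData_inverting hna hM hodd hP hN hpm hC he2 he0 hep hNe hq hqd S
  exact ⟨t, c, ht, hc, hrest⟩

/-- The class search succeeds. -/
theorem classSearch_eq_true (hna : ∃ a b : G, a * b ≠ b * a) (hM : IsPModular p M) (hodd : p ≠ 2)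
    (hP : Nat.card P = p) {m e q k : ℕ} (hN : Nat.card G = p * m) (hpm : ¬ p ∣ m)
    (hC : Nat.card (Subgroup.centralizer ((P : Subgroup G) : Set G)) = p) (he2 : 2 ∣ e) (he0 : 0 < e)
    (hep : e < p)
    (hNe : Nat.card (Subgroup.normalizer ((P : Subgroup G) : Set G)) =
      Nat.card (Subgroup.centralizer ((P : Subgroup G) : Set G)) * e)
    (hq : q = 2 ^ k) (hqd : q ∣ p * m) (S : Shape p M (P : Subgroup G) e) :
    classSearch p m e q (involCents p (p * m)) = true := by
  obtain ⟨t, c, -, -, hmem, hcs, -⟩ := exists_classData hna hM hodd hP hN hpm hC he2 he0 hep hNe hq hqd S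
  refine search_mono (fun as h => ?_) _ _ hcs
  rw [Bool.and_eq_true] at h ⊢
  refine ⟨h.1, uSearch_mono (fun l hl => ?_) _ _ h.2⟩
  rw [List.any_eq_true] at hl ⊢
  obtain ⟨c', hc', hl⟩ := hl
  rw [List.mem_singleton] at hc'
  subst hc'
  exact ⟨c', hmem, hl⟩

end SelfCentralising

end CfsgLib.SmallOrders
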