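import Cfsg.Agent.Lib.SmallOrders.OrderData
import Cfsg.Agent.Lib.Blocks.ThreePrimes

/-!
# There is no simple group of order `459648`
-/

namespace CfsgLib.SmallOrders

open Cfsg CfsgLib.CharTheory CfsgLib.Blocks
open scoped ComplexConjugate

set_option autoImplicit false
set_option linter.unusedVariables false
set_option linter.style.haveILetI false
set_option linter.unusedSectionVars false

universe u

variable {G : Type u} [Group G] [Fintype G] [IsSimpleGroup G]

theorem deg_check_459648 : degCheck 19 24192 [(96, 6), (96, 18), (1008, 6)] = true := by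
  decide +kernel

theorem cands_459648 : cands 19 24192 459648 38 1 = [-56, 96, -189] := by decide +kernel

theorem search_459648 : search (cands 19 24192 459648 38 1)
    (fun l => degOk 19 24192 459648 38 6 l &&
      (decide (1 + l.sum ≠ -108) || !l.contains (-56))) 5 [] = false := by
  decide +kernel

/-- A character of degree divisible by a prime `r` dividing `|G|` once vanishes on elements of order
divisible by `r`; so it is not exceptional-free if `C(P)` has order divisible by `r`. -/
theorem not_dvd_of_centralizer {p r : ℕ} [Fact p.Prime] (hr : r.Prime) (hrp : r ≠ p)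
    {M : Ideal AlgInt} {P : Subgroup G} {e : ℕ} (hP : Nat.card P = p) (S : Shape p M P e)
    (hr1 : (Nat.card G).factorization r = 1)
    (hrC : r ∣ Nat.card (Subgroup.centralizer (P : Set G))) {χ : IrrCharacter G} (hχ : χ ∈ S.X) :
    ¬ r ∣ charDegree (χ : G → ℂ) := by
  classical
  intro hd
  haveI : Fact r.Prime := ⟨hr⟩
  have hp : p.Prime := Fact.out
  obtain ⟨R, hR⟩ := exists_pModular hr
  have hdv : dv r (χ : G → ℂ) = (Nat.card G).factorization r := by
    have h1 : 1 ≤ dv r (χ : G → ℂ) :=
      (hr.dvd_iff_one_le_factorization (irr_charDegree_pos χ).ne').1 hd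
    have h2 : dv r (χ : G → ℂ) ≤ (Nat.card G).factorization r :=
      (Nat.factorization_le_iff_dvd (irr_charDegree_pos χ).ne' Nat.card_pos.ne').2
        (charDegree_dvd_card χ) r
    omega
  obtain ⟨y, hy⟩ := exists_prime_orderOf_dvd_card' (G := Subgroup.centralizer (P : Set G)) r hrC
  obtain ⟨x, hx, hx1⟩ : ∃ x ∈ P, x ≠ (1 : G) := by
    refine ((Subgroup.bot_or_exists_ne_one P).resolve_left fun hb => hp.ne_one ?_)
    rw [← hP]; exact Subgroup.card_eq_one.2 hb
  have hxo : orderOf x = p := by
    refine orderOf_eq_prime ?_ hx1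
    have := pow_card_eq_one' (x := (⟨x, hx⟩ : P))
    rw [hP] at this
    exact congrArg Subtype.val this
  have hyo : orderOf (y : G) = r := by rw [Subgroup.orderOf_coe, hy]
  have hcomm : Commute x (y : G) := Subgroup.mem_centralizer_iff.1 y.2 x hx
  have hxy : orderOf (x * y) = p * r := by
    rw [hcomm.orderOf_mul_eq_mul_orderOf_of_coprime (by
      rw [hxo, hyo]; exact (Nat.coprime_primes hp hr).2 (Ne.symm hrp)), hxo, hyo]
  have hv := S.valX χ hχ x hx hx1 y y.2 (by
    rw [hyo]; exact fun h => hrp ((Nat.prime_dvd_prime_iff_eq hp hr).1 h).symm)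
  rw [ThreePrimes.vanish_of_defZero hR χ hdv (by rw [hxy]; exact dvd_mul_left _ _)] at hv
  rcases S.sign χ hχ with h | h <;> simp [h] at hv

/-- An involution centralising `P` has on a character of the principal block a trace
`d - 4 p j` with `1 ≤ j` and `2 p j ≤ d`. -/
theorem involution_trace {p : ℕ} [Fact p.Prime] (hodd : p ≠ 2) {M : Ideal AlgInt} {P : Subgroup G}
    {e : ℕ} (hna : ∃ a b : G, a * b ≠ b * a) (hP : Nat.card P = p) (S : Shape p M P e) {t : G}
    (ht : orderOf t = 2) (htC : t ∈ Subgroup.centralizer (P : Set G)) {χ : IrrCharacter G}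
    (hχ : χ ∈ S.X ∨ χ ∈ S.Y) :
    ∃ j : ℕ, 1 ≤ j ∧ 2 * p * j ≤ charDegree (χ : G → ℂ) ∧
      (χ : G → ℂ) t = (charDegree (χ : G → ℂ) : ℂ) - 4 * (p : ℂ) * (j : ℂ) := by
  classical
  have hp : p.Prime := Fact.out
  have htp : ¬ p ∣ orderOf t := fun h => hodd
    ((Nat.prime_dvd_prime_iff_eq hp Nat.prime_two).1 (ht ▸ h))
  have hne : χ ≠ oneIrr G := by rintro rfl; exact hχ.elim S.one_notX S.one_notY
  set H := Subgroup.zpowers t with hH
  haveI : Fintype H := Fintype.ofFinite _
  have hcard : Nat.card H = 2 := by rw [hH, Nat.card_zpowers, ht]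
  have ht1 : (⟨t, Subgroup.mem_zpowers t⟩ : H) ≠ 1 := fun h => by
    have := congrArg Subtype.val h
    simp only [Subgroup.coe_one] at this
    rw [this, orderOf_one] at ht
    omega
  have huniv : (Finset.univ : Finset H) = {1, ⟨t, Subgroup.mem_zpowers t⟩} :=
    (Finset.eq_univ_of_card _ (by
      rw [Finset.card_pair (Ne.symm ht1), ← Nat.card_eq_fintype_card, hcard])).symm
  let sgn : H →* ℂˣ :=
    { toFun := fun g => if g = 1 then 1 else -1
      map_one' := by simp
      map_mul' := fun a b => by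
        have ha : a ∈ (Finset.univ : Finset H) := Finset.mem_univ _
        have hb : b ∈ (Finset.univ : Finset H) := Finset.mem_univ _
        have htt : (⟨t, Subgroup.mem_zpowers t⟩ : H) * ⟨t, Subgroup.mem_zpowers t⟩ = 1 :=
          Subtype.ext (by
            show t * t = 1
            rw [← sq, ← ht, pow_orderOf_eq_one])
        rw [huniv, Finset.mem_insert, Finset.mem_singleton] at ha hb
        rcases ha with rfl | rfl <;> rcases hb with rfl | rfl <;> simp [ht1, htt] }
  obtain ⟨ν, hν⟩ : ∃ ν : IrrCharacter H, (ν : H → ℂ) = fun g => (sgn g : ℂ) :=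
    ⟨⟨_, isIrrCharacter_linear sgn⟩, rfl⟩
  have hν1 : (ν : H → ℂ) ≠ fun _ => 1 := fun h => by
    have := congrFun h ⟨t, Subgroup.mem_zpowers t⟩
    rw [hν] at this
    simp [sgn, ht1] at this
    norm_num at this
  obtain ⟨z, hz⟩ : ∃ z : ℤ, classInner (fun q : H => (χ : G → ℂ) q) (ν : H → ℂ) =
      (((p : ℤ) * z : ℤ) : ℂ) := by
    rcases hχ with hχ | hχ
    · obtain ⟨n, hn⟩ := mult_dvd hP htC htp (S.valX χ hχ) ν hν1
      exact ⟨n, by rw [hn]; push_cast; rfl⟩
    · have hX : ∀ φ : {φ // φ ∈ S.X}, ∃ n : ℕ, classInner (fun q : H =>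
          ((φ : IrrCharacter G) : G → ℂ) q) (ν : H → ℂ) = (p * n : ℕ) :=
        fun φ => mult_dvd hP htC htp (S.valX φ φ.2) ν hν1
      choose n hn using hX
      refine ⟨S.ε * ∑ φ ∈ S.X.attach, S.δ φ.1 * (n φ : ℤ), ?_⟩
      have hfun : (fun q : H => (χ : G → ℂ) q) = (S.ε : ℂ) • ((fun _ => 1) +
          ∑ φ ∈ S.X.attach, (S.δ φ.1 : ℂ) • fun q : H => (φ.1 : G → ℂ) q) := by
        funext q
        have h := S.relY χ hχ q fun h => htp (h.trans (orderOf_dvd_of_mem_zpowers q.2))
        simp only [Pi.smul_apply, Pi.add_apply, Finset.sum_apply, smul_eq_mul]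
        rw [Finset.sum_attach S.X (fun φ => (S.δ φ : ℂ) * (φ : G → ℂ) q), ← h, ← mul_assoc,
          ← Int.cast_mul]
        rcases S.signY with e1 | e1 <;> simp [e1]
      rw [hfun, classInner_smul_left, classInner_add_left,
        classInner_irr_ne isIrrCharacter_one ν.2 (Ne.symm hν1), zero_add, classInner_sum_left]
      simp only [classInner_smul_left, hn]
      push_cast
      simp only [Finset.mul_sum]
      exact Finset.sum_congr rfl fun φ _ => by ring
  have hrc : IsCharacter H (fun q : H => (χ : G → ℂ) q) :=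
    isCharacter_restrict (isCharacter_of_irr χ.2) H
  obtain ⟨m, hm⟩ := classInner_char_nat hrc (isCharacter_of_irr ν.2)
  obtain ⟨m', hm'⟩ := classInner_char_nat hrc (isCharacter_one (G := H))
  have hmz : (m : ℤ) = (p : ℤ) * z := by
    rw [hz] at hm
    exact_mod_cast hm.symm
  rw [classInner, hcard, huniv, Finset.sum_pair (Ne.symm ht1)] at hm hm'
  simp only [hν, sgn, MonoidHom.coe_mk, OneHom.coe_mk, ht1, if_true, if_false, Units.val_one,
    Units.val_neg, map_one, map_neg, mul_one, mul_neg, Subgroup.coe_one] at hm hm'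
  rw [← irr_charDegree_cast χ] at hm hm'
  have hv : (χ : G → ℂ) t = (charDegree (χ : G → ℂ) : ℂ) - 2 * (m : ℂ) := by
    push_cast at hm
    linear_combination -2 * hm
  have hsum : m + m' = charDegree (χ : G → ℂ) := by
    have : (m : ℂ) + (m' : ℂ) = (charDegree (χ : G → ℂ) : ℂ) := by
      push_cast at hm hm'
      linear_combination -hm - hm'
    exact_mod_cast this
  have hdec : (fun q : H => (χ : G → ℂ) q) =
      (m' : ℂ) • (fun _ : H => (1 : ℂ)) + (m : ℂ) • (ν : H → ℂ) := by
    funext q
    have hq : q ∈ (Finset.univ : Finset H) := Finset.mem_univ _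
    rw [huniv, Finset.mem_insert, Finset.mem_singleton] at hq
    simp only [Pi.add_apply, Pi.smul_apply, smul_eq_mul, mul_one, hν]
    rcases hq with rfl | rfl
    · simp only [sgn, MonoidHom.coe_mk, OneHom.coe_mk, if_true, Units.val_one, mul_one,
        Subgroup.coe_one, ← irr_charDegree_cast, ← hsum]
      push_cast; ring
    · simp only [sgn, MonoidHom.coe_mk, OneHom.coe_mk, ht1, if_false, Units.val_neg, Units.val_one]
      rw [hv, ← hsum]
      push_cast; ring
  have hdet : detChar (fun q : H => (χ : G → ℂ) q) = fun _ => 1 := by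
    obtain ⟨D, hD⟩ := exists_detHom (isCharacter_of_irr χ.2)
    rw [show (fun q : H => (χ : G → ℂ) q) = fun q => (χ : G → ℂ) (H.subtype q) from rfl,
      detChar_comp (isCharacter_of_irr χ.2) H.subtype, hD]
    funext q
    show (D (q : G) : ℂ) = 1
    rw [hom_trivial hna D, Units.val_one]
  have hpar : Even m := by
    rw [hdec, detChar_add (isCharacter_nsmul isCharacter_one _)
      (isCharacter_nsmul (isCharacter_of_irr ν.2) _), detChar_nsmul isCharacter_one,
      detChar_nsmul (isCharacter_of_irr ν.2), hν, detChar_linear] at hdet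
    have h1 := detChar_linear (1 : H →* ℂˣ)
    simp only [MonoidHom.one_apply, Units.val_one] at h1
    rw [h1] at hdet
    have h := congrFun hdet ⟨t, Subgroup.mem_zpowers t⟩
    simp [sgn, ht1] at h
    exact (neg_one_pow_eq_one_iff_even (by norm_num)).1 h
  have hm0 : m ≠ 0 := fun h => by
    rw [h, Nat.cast_zero, mul_zero, sub_zero, irr_charDegree_cast] at hv
    have := eq_one_of_apply_eq_apply_one hne hv
    rw [this, orderOf_one] at ht
    omega
  obtain ⟨k, hk⟩ := hpar
  have hpk : p ∣ k := by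
    have h2 : p ∣ 2 * k := by
      have : (p : ℤ) ∣ (m : ℤ) := ⟨z, hmz⟩
      rw [two_mul, ← hk]
      exact Int.natCast_dvd_natCast.1 this
    exact (hp.dvd_mul.1 h2).resolve_left fun h => hodd
      ((Nat.prime_dvd_prime_iff_eq hp Nat.prime_two).1 h)
  obtain ⟨j, rfl⟩ := hpk
  refine ⟨j, Nat.pos_of_ne_zero fun h => hm0 (by rw [hk, h, mul_zero, add_zero]), by linarith, ?_⟩
  rw [hv, hk]
  push_cast; ring

/-- There is no simple group of order `459648`. -/
theorem false_of_card_459648 (hG : Nat.card G = 459648) : False := by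
  classical
  haveI : Fact (Nat.Prime 19) := ⟨by norm_num⟩
  have hN : Nat.card G = 19 * 24192 := hG.trans (by norm_num)
  have hna := not_comm hG (by norm_num)
  obtain ⟨M, P, n, e, S, hM, hP, hC, hNe, hmem⟩ :=
    mem_exceptions (p := 19) (m := 24192) (by norm_num) hN (by norm_num) (by norm_num) deg_check_459648
  have hCy : ∀ r : ℕ, r.Prime → r ≠ 19 →
      r ∣ Nat.card (Subgroup.centralizer ((P : Subgroup G) : Set G)) →
      ∃ y ∈ Subgroup.centralizer ((P : Subgroup G) : Set G), orderOf y = r := fun r hr _ hrC => by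
    haveI : Fact r.Prime := ⟨hr⟩
    obtain ⟨y, hy⟩ := exists_prime_orderOf_dvd_card'
      (G := Subgroup.centralizer ((P : Subgroup G) : Set G)) r hrC
    exact ⟨y, y.2, by rw [Subgroup.orderOf_coe, hy]⟩
  have hbig : ∀ χ : IrrCharacter G, χ ∈ S.X ∨ χ ∈ S.Y →
      ∀ r : ℕ, r.Prime → r ≠ 19 → r ∣ Nat.card (Subgroup.centralizer ((P : Subgroup G) : Set G)) →
      38 ≤ charDegree (χ : G → ℂ) := by
    intro χ hχ r hr hr19 hrC
    obtain ⟨y, hy, hyo⟩ := hCy r hr hr19 hrC
    refine Shape.two_p_le hna hP hy ?_ ?_ S hχ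
    · intro h; rw [h, orderOf_one] at hyo; exact hr.one_lt.ne hyo
    · rw [hyo]; exact fun h => hr19 ((Nat.prime_dvd_prime_iff_eq (Fact.out) hr).1 h).symm
  have haX : (∀ χ : IrrCharacter G, χ ∈ S.X ∨ χ ∈ S.Y → 38 ≤ charDegree (χ : G → ℂ)) → 0 < e →
      ∀ χ ∈ S.X, S.δ χ * (charDegree (χ : G → ℂ) : ℤ) ∈ ([-56, 96, -189] : List ℤ) := by
    intro hk he χ hχ
    rw [← cands_459648]
    have hn := natAbs_sign_mul (S.sign χ hχ) (charDegree (χ : G → ℂ))
    refine mem_cands (by norm_num) ?_ (by rw [hn]; exact hk χ (Or.inl hχ)) (S.degX χ hχ) ?_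
    · rw [hn]
      refine dvd_of_dvd_mul_prime (p := 19) Fact.out (hN ▸ charDegree_dvd_card χ) fun hd => ?_
      have := dvd_sub (dvd_mul_of_dvd_right (Int.natCast_dvd_natCast.2 hd) (S.δ χ)) (S.degX χ hχ)
      have := Int.le_of_dvd one_pos (by simpa using this : ((19 : ℕ) : ℤ) ∣ 1)
      omega
    · rw [hn]
      have h1 : charDegree (χ : G → ℂ) ^ 2 ≤ ∑ φ ∈ S.X, charDegree (φ : G → ℂ) ^ 2 :=
        Finset.single_le_sum (f := fun φ : IrrCharacter G => charDegree (φ : G → ℂ) ^ 2)
          (fun _ _ => Nat.zero_le _) hχ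
      have h2 := S.sum_sq_degree_le
      rw [hG] at h2
      rw [← sq]; omega
  obtain ⟨ψ, hψ⟩ : S.Y.Nonempty := Finset.card_pos.1 (S.cardY ▸ S.cardY_pos)
  have hψrel := S.degree_relation (Fact.out : Nat.Prime 19) hψ
  have hψdvd : e = 6 ∨ e = 18 → charDegree (ψ : G → ℂ) ∣ 24192 := fun he => by
    refine dvd_of_dvd_mul_prime (p := 19) Fact.out (hN ▸ charDegree_dvd_card ψ) fun hd => ?_
    have := dvd_sub (dvd_mul_of_dvd_right (Int.natCast_dvd_natCast.2 hd) S.ε) (S.degY ψ hψ)
    have h2 : ((19 : ℕ) : ℤ) ∣ (e : ℤ) := by simpa using this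
    rcases he with rfl | rfl <;> norm_num at h2
  -- the case `n = 96`: `7` divides the centraliser
  have h96 : ∀ c : ℕ, Nat.card (Subgroup.centralizer ((P : Subgroup G) : Set G)) = c → 7 ∣ c →
      e = 6 ∨ e = 18 → False := by
    intro c hc h7 he
    have hfac : (Nat.card G).factorization 7 = 1 :=
      le_antisymm (Nat.le_of_lt_succ (not_le.1 fun hle => by
        have := ((Nat.Prime.pow_dvd_iff_le_factorization (p := 7) (by norm_num) Nat.card_pos.ne').2 hle)
        rw [hG] at this
        norm_num at this))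
        ((Nat.Prime.dvd_iff_one_le_factorization (by norm_num) Nat.card_pos.ne').1 (by
          rw [hG]; norm_num))
    have h7C := hc ▸ h7
    have hX : ∀ χ ∈ S.X, S.δ χ * (charDegree (χ : G → ℂ) : ℤ) = 96 := fun χ hχ => by
      have h1 := haX (fun φ hφ => hbig φ hφ 7 (by norm_num) (by norm_num) h7C)
        (by omega) χ hχ
      have h2 := not_dvd_of_centralizer (by norm_num) (by norm_num) hP S hfac h7C hχ
      have h3 := natAbs_sign_mul (S.sign χ hχ) (charDegree (χ : G → ℂ))
      simp only [List.mem_cons, List.not_mem_nil, or_false] at h1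
      rcases h1 with h1 | h1 | h1
      · rw [h1] at h3
        exact absurd (show 7 ∣ charDegree (χ : G → ℂ) by rw [← h3]; norm_num) h2
      · exact h1
      · rw [h1] at h3
        exact absurd (show 7 ∣ charDegree (χ : G → ℂ) by rw [← h3]; norm_num) h2
    rw [Finset.sum_congr rfl hX, Finset.sum_const, S.cardX, nsmul_eq_mul] at hψrel
    have hd := hψdvd he
    have h4 := natAbs_sign_mul S.signY (charDegree (ψ : G → ℂ))
    rw [hψrel] at h4
    rw [← h4] at hd
    rcases he with rfl | rfl <;> norm_num at hd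
  simp only [List.mem_cons, List.not_mem_nil, or_false, Prod.mk.injEq] at hmem
  rcases hmem with ⟨rfl, rfl⟩ | ⟨rfl, rfl⟩ | ⟨rfl, rfl⟩
  · exact h96 798 (by omega) (by norm_num) (Or.inl rfl)
  · exact h96 266 (by omega) (by norm_num) (Or.inr rfl)
  clear h96
  -- the case `n = 1008`, `e = 6`
  have hc76 : Nat.card (Subgroup.centralizer ((P : Subgroup G) : Set G)) = 76 := by omega
  have h2C : 2 ∣ Nat.card (Subgroup.centralizer ((P : Subgroup G) : Set G)) := by rw [hc76]; norm_num
  have hk : ∀ χ : IrrCharacter G, χ ∈ S.X ∨ χ ∈ S.Y → 38 ≤ charDegree (χ : G → ℂ) :=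
    fun φ hφ => hbig φ hφ 2 Nat.prime_two (by norm_num) h2C
  have hX3 := haX hk (by norm_num)
  -- the degrees
  have hdeg : (1 + ∑ χ ∈ S.X, S.δ χ * (charDegree (χ : G → ℂ) : ℤ) = -108) ∧
      ∃ χ ∈ S.X, S.δ χ * (charDegree (χ : G → ℂ) : ℤ) = -56 := by
    by_contra hcon
    set l := S.X.toList.map fun χ : IrrCharacter G => S.δ χ * (charDegree (χ : G → ℂ) : ℤ) with hl
    have hlen : l.length = 5 := by simp [l, S.cardX]
    have hs := search_459648
    rw [← hlen] at hs
    refine Bool.false_ne_true (hs.symm.trans (search_complete l [] (fun a ha => ?_) ?_))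
    · rw [cands_459648]
      obtain ⟨χ, hχ, rfl⟩ := List.mem_map.1 ha
      exact hX3 χ (Finset.mem_toList.1 hχ)
    · have hls : l.sum = ∑ χ ∈ S.X, S.δ χ * (charDegree (χ : G → ℂ) : ℤ) := Finset.sum_map_toList _ _
      have hn := natAbs_sign_mul S.signY (charDegree (ψ : G → ℂ))
      rw [Bool.and_eq_true, List.append_nil]
      refine ⟨?_, ?_⟩
      · simp only [degOk, Bool.and_eq_true, decide_eq_true_eq, List.sum_reverse, hls, ← hψrel, hn]
        refine ⟨⟨⟨hψdvd (Or.inl rfl), hk ψ (Or.inr hψ)⟩,
          Int.emod_eq_zero_of_dvd (S.degY ψ hψ)⟩, ?_⟩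
        refine le_trans (le_of_eq ?_) (hG ▸ S.sum_sq_degree_le)
        simp only [List.map_reverse, List.sum_reverse, l, List.map_map]
        rw [Finset.sum_map_toList, Finset.sum_congr (s₁ := S.X) rfl fun χ hχ => by
            rw [Function.comp_apply, natAbs_sign_mul (S.sign χ hχ), ← sq],
          Finset.sum_congr (s₁ := S.Y) rfl fun φ hφ => by
            rw [S.charDegree_eq (Fact.out : Nat.Prime 19) hφ hψ],
          Finset.sum_const, S.cardY, smul_eq_mul, ← sq]
      · simp only [List.sum_reverse, Bool.or_eq_true, decide_eq_true_eq, Bool.not_eq_true']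
        by_contra hh
        rw [not_or] at hh
        refine hcon ⟨by rw [← hls]; exact not_not.1 hh.1, ?_⟩
        have : (-56 : ℤ) ∈ l := by
          have := hh.2
          simp only [Bool.not_eq_false, List.contains_iff_mem, List.mem_reverse] at this
          exact this
        obtain ⟨χ, hχ, he⟩ := List.mem_map.1 this
        exact ⟨χ, Finset.mem_toList.1 hχ, he⟩
  obtain ⟨hb, χ₀, hχ₀, hd₀⟩ := hdeg
  have hd56 : charDegree (χ₀ : G → ℂ) = 56 := by
    have := natAbs_sign_mul (S.sign χ₀ hχ₀) (charDegree (χ₀ : G → ℂ))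
    rw [hd₀] at this
    exact this.symm
  have hd108 : charDegree (ψ : G → ℂ) = 108 := by
    have := natAbs_sign_mul S.signY (charDegree (ψ : G → ℂ))
    rw [hψrel, hb] at this
    exact this.symm
  -- there is only one involution in `C(P)`
  obtain ⟨t, htC, ht⟩ := hCy 2 Nat.prime_two (by norm_num) h2C
  have htp : ∀ z : G, orderOf z = 2 → z * z = 1 := fun z hz => by rw [← sq, ← hz, pow_orderOf_eq_one]
  have h56v : ∀ z : G, orderOf z = 2 → z ∈ Subgroup.centralizer ((P : Subgroup G) : Set G) →
      (χ₀ : G → ℂ) z = -20 := by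
    intro z hz hzC
    obtain ⟨j, hj1, hj2, hj3⟩ := involution_trace (by norm_num) hna hP S hz hzC (Or.inl hχ₀)
    rw [hd56] at hj2 hj3
    have : j = 1 := by omega
    rw [hj3, this]; norm_num
  have hcommC : ∀ a ∈ Subgroup.centralizer ((P : Subgroup G) : Set G), orderOf a = 2 →
      ∀ b ∈ Subgroup.centralizer ((P : Subgroup G) : Set G), orderOf b = 2 → a * b = b * a := by
    intro a haC ha b hbC hb2
    haveI : IsCyclic (P : Subgroup G) := isCyclic_of_prime_card hP
    set C := Subgroup.centralizer ((P : Subgroup G) : Set G) with hCdef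
    set K := (P : Subgroup G).subgroupOf C with hK
    haveI : K.Normal := ⟨fun k hk g => by
      rw [hK, Subgroup.mem_subgroupOf] at hk ⊢
      have := Subgroup.mem_centralizer_iff.1 g.2 _ hk
      simp only [Subgroup.coe_mul, Subgroup.coe_inv]
      rwa [← this, mul_inv_cancel_right]⟩
    have hidx : K.index = 4 := by
      have h := Subgroup.card_mul_index K
      rw [Nat.card_congr (Subgroup.subgroupOfEquivOfLe (P : Subgroup G).le_centralizer).toEquiv,
        show Nat.card (P : Subgroup G) = 19 from hP, hc76] at h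
      omega
    haveI : Fact (Nat.Prime 2) := ⟨Nat.prime_two⟩
    letI : CommGroup (C ⧸ K) :=
      IsPGroup.commGroupOfCardEqPrimeSq (p := 2) (by rw [← Subgroup.index]; exact hidx)
    have hmk : ((⟨a, haC⟩ * ⟨b, hbC⟩ * ⟨a, haC⟩ * ⟨b, hbC⟩ : C) : C ⧸ K) = 1 := by
      have h1 : ∀ w : C, orderOf (w : G) = 2 → ((w : C ⧸ K)) * (w : C ⧸ K) = 1 := fun w hw => by
        rw [← QuotientGroup.mk_mul, show w * w = 1 from Subtype.ext (htp _ hw), QuotientGroup.mk_one]
      rw [QuotientGroup.mk_mul, QuotientGroup.mk_mul, QuotientGroup.mk_mul]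
      calc _ = ((⟨a, haC⟩ : C) : C ⧸ K) * ((⟨a, haC⟩ : C) : C ⧸ K) *
            (((⟨b, hbC⟩ : C) : C ⧸ K) * ((⟨b, hbC⟩ : C) : C ⧸ K)) := by
              simp only [mul_comm, mul_left_comm, mul_assoc]
        _ = 1 := by rw [h1 _ ha, h1 _ hb2, one_mul]
    rw [QuotientGroup.eq_one_iff, hK, Subgroup.mem_subgroupOf] at hmk
    set c : G := a * b * a * b with hc
    have hcP : c ∈ (P : Subgroup G) := by simpa [hc] using hmk
    have hac : a * c * a = c⁻¹ := by
      rw [hc, mul_inv_rev, mul_inv_rev, mul_inv_rev, inv_eq_of_mul_eq_one_right (htp _ ha),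
        inv_eq_of_mul_eq_one_right (htp _ hb2),
        show a * (a * b * a * b) * a = a * a * (b * a * b * a) by group, htp _ ha, one_mul]
      group
    have hac' : c⁻¹ = c := by
      rw [← hac, ← Subgroup.mem_centralizer_iff.1 haC c hcP, mul_assoc, htp _ ha, mul_one]
    have hc1 : c = 1 := by
      have hc2 : c ^ 2 = 1 := by
        rw [sq]
        calc c * c = c⁻¹ * c := by rw [hac']
          _ = 1 := inv_mul_cancel c
      have h19 : c ^ 19 = 1 := by
        have := pow_card_eq_one' (x := (⟨c, hcP⟩ : (P : Subgroup G)))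
        rw [show Nat.card (P : Subgroup G) = 19 from hP] at this
        exact congrArg Subtype.val this
      have := pow_gcd_eq_one.2 ⟨h19, hc2⟩
      simpa using this
    calc a * b = a * b * a * b * (b * a) := by
          rw [show a * b * a * b * (b * a) = a * b * a * (b * b) * a by group, htp _ hb2, mul_one,
            show a * b * a * a = a * b * (a * a) by group, htp _ ha, mul_one]
      _ = b * a := by rw [← hc, hc1, one_mul]
  have huniq : ∀ z ∈ Subgroup.centralizer ((P : Subgroup G) : Set G), orderOf z = 2 → z = t := by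
    intro z hzC hz
    by_contra hzt
    have hcomm := hcommC t htC ht z hzC hz
    have hz1 : z ≠ 1 := fun h => by rw [h, orderOf_one] at hz; omega
    have ht1 : t ≠ 1 := fun h => by rw [h, orderOf_one] at ht; omega
    have hw : t * z ≠ 1 := fun h => hzt (by
      rw [← inv_eq_of_mul_eq_one_right h, inv_eq_of_mul_eq_one_right (htp _ ht)])
    have hw2 : orderOf (t * z) = 2 := orderOf_eq_prime (by
      rw [sq, show t * z * (t * z) = t * (z * t) * z by group, ← hcomm,
        show t * (t * z) * z = t * t * (z * z) by group, htp _ ht, htp _ hz, one_mul]) hw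
    let D : Subgroup G :=
      { carrier := {1, t, z, t * z}
        one_mem' := Or.inl rfl
        mul_mem' := by
          have e1 := htp _ ht
          have e2 := htp _ hz
          have e3 : z * t = t * z := hcomm.symm
          have e4 : z * (t * z) = t := by rw [← mul_assoc, e3, mul_assoc, e2, mul_one]
          have e5 : t * z * t = z := by rw [mul_assoc, e3, ← mul_assoc, e1, one_mul]
          have e6 : t * (t * z) = z := by rw [← mul_assoc, e1, one_mul]
          have e7 : t * z * z = t := by rw [mul_assoc, e2, mul_one]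
          have e8 : t * z * (t * z) = 1 := by rw [← sq, ← hw2, pow_orderOf_eq_one]
          rintro a b (rfl | rfl | rfl | rfl) (rfl | rfl | rfl | rfl) <;>
            simp only [Set.mem_insert_iff, Set.mem_singleton_iff, one_mul, mul_one, e1, e2, e3, e4,
              e5, e6, e7, e8, true_or, or_true]
        inv_mem' := by
          rintro a (rfl | rfl | rfl | rfl)
          · exact Or.inl inv_one
          · exact Or.inr (Or.inl (inv_eq_of_mul_eq_one_right (htp _ ht)))
          · exact Or.inr (Or.inr (Or.inl (inv_eq_of_mul_eq_one_right (htp _ hz))))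
          · exact Or.inr (Or.inr (Or.inr (inv_eq_of_mul_eq_one_right (htp _ hw2)))) }
    haveI : Fintype D := Fintype.ofFinite _
    have htD : t ∈ D := Or.inr (Or.inl rfl)
    have hzD : z ∈ D := Or.inr (Or.inr (Or.inl rfl))
    have hwD : t * z ∈ D := Or.inr (Or.inr (Or.inr rfl))
    have ne1 : t ≠ t * z := fun h => hz1 (mul_left_cancel (h.symm.trans (mul_one t).symm))
    have ne2 : z ≠ t * z := fun h => ht1 (mul_right_cancel (h.symm.trans (one_mul z).symm))
    have huniv : (Finset.univ : Finset D) = {1, ⟨t, htD⟩, ⟨z, hzD⟩, ⟨t * z, hwD⟩} := by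
      ext a
      simp only [Finset.mem_univ, Finset.mem_insert, Finset.mem_singleton, true_iff]
      rcases a with ⟨a, rfl | rfl | rfl | rfl⟩ <;>
        simp only [Subtype.ext_iff, Subgroup.coe_one, true_or, or_true]
    obtain ⟨k, hk⟩ := classInner_char_nat
      (isCharacter_restrict (isCharacter_of_irr χ₀.2) D) (isCharacter_one (G := D))
    rw [classInner, huniv, Finset.sum_insert (by simp [Subtype.ext_iff, Ne.symm ht1, Ne.symm hz1, Ne.symm hw]),
      Finset.sum_insert (by simp [Subtype.ext_iff, Ne.symm hzt, ne1]),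
      Finset.sum_insert (by simp [Subtype.ext_iff, ne2]), Finset.sum_singleton] at hk
    simp only [map_one, mul_one, Subgroup.coe_one, ← irr_charDegree_cast, hd56,
      h56v t ht htC, h56v z hz hzC, h56v (t * z) hw2 (mul_mem htC hzC)] at hk
    have hpos : (Nat.card D : ℂ) ≠ 0 := Nat.cast_ne_zero.2 Nat.card_pos.ne'
    rw [inv_mul_eq_iff_eq_mul₀ hpos] at hk
    have : ((Nat.card D * k : ℕ) : ℂ) = ((-4 : ℤ) : ℂ) := by
      push_cast; rw [← hk]; norm_num
    have : ((Nat.card D * k : ℕ) : ℤ) = (-4 : ℤ) := by exact_mod_cast this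
    omega
  -- counting the conjugates of `t`
  set T := Subgroup.centralizer ({t} : Set G) with hT
  have hmod : T.index ≡ 1 [MOD 19] := by
    have hfix := IsPGroup.card_modEq_card_fixedPoints
      (IsPGroup.of_card (p := 19) (n := 1) (by rw [pow_one]; exact hP) : IsPGroup 19 (P : Subgroup G))
      (G ⧸ T)
    have h1 : Nat.card (MulAction.fixedPoints (P : Subgroup G) (G ⧸ T)) = 1 := by
      rw [Nat.card_eq_one_iff_unique]
      refine ⟨⟨fun A B => ?_⟩, ⟨⟨((1 : G) : G ⧸ T), fun q => ?_⟩⟩⟩
      · have key : ∀ A : MulAction.fixedPoints (P : Subgroup G) (G ⧸ T),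
            (A : G ⧸ T) = ((1 : G) : G ⧸ T) := by
          intro A
          obtain ⟨g, hg⟩ := QuotientGroup.mk_surjective (A : G ⧸ T)
          have hgt : g * t * g⁻¹ ∈ Subgroup.centralizer ((P : Subgroup G) : Set G) := by
            refine Subgroup.mem_centralizer_iff.2 fun q hq => ?_
            have h := A.2 ⟨q, hq⟩
            rw [← hg] at h
            change ((q * g : G) : G ⧸ T) = (g : G ⧸ T) at h
            rw [eq_comm, QuotientGroup.eq, hT, Subgroup.mem_centralizer_singleton_iff] at h
            calc q * (g * t * g⁻¹) = g * ((g⁻¹ * (q * g)) * t) * g⁻¹ := by group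
              _ = g * (t * (g⁻¹ * (q * g))) * g⁻¹ := by rw [h]
              _ = g * t * g⁻¹ * q := by group
          have := huniq _ hgt (by
            rw [show g * t * g⁻¹ = MulAut.conj g t from rfl, MulEquiv.orderOf_eq, ht])
          rw [← hg, eq_comm, QuotientGroup.eq, inv_one, one_mul, hT,
            Subgroup.mem_centralizer_singleton_iff]
          calc g * t = g * t * g⁻¹ * g := by group
            _ = t * g := by rw [this]
        exact Subtype.ext ((key A).trans (key B).symm)
      · change (((q : G) * 1 : G) : G ⧸ T) = ((1 : G) : G ⧸ T)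
        rw [mul_one, eq_comm, QuotientGroup.eq, inv_one, one_mul, hT,
          Subgroup.mem_centralizer_singleton_iff]
        exact Subgroup.mem_centralizer_iff.1 htC q q.2
    rw [h1] at hfix
    exact hfix
  -- the bound
  have hbound : 4789 ≤ Nat.card T := by
    have h := S.sum_normSq_le t
    have hX : ∀ χ ∈ S.X, (400 : ℝ) ≤ Complex.normSq ((χ : G → ℂ) t) := by
      intro χ hχ
      obtain ⟨j, hj1, hj2, hj3⟩ := involution_trace (by norm_num) hna hP S ht htC (Or.inl hχ)
      have h3 := hX3 χ hχ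
      have h4 := natAbs_sign_mul (S.sign χ hχ) (charDegree (χ : G → ℂ))
      simp only [List.mem_cons, List.not_mem_nil, or_false] at h3
      have hv : (χ : G → ℂ) t = (((charDegree (χ : G → ℂ) : ℤ) - 76 * (j : ℤ) : ℤ) : ℂ) := by
        rw [hj3]; push_cast; ring
      rw [hv, Complex.normSq_intCast]
      have hint : (400 : ℤ) ≤ ((charDegree (χ : G → ℂ) : ℤ) - 76 * j) *
          ((charDegree (χ : G → ℂ) : ℤ) - 76 * j) := by
        rcases h3 with h3 | h3 | h3 <;> rw [h3] at h4 <;> norm_num at h4 <;> rw [← h4] at hj2 ⊢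
        · obtain rfl : j = 1 := by omega
          norm_num
        · have : j ≤ 2 := by omega
          interval_cases j <;> norm_num
        · have : j ≤ 4 := by omega
          interval_cases j <;> norm_num
      exact_mod_cast hint
    have hY : ∀ φ ∈ S.Y, (1024 : ℝ) ≤ Complex.normSq ((φ : G → ℂ) t) := by
      intro φ hφ
      obtain ⟨j, hj1, hj2, hj3⟩ := involution_trace (by norm_num) hna hP S ht htC (Or.inr hφ)
      rw [S.charDegree_eq (Fact.out : Nat.Prime 19) hφ hψ, hd108] at hj2 hj3
      have : j ≤ 2 := by omega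
      rw [hj3, show ((108 : ℕ) : ℂ) - 4 * ((19 : ℕ) : ℂ) * (j : ℂ) = ((108 - 76 * (j : ℤ) : ℤ) : ℂ) by
        push_cast; ring, Complex.normSq_intCast]
      interval_cases j <;> norm_num
    have h1 := Finset.card_nsmul_le_sum _ _ _ hX
    have h2 := Finset.card_nsmul_le_sum _ _ _ hY
    rw [S.cardX, nsmul_eq_mul] at h1
    rw [S.cardY, nsmul_eq_mul] at h2
    norm_num at h1 h2
    have h3 : (5073 : ℝ) ≤ (Nat.card T : ℝ) := by linarith
    have h4 : 5073 ≤ Nat.card T := by exact_mod_cast h3
    omega
  have hidx : T.index * Nat.card T = 459648 := by rw [Subgroup.index_mul_card, hG]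
  have hne1 : T.index ≠ 1 := fun h => by
    have htop := Subgroup.index_eq_one.1 h
    have htc : t ∈ Subgroup.center G := Subgroup.mem_center_iff.2 fun g => by
      have hg : g ∈ T := by rw [htop]; trivial
      exact (Subgroup.mem_centralizer_singleton_iff.1 hg)
    rcases Subgroup.Normal.eq_bot_or_eq_top (inferInstance : (Subgroup.center G).Normal) with e1 | e1
    · rw [e1, Subgroup.mem_bot] at htc
      rw [htc, orderOf_one] at ht; omega
    · obtain ⟨a, b, hab⟩ := hna
      exact hab ((Subgroup.mem_center_iff.1 (e1 ▸ Subgroup.mem_top b)) a)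
  have hle : T.index < 96 := by
    by_contra hge
    have := Nat.mul_le_mul (not_lt.1 hge) hbound
    omega
  have hdvd : T.index ∣ 459648 := ⟨_, hidx.symm⟩
  have : ∀ k < 96, k ∣ 459648 → k % 19 = 1 → k = 1 := by decide +kernel
  exact hne1 (this _ hle hdvd hmod)

end CfsgLib.SmallOrders
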