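import Cfsg.Agent.Lib.SmallOrders.RangeCheck
import Cfsg.Agent.Lib.SmallOrders.Order459648
import Cfsg.Agent.Lib.SmallOrders.ClassEquation

/-!
# The orders left by the certificates
-/

namespace CfsgLib.SmallOrders

open Cfsg CfsgLib.CharTheory CfsgLib.Blocks
open scoped Pointwise

set_option autoImplicit false
set_option linter.unusedVariables false
set_option linter.style.haveILetI false
set_option linter.unusedSectionVars false

universe u

section Intersection

variable {G : Type u} [Group G] [Finite G] [IsSimpleGroup G]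

/-- Two Sylow subgroups meeting in a subgroup of index `p` give a subgroup of small index. -/
theorem false_of_intersection (hG : ¬ IsMulCommutative G) {p a m : ℕ} [hpf : Fact p.Prime]
    (ha : 2 ≤ a) (hN : Nat.card G = p ^ a * m) (hpm : ¬ p ∣ m)
    (hcount : (List.range (m + 1)).all (fun d =>
      decide (d = 1) || decide (m % d ≠ 0) || decide (d % p ≠ 1) || decide (d % p ^ 2 ≠ 1)) = true)
    (hfac : (List.range (m / (p + 1) + 1)).all (fun i =>
      decide (i.factorial % (p ^ a * m) ≠ 0)) = true) : False := by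
  classical
  have hp : p.Prime := hpf.out
  obtain ⟨P₀⟩ : Nonempty (Sylow p G) := inferInstance
  have hm0 : m ≠ 0 := fun h => hpm (h ▸ dvd_zero p)
  have hval : (Nat.card G).factorization p = a := by
    rw [hN, Nat.factorization_mul (pow_ne_zero _ hp.ne_zero) hm0, Finsupp.add_apply,
      hp.factorization_pow, Finsupp.single_eq_same, Nat.factorization_eq_zero_of_not_dvd hpm,
      add_zero]
  have hPc : ∀ P : Sylow p G, Nat.card (P : Subgroup G) = p ^ a := fun P => by
    rw [show Nat.card (P : Subgroup G) = Nat.card P from rfl, P.card_eq_multiplicity, hval]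
  have hne : Nat.card G ≠ p ^ a := card_ne_sylow hG
  have hn1 : Nat.card (Sylow p G) ≠ 1 := SmallOrder.card_sylow_ne_one P₀
    (by rw [show Nat.card P₀ = p ^ a from hPc P₀]
        exact (Nat.one_lt_pow (by omega) hp.one_lt).ne')
    (by rw [show Nat.card P₀ = p ^ a from hPc P₀]; exact hne)
  have hmem := SmallOrder.card_sylow_mem_filter P₀ (show Nat.card P₀ = p ^ a from hPc P₀) hN
    (pow_ne_zero a hp.ne_zero)
  rw [Finset.mem_filter, Nat.mem_divisors] at hmem
  have hmod : ¬ Nat.card (Sylow p G) ≡ 1 [MOD p ^ 2] := by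
    intro h
    have h1 := List.all_eq_true.1 hcount (Nat.card (Sylow p G))
      (List.mem_range.2 (Nat.lt_succ_of_le (Nat.le_of_dvd (Nat.pos_of_ne_zero hm0) hmem.1.1)))
    simp only [Bool.or_eq_true, decide_eq_true_eq] at h1
    rcases h1 with ((h2 | h2) | h2) | h2
    · exact hn1 h2
    · exact h2 (Nat.mod_eq_zero_of_dvd hmem.1.1)
    · exact h2 hmem.2
    · rw [Nat.ModEq, Nat.mod_eq_of_lt (Nat.one_lt_pow two_ne_zero hp.one_lt)] at h
      exact h2 h
  obtain ⟨P, R, hPR, hidx⟩ := Cfsg.Agent.S0985.result p 2 hmod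
  set D := (P : Subgroup G) ⊓ (R : Subgroup G) with hD
  have hDP : ((R : Subgroup G).subgroupOf (P : Subgroup G)).index = p := by
    obtain ⟨j, -, hj⟩ := (Nat.dvd_prime_pow hp).1
      (hPc P ▸ ((R : Subgroup G).subgroupOf (P : Subgroup G)).index_dvd_card)
    rw [hj, show (2 - 1 : ℕ) = 1 from rfl, Nat.pow_le_pow_iff_right hp.one_lt] at hidx
    rw [hj]
    rcases j with _ | _ | j
    · exfalso
      rw [pow_zero, Subgroup.index_eq_one, Subgroup.subgroupOf_eq_top] at hj
      exact hPR (Sylow.ext (Subgroup.eq_of_le_of_card_ge hj (by rw [hPc, hPc])))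
    · exact pow_one p
    · omega
  have hDcard : Nat.card D * p = p ^ a := by
    have h := ((R : Subgroup G).subgroupOf (P : Subgroup G)).card_mul_index
    rwa [hDP, hPc, ← Subgroup.inf_subgroupOf_left, Nat.card_congr
      (Subgroup.subgroupOfEquivOfLe (inf_le_left : (P : Subgroup G) ⊓ R ≤ P)).toEquiv] at h
  have hnorm : ∀ Q : Sylow p G, D ≤ (Q : Subgroup G) →
      (Q : Subgroup G) ≤ Subgroup.normalizer (D : Set G) := by
    intro Q hDQ
    have hi : (D.subgroupOf (Q : Subgroup G)).index = p := by
      have h := (D.subgroupOf (Q : Subgroup G)).card_mul_index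
      rw [hPc, Nat.card_congr (Subgroup.subgroupOfEquivOfLe hDQ).toEquiv, ← hDcard] at h
      exact Nat.eq_of_mul_eq_mul_left Nat.card_pos h
    have hn : (D.subgroupOf (Q : Subgroup G)).Normal := Subgroup.normal_of_index_eq_minFac_card (by
      rw [hi, hPc, Nat.Prime.pow_minFac hp (by omega)])
    exact (Subgroup.normal_subgroupOf_iff_le_normalizer hDQ).1 hn
  set H := Subgroup.normalizer (D : Set G) with hH
  have hPH := hnorm P inf_le_left
  have hRH := hnorm R inf_le_right
  have hHtop : H ≠ ⊤ := by
    intro h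
    haveI : D.Normal := Subgroup.normalizer_eq_top_iff.1 h
    rcases Subgroup.Normal.eq_bot_or_eq_top (inferInstance : D.Normal) with e | e
    · rw [e, Subgroup.card_bot, one_mul] at hDcard
      have : p ^ 1 < p ^ a := Nat.pow_lt_pow_right hp.one_lt (by omega)
      rw [pow_one, ← hDcard] at this
      exact lt_irrefl _ this
    · have hle : (⊤ : Subgroup G) ≤ P := e ▸ inf_le_left
      exact hne (by rw [← hPc P, top_le_iff.1 hle, Subgroup.card_top])
  let P' : Sylow p H := P.subtype hPH
  let R' : Sylow p H := R.subtype hRH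
  have hne' : P' ≠ R' := fun h => hPR (Sylow.subtype_injective h)
  have hd1 : 1 < Nat.card (Sylow p H) :=
    Finite.one_lt_card_iff_nontrivial.2 (nontrivial_of_ne _ _ hne')
  have hd : p + 1 ≤ Nat.card (Sylow p H) := by
    have h := card_sylow_modEq_one p H
    rw [Nat.ModEq, Nat.mod_eq_of_lt hp.one_lt] at h
    by_contra hlt
    push Not at hlt
    rcases Nat.lt_or_ge (Nat.card (Sylow p H)) p with h2 | h2
    · rw [Nat.mod_eq_of_lt h2] at h; omega
    · rw [show Nat.card (Sylow p H) = p by omega, Nat.mod_self] at h; omega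
  have hHcard : p ^ a * (p + 1) ≤ Nat.card H := by
    rw [← SmallOrder.card_normalizer_mul_card_sylow P']
    refine Nat.mul_le_mul (Nat.le_of_dvd Nat.card_pos ?_) hd
    have : Nat.card (P' : Subgroup H) = p ^ a := by
      show Nat.card ((P : Subgroup G).subgroupOf H) = p ^ a
      rw [Nat.card_congr (Subgroup.subgroupOfEquivOfLe hPH).toEquiv, hPc]
    exact this ▸ Subgroup.card_dvd_of_le Subgroup.le_normalizer
  have hi : H.index ≤ m / (p + 1) := by
    rw [Nat.le_div_iff_mul_le (by omega)]
    refine Nat.le_of_mul_le_mul_left ?_ (pow_pos hp.pos a)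
    rw [← hN, ← H.card_mul_index]
    calc p ^ a * (H.index * (p + 1)) = p ^ a * (p + 1) * H.index := by ring
      _ ≤ Nat.card H * H.index := Nat.mul_le_mul_right _ hHcard
  have h := List.all_eq_true.1 hfac H.index (List.mem_range.2 (Nat.lt_succ_of_le hi))
  rw [decide_eq_true_eq] at h
  exact h (Nat.mod_eq_zero_of_dvd (hN ▸ SmallOrder.card_dvd_factorial_index hHtop))

theorem card_ne_900 (hG : ¬ IsMulCommutative G) : Nat.card G ≠ 900 := fun h => by
  haveI : Fact (Nat.Prime 5) := ⟨by norm_num⟩
  exact false_of_intersection hG (p := 5) (a := 2) (m := 36) le_rfl (h.trans (by norm_num))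
    (by norm_num) (by decide +kernel) (by decide +kernel)

theorem card_ne_4500 (hG : ¬ IsMulCommutative G) : Nat.card G ≠ 4500 := fun h => by
  haveI : Fact (Nat.Prime 5) := ⟨by norm_num⟩
  exact false_of_intersection hG (p := 5) (a := 3) (m := 36) (by norm_num) (h.trans (by norm_num))
    (by norm_num) (by decide +kernel) (by decide +kernel)

theorem card_ne_5292 (hG : ¬ IsMulCommutative G) : Nat.card G ≠ 5292 := fun h => by
  haveI : Fact (Nat.Prime 7) := ⟨by norm_num⟩
  exact false_of_intersection hG (p := 7) (a := 2) (m := 108) le_rfl (h.trans (by norm_num))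
    (by norm_num) (by decide +kernel) (by decide +kernel)

theorem card_ne_6000 (hG : ¬ IsMulCommutative G) : Nat.card G ≠ 6000 := fun h => by
  haveI : Fact (Nat.Prime 5) := ⟨by norm_num⟩
  exact false_of_intersection hG (p := 5) (a := 3) (m := 48) (by norm_num) (h.trans (by norm_num))
    (by norm_num) (by decide +kernel) (by decide +kernel)

end Intersection

variable {G : Type u} [Group G] [Finite G] [IsSimpleGroup G]

/-- Elimination of a self-centralising exception by the class equation. -/
theorem false_of_classSearch [Fintype G] {p m e n q k : ℕ} [hpf : Fact p.Prime] (hodd : p ≠ 2)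
    (hN : Nat.card G = p * m) (hpm : ¬ p ∣ m) (hm : 1 < m) (hmul : n * e = m) (hev : 2 ∣ e)
    (he0 : 0 < e) (hep : e < p) (hq : q = 2 ^ k) (hqd : q ∣ p * m)
    (hcheck : degCheck p m [(n, e)] = true)
    (hfalse : classSearch p m e q (involCents p (p * m)) = false) : False := by
  obtain ⟨M, P, n', e', S, hM, hP, hC, hNe, hmem⟩ := mem_exceptions hodd hN hpm hm hcheck
  obtain ⟨rfl, rfl⟩ : n' = n ∧ e' = e := by simpa using hmem
  have hC' : Nat.card (Subgroup.centralizer ((P : Subgroup G) : Set G)) = p := by
    rw [hmul] at hC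
    exact Nat.eq_of_mul_eq_mul_right (by omega) hC
  have hcs := classSearch_eq_true (q := q) (k := k)
    (not_comm hN (Nat.not_prime_mul hpf.out.ne_one hm.ne')) hM hodd hP hN hpm hC' hev he0 hep hNe
    hq hqd S
  rw [hfalse] at hcs
  exact Bool.false_ne_true hcs

theorem card_ne_720 : Nat.card G ≠ 720 := fun h => by
  haveI := Fintype.ofFinite G
  haveI : Fact (Nat.Prime 5) := ⟨by norm_num⟩
  exact false_of_classSearch (G := G) (p := 5) (m := 144) (n := 36) (e := 4) (q := 16) (k := 4)
    (by norm_num) (h.trans (by norm_num)) (by norm_num) (by norm_num) (by norm_num) (by norm_num)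
    (by norm_num) (by norm_num) (by norm_num) (by norm_num) (by decide +kernel) (by decide +kernel)

theorem card_ne_960 : Nat.card G ≠ 960 := fun h => by
  haveI := Fintype.ofFinite G
  haveI : Fact (Nat.Prime 5) := ⟨by norm_num⟩
  exact false_of_classSearch (G := G) (p := 5) (m := 192) (n := 96) (e := 2) (q := 64) (k := 6)
    (by norm_num) (h.trans (by norm_num)) (by norm_num) (by norm_num) (by norm_num) (by norm_num)
    (by norm_num) (by norm_num) (by norm_num) (by norm_num) (by decide +kernel) (by decide +kernel)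

theorem card_ne_5460 : Nat.card G ≠ 5460 := fun h => by
  haveI := Fintype.ofFinite G
  haveI : Fact (Nat.Prime 13) := ⟨by norm_num⟩
  exact false_of_classSearch (G := G) (p := 13) (m := 420) (n := 105) (e := 4) (q := 4) (k := 2)
    (by norm_num) (h.trans (by norm_num)) (by norm_num) (by norm_num) (by norm_num) (by norm_num)
    (by norm_num) (by norm_num) (by norm_num) (by norm_num) (by decide +kernel) (by decide +kernel)

/-- The lists of degrees of order `4620` have an entry divisible by `5`. -/
theorem search_4620 : search (cands 7 660 (7 * 660) 14 1)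
    (fun l => degOk 7 660 (7 * 660) 14 6 l && !(l.any fun x => decide (x % 5 = 0))) (6 - 1) [] =
      false := by decide +kernel

theorem card_ne_4620 : Nat.card G ≠ 4620 := fun h => by
  classical
  haveI := Fintype.ofFinite G
  haveI : Fact (Nat.Prime 7) := ⟨by norm_num⟩
  have hN : Nat.card G = 7 * 660 := h.trans (by norm_num)
  have hna := not_comm hN (by norm_num)
  obtain ⟨M, P, n, e, S, hM, hP, hC, hNe, hmem⟩ := mem_exceptions (p := 7) (m := 660)
    (exc := [(22, 6), (330, 2)]) (by norm_num) hN (by norm_num) (by norm_num) (by decide +kernel)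
  simp only [List.mem_cons, Prod.mk.injEq, List.not_mem_nil, or_false] at hmem
  rcases hmem with ⟨rfl, rfl⟩ | ⟨rfl, rfl⟩
  · have hc : Nat.card (Subgroup.centralizer ((P : Subgroup G) : Set G)) = 35 := by omega
    have h5 : 5 ∣ Nat.card (Subgroup.centralizer ((P : Subgroup G) : Set G)) := by rw [hc]; norm_num
    haveI : Fact (Nat.Prime 5) := ⟨by norm_num⟩
    obtain ⟨y, hy⟩ := exists_prime_orderOf_dvd_card'
      (G := Subgroup.centralizer ((P : Subgroup G) : Set G)) 5 h5
    have hyo : orderOf (y : G) = 5 := by rw [Subgroup.orderOf_coe, hy]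
    have hk : ∀ χ : IrrCharacter G, χ ∈ S.X ∨ χ ∈ S.Y → 14 ≤ charDegree (χ : G → ℂ) :=
      fun χ hχ => Shape.two_p_le (p := 7) hna hP y.2
        (fun h1 => by rw [h1, orderOf_one] at hyo; omega) (by rw [hyo]; norm_num) S hχ
    have h51 : (Nat.card G).factorization 5 = 1 := by
      rw [h, show 4620 = 5 * 924 by norm_num, Nat.factorization_mul (by norm_num) (by norm_num),
        Finsupp.add_apply, Nat.Prime.factorization_self (by norm_num),
        Nat.factorization_eq_zero_of_not_dvd (by norm_num)]
    obtain ⟨ψ, hψ⟩ : S.Y.Nonempty := Finset.card_pos.1 (S.cardY ▸ S.cardY_pos)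
    have hdvd : ∀ (χ : IrrCharacter G) (s : ℤ) (r : ℕ), 0 < r → r < 7 →
        ((7 : ℕ) : ℤ) ∣ s * charDegree (χ : G → ℂ) - r → charDegree (χ : G → ℂ) ∣ 660 := by
      intro χ s r hr0 hrp h'
      refine dvd_of_dvd_mul_prime (by norm_num : Nat.Prime 7) (hN ▸ charDegree_dvd_card χ) fun hd => ?_
      have : ((7 : ℕ) : ℤ) ∣ (r : ℤ) := by
        have := dvd_sub (dvd_mul_of_dvd_right (Int.natCast_dvd_natCast.2 hd) s) h'
        simpa using this
      have := Nat.le_of_dvd hr0 (Int.natCast_dvd_natCast.1 this)
      omega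
    have hsq := S.sum_sq_degree_le
    set l := S.X.toList.map fun χ : IrrCharacter G => S.δ χ * (charDegree (χ : G → ℂ) : ℤ) with hl
    have hb : 1 + l.sum = S.ε * charDegree (ψ : G → ℂ) := by
      rw [hl, Finset.sum_map_toList, S.degree_relation (by norm_num) hψ]
    have hn := natAbs_sign_mul S.signY (charDegree (ψ : G → ℂ))
    have htrue := search_complete (A := cands 7 660 (7 * 660) 14 1)
      (ok := fun l => degOk 7 660 (7 * 660) 14 6 l && !(l.any fun x => decide (x % 5 = 0))) l []
      (fun a ha => ?_) ?_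
    · rw [show l.length = 6 - 1 by simp [hl, S.cardX], search_4620] at htrue
      exact Bool.false_ne_true htrue
    · obtain ⟨χ, hχ, rfl⟩ := List.mem_map.1 ha
      rw [Finset.mem_toList] at hχ
      have hn := natAbs_sign_mul (S.sign χ hχ) (charDegree (χ : G → ℂ))
      refine mem_cands (by norm_num) ?_ (by rw [hn]; exact hk χ (Or.inl hχ)) (S.degX χ hχ) ?_
      · rw [hn]; exact hdvd χ _ 1 one_pos (by norm_num) (by simpa using S.degX χ hχ)
      · have h1 : charDegree (χ : G → ℂ) ^ 2 ≤ ∑ φ ∈ S.X, charDegree (φ : G → ℂ) ^ 2 :=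
          Finset.single_le_sum (f := fun φ : IrrCharacter G => charDegree (φ : G → ℂ) ^ 2)
            (fun _ _ => Nat.zero_le _) hχ
        rw [hn, ← sq, ← hN]
        omega
    · simp only [List.append_nil, Bool.and_eq_true, Bool.not_eq_true', decide_eq_true_eq, degOk,
        List.sum_reverse, hb, hn]
      refine ⟨⟨⟨⟨hdvd ψ _ 6 (by norm_num) (by norm_num) (S.degY ψ hψ), hk ψ (Or.inr hψ)⟩,
        Int.emod_eq_zero_of_dvd (S.degY ψ hψ)⟩, ?_⟩, ?_⟩
      · rw [List.map_reverse, List.sum_reverse, ← hN]
        refine le_trans (le_of_eq ?_) hsq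
        simp only [hl, List.map_map]
        rw [Finset.sum_map_toList, Finset.sum_congr (s₁ := S.X) rfl fun χ hχ => by
            rw [Function.comp_apply, natAbs_sign_mul (S.sign χ hχ), ← sq],
          Finset.sum_congr (s₁ := S.Y) rfl fun θ hθ => by rw [S.charDegree_eq (by norm_num) hθ hψ],
          Finset.sum_const, S.cardY, smul_eq_mul, sq (charDegree (ψ : G → ℂ))]
      · rw [← Bool.not_eq_true, List.any_eq_true]
        rintro ⟨x, hx, hx5⟩
        rw [List.mem_reverse, hl, List.mem_map] at hx
        obtain ⟨χ, hχ, rfl⟩ := hx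
        rw [Finset.mem_toList] at hχ
        rw [decide_eq_true_eq] at hx5
        refine not_dvd_of_centralizer (r := 5) (by norm_num) (by norm_num) hP S h51 h5 hχ ?_
        rcases S.sign χ hχ with hs | hs <;> rw [hs] at hx5 <;> omega
  · have hc : Nat.card (Subgroup.centralizer ((P : Subgroup G) : Set G)) = 7 := by omega
    have hcs := classSearch_eq_true (q := 4) (k := 2) hna hM (by norm_num) hP hN (by norm_num) hc
      (by norm_num) (by norm_num) (by norm_num) hNe (by norm_num) (by norm_num) S
    have hfalse : classSearch 7 660 2 4 (involCents 7 (7 * 660)) = false := by decide +kernel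
    rw [hfalse] at hcs
    exact Bool.false_ne_true hcs

end CfsgLib.SmallOrders
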