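import Cfsg.Agent.Lib.SmallOrders.OrdersBelow3641
import Cfsg.Agent.Lib.SmallOrders.RangeExceptions
import Cfsg.Agent.S0998
import Cfsg.Agent.Lib.SLCard

/-!
# There are three orders of simple groups between 1093 and 3640
-/

namespace CfsgLib.SmallOrders

open Cfsg CfsgLib.CharTheory CfsgLib.Blocks MulAction
open scoped Pointwise IsMulCommutative

set_option autoImplicit false
set_option linter.unusedVariables false
set_option linter.style.haveILetI false
set_option linter.unusedSectionVars false

universe u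

variable {G : Type u} [Group G] [Finite G] [IsSimpleGroup G]

theorem gcd_mul_card_psl_two (F : Type*) [Field F] [Fintype F] {q : ℕ} (hF : Fintype.card F = q) :
    Nat.gcd 2 (q - 1) * Nat.card (Matrix.ProjectiveSpecialLinearGroup (Fin 2) F) = q * (q ^ 2 - 1) := by
  rw [← hF, SLCard.gcd_mul_card_PSL (by norm_num), SLCard.card_SL_two]

theorem card_ne_1404 : Nat.card G ≠ 1404 := fun h => by
  haveI := Fintype.ofFinite G
  haveI : Fact (Nat.Prime 13) := ⟨by norm_num⟩
  exact false_of_classSearch (G := G) (p := 13) (m := 108) (n := 27) (e := 4) (q := 4) (k := 2)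
    (by norm_num) (h.trans (by norm_num)) (by norm_num) (by norm_num) (by norm_num) (by norm_num)
    (by norm_num) (by norm_num) (by norm_num) (by norm_num) (by decide +kernel) (by decide +kernel)

theorem card_ne_1620 : Nat.card G ≠ 1620 := fun h => by
  haveI := Fintype.ofFinite G
  haveI : Fact (Nat.Prime 5) := ⟨by norm_num⟩
  exact false_of_classSearch (G := G) (p := 5) (m := 324) (n := 81) (e := 4) (q := 4) (k := 2)
    (by norm_num) (h.trans (by norm_num)) (by norm_num) (by norm_num) (by norm_num) (by norm_num)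
    (by norm_num) (by norm_num) (by norm_num) (by norm_num) (by decide +kernel) (by decide +kernel)

theorem card_ne_2160 : Nat.card G ≠ 2160 := fun h => by
  haveI := Fintype.ofFinite G
  haveI : Fact (Nat.Prime 5) := ⟨by norm_num⟩
  exact false_of_classSearch (G := G) (p := 5) (m := 432) (n := 216) (e := 2) (q := 16) (k := 4)
    (by norm_num) (h.trans (by norm_num)) (by norm_num) (by norm_num) (by norm_num) (by norm_num)
    (by norm_num) (by norm_num) (by norm_num) (by norm_num) (by decide +kernel) (by decide +kernel)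

theorem card_ne_2400 : Nat.card G ≠ 2400 := fun h => by
  haveI := Fintype.ofFinite G
  haveI : Fact (Nat.Prime 3) := ⟨by norm_num⟩
  exact false_of_classSearch (G := G) (p := 3) (m := 800) (n := 400) (e := 2) (q := 32) (k := 5)
    (by norm_num) (h.trans (by norm_num)) (by norm_num) (by norm_num) (by norm_num) (by norm_num)
    (by norm_num) (by norm_num) (by norm_num) (by norm_num) (by decide +kernel) (by decide +kernel)

theorem card_ne_1764 (hG : ¬ IsMulCommutative G) : Nat.card G ≠ 1764 := fun h => by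
  haveI : Fact (Nat.Prime 7) := ⟨by norm_num⟩
  exact false_of_intersection hG (p := 7) (a := 2) (m := 36) le_rfl (h.trans (by norm_num)) (by norm_num)
    (by decide +kernel) (by decide +kernel)

theorem card_ne_3528 (hG : ¬ IsMulCommutative G) : Nat.card G ≠ 3528 := fun h => by
  haveI : Fact (Nat.Prime 7) := ⟨by norm_num⟩
  exact false_of_intersection hG (p := 7) (a := 2) (m := 72) le_rfl (h.trans (by norm_num)) (by norm_num)
    (by decide +kernel) (by decide +kernel)

theorem card_ne_1344 (hG : ¬ IsMulCommutative G) : Nat.card G ≠ 1344 := fun h => by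
  have hcyc : ¬ IsCyclic G := fun hc => hG hc.isMulCommutative
  rcases Cfsg.Agent.S0998.result hcyc 7 2 3 6 (by norm_num) Nat.prime_two Nat.prime_three (by norm_num)
    (by norm_num) (by norm_num) (h.trans (by norm_num)) with
    ⟨F, _, _, hF, ⟨e⟩⟩ | ⟨F, _, _, hF, ⟨e⟩⟩
  · have h2 := gcd_mul_card_psl_two F hF
    rw [← Nat.card_congr e.toEquiv, h] at h2
    norm_num at h2
  · have h2 := gcd_mul_card_psl_two F hF
    rw [← Nat.card_congr e.toEquiv, h] at h2
    norm_num at h2

/-- An involution inverting a self-centralising `P` is centralised by an element of order `r`. -/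
theorem dvd_cent [Fintype G] {p r : ℕ} [hpf : Fact p.Prime] [hrf : Fact r.Prime] {P : Sylow p G} (hodd : p ≠ 2)
    (hP : Nat.card P = p)
    (hC : Nat.card (Subgroup.centralizer ((P : Subgroup G) : Set G)) = p) {t : G} (ht : orderOf t = 2)
    (hinv : ∀ x ∈ (P : Subgroup G), t * x * t = x⁻¹)
    (hr : r ∣ Nat.card (Subgroup.normalizer ((P : Subgroup G) : Set G))) (hrp : ¬ r ∣ p) :
    r ∣ Nat.card (Subgroup.centralizer ({t} : Set G)) := by
  classical
  obtain ⟨w, hw⟩ := exists_prime_orderOf_dvd_card' r hr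
  have hwo : orderOf (w : G) = r := by rw [Subgroup.orderOf_coe, hw]
  obtain ⟨x, hx, hx1⟩ : ∃ x ∈ (P : Subgroup G), x ≠ 1 := by
    refine ((Subgroup.bot_or_exists_ne_one (P : Subgroup G)).resolve_left fun hb => hpf.out.ne_one ?_)
    rw [← hP]; exact Subgroup.card_eq_one.2 hb
  have htt : t * t = 1 := by rw [← sq, ← ht, pow_orderOf_eq_one]
  have hmem : ∀ g : G, g ∈ Subgroup.zpowers (w : G) → ∀ q ∈ (P : Subgroup G),
      g * (q * t) * g⁻¹ * t ∈ (P : Subgroup G) := by
    intro g hg q hq
    have hgN : g ∈ Subgroup.normalizer ((P : Subgroup G) : Set G) :=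
      Subgroup.zpowers_le.2 w.2 hg
    have hgq : g * q * g⁻¹ ∈ (P : Subgroup G) := (Subgroup.mem_normalizer_iff.1 hgN q).1 hq
    have hga : g * t * g⁻¹ * t ∈ (P : Subgroup G) := by
      refine invert_mul_mem hP hC ht hinv hx hx1 ?_ (by rw [conj_mul, htt]; group)
      have hy : g⁻¹ * x * g ∈ (P : Subgroup G) := (Subgroup.mem_normalizer_iff''.1 hgN x).1 hx
      calc g * t * g⁻¹ * x * (g * t * g⁻¹) = g * (t * (g⁻¹ * x * g) * t) * g⁻¹ := by group
        _ = g * (g⁻¹ * x * g)⁻¹ * g⁻¹ := by rw [hinv _ hy]
        _ = x⁻¹ := by group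
    have := mul_mem hgq hga
    rwa [show g * q * g⁻¹ * (g * t * g⁻¹ * t) = g * (q * t) * g⁻¹ * t by group] at this
  -- the action on the involutions of the coset
  letI act : MulAction (Subgroup.zpowers (w : G)) (P : Subgroup G) :=
    { smul := fun g q => ⟨(g : G) * ((q : G) * t) * (g : G)⁻¹ * t, hmem g g.2 q q.2⟩
      one_smul := fun q => Subtype.ext (by
        show (1 : G) * ((q : G) * t) * (1 : G)⁻¹ * t = q
        rw [inv_one, one_mul, mul_one, mul_assoc, htt, mul_one])
      mul_smul := fun g g' q => Subtype.ext (by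
        show ((g * g' : Subgroup.zpowers (w : G)) : G) * ((q : G) * t) * ((g * g' : Subgroup.zpowers (w : G)) : G)⁻¹ * t =
          (g : G) * ((g' : G) * ((q : G) * t) * (g' : G)⁻¹ * t * t) * (g : G)⁻¹ * t
        rw [Subgroup.coe_mul, mul_assoc ((g' : G) * ((q : G) * t) * (g' : G)⁻¹) t t, htt]
        group) }
  have hpg : IsPGroup r (Subgroup.zpowers (w : G)) := IsPGroup.of_card (n := 1) (by
    rw [Nat.card_zpowers, hwo, pow_one])
  obtain ⟨q, hq⟩ := hpg.nonempty_fixed_point_of_prime_not_dvd_card (P : Subgroup G) (by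
    rw [show Nat.card (P : Subgroup G) = p from hP]; exact hrp)
  have hfix : (w : G) * ((q : G) * t) * (w : G)⁻¹ * t = q :=
    congrArg Subtype.val (hq ⟨(w : G), Subgroup.mem_zpowers _⟩)
  have hcomm : (w : G) * ((q : G) * t) * (w : G)⁻¹ = (q : G) * t := by
    conv_rhs => rw [← hfix]
    rw [mul_assoc _ t t, htt, mul_one]
  obtain ⟨s, hs⟩ := isConj_iff.1 (isConj_mul hodd hP ht hinv q.2)
  rw [← hwo, show orderOf (w : G) = orderOf (s⁻¹ * (w : G) * s) by
    rw [show s⁻¹ * (w : G) * s = MulAut.conj s⁻¹ (w : G) by simp, MulEquiv.orderOf_eq]]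
  refine Subgroup.orderOf_dvd_natCard _ (Subgroup.mem_centralizer_singleton_iff.2 ?_)
  rw [mul_inv_eq_iff_eq_mul, ← hs] at hcomm
  calc s⁻¹ * (w : G) * s * t = s⁻¹ * ((w : G) * (s * t * s⁻¹)) * s := by group
    _ = s⁻¹ * (s * t * s⁻¹ * (w : G)) * s := by rw [hcomm]
    _ = t * (s⁻¹ * (w : G) * s) := by group

theorem classSearch_1512 : (involCents 7 (7 * 216)).all (fun c =>
    decide (c % 3 ≠ 0) || !classSearch 7 216 6 8 [c]) = true := by decide +kernel

theorem card_ne_1512 : Nat.card G ≠ 1512 := fun h => by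
  classical
  haveI := Fintype.ofFinite G
  haveI : Fact (Nat.Prime 7) := ⟨by norm_num⟩
  haveI : Fact (Nat.Prime 3) := ⟨Nat.prime_three⟩
  have hN : Nat.card G = 7 * 216 := h.trans (by norm_num)
  obtain ⟨M, P, n, e, S, hM, hP, hC, hNe, hmem⟩ := mem_exceptions (p := 7) (m := 216)
    (exc := [(36, 6)]) (by norm_num) hN (by norm_num) (by norm_num) (by decide +kernel)
  obtain ⟨rfl, rfl⟩ : n = 36 ∧ e = 6 := by simpa using hmem
  have hC' : Nat.card (Subgroup.centralizer ((P : Subgroup G) : Set G)) = 7 := by omega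
  obtain ⟨t, c, ⟨ht, hinv⟩, hc, hcmem, hcs, -⟩ := exists_classData_inverting (q := 8) (k := 3)
    (not_comm hN (by norm_num)) hM (by norm_num) hP hN (by norm_num) hC' (by norm_num) (by norm_num)
    (by norm_num) hNe (by norm_num) (by norm_num) S
  have h3 := dvd_cent (r := 3) (by norm_num) hP hC' ht hinv (by rw [hNe, hC']; norm_num) (by norm_num)
  rw [← hc] at h3
  have := List.all_eq_true.1 classSearch_1512 c hcmem
  rw [hcs] at this
  simp only [Bool.not_true, Bool.or_false, decide_eq_true_eq] at this
  exact this (Nat.mod_eq_zero_of_dvd h3)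

/-- Centralisers of elements of prime order `p`, when `p` divides the order once. -/
theorem cent_eq {p : ℕ} [hpf : Fact p.Prime] (P : Sylow p G) (hP : Nat.card P = p) {y : G} (hy : orderOf y = p) :
    Nat.card (Subgroup.centralizer ({y} : Set G)) = Nat.card (Subgroup.centralizer ((P : Subgroup G) : Set G)) := by
  obtain ⟨Q, hQ⟩ := (IsPGroup.of_card (n := 1) (by rw [Nat.card_zpowers, hy, pow_one]) :
    IsPGroup p (Subgroup.zpowers y)).exists_le_sylow
  obtain ⟨s, hs⟩ := MulAction.exists_smul_eq G Q P
  set a := s * y * s⁻¹ with ha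
  have hPa : Subgroup.zpowers a = (P : Subgroup G) := by
    refine Subgroup.eq_of_le_of_card_ge (Subgroup.zpowers_le.2 ?_) ?_
    · rw [ha, ← hs, Sylow.coe_subgroup_smul]
      exact ⟨y, hQ (Subgroup.mem_zpowers y), rfl⟩
    · rw [Nat.card_zpowers, ha, show orderOf (s * y * s⁻¹) = orderOf y by
        rw [← MulAut.conj_apply, MulEquiv.orderOf_eq], hy]
      exact hP.le
  rw [← hPa]
  refine Nat.card_congr ((MulAut.conj s).toEquiv.subtypeEquiv fun g => ?_)
  simp only [MulEquiv.toEquiv_eq_coe, MulEquiv.coe_toEquiv, MulAut.conj_apply,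
    Subgroup.mem_centralizer_iff]
  constructor
  · rintro h _ ⟨k, rfl⟩
    show (s * y * s⁻¹) ^ k * (s * g * s⁻¹) = s * g * s⁻¹ * (s * y * s⁻¹) ^ k
    rw [conj_zpow, conj_mul, conj_mul,
      ((show Commute g y from (h y rfl).symm).zpow_right k).eq]
  · intro h z hz
    rw [Set.mem_singleton_iff] at hz
    subst hz
    have h1 := h a (Subgroup.mem_zpowers a)
    rw [ha, conj_mul, conj_mul] at h1
    exact mul_left_cancel (mul_right_cancel h1)

/-- An element of order seven centralised by an involution moves twenty one points oddly. -/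
theorem false_of_even_cent (hG : ¬ IsMulCommutative G) [Fact (Nat.Prime 5)] (h21 : Nat.card (Sylow 5 G) = 21)
    (h7N : ¬ 7 ∣ Nat.card G / 21) {x z : G} (hx : orderOf x = 7) (hz : orderOf z = 2)
    (hxz : x * z = z * x) : False := by
  classical
  haveI : Fintype G := Fintype.ofFinite G
  haveI : Fintype (Sylow 5 G) := Fintype.ofFinite _
  haveI : Fact (Nat.Prime 7) := ⟨by norm_num⟩
  have hcard : Fintype.card (Sylow 5 G) = 21 := by rw [← Nat.card_eq_fintype_card, h21]
  let φ : G →* Equiv.Perm (Sylow 5 G) := MulAction.toPermHom G (Sylow 5 G)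
  have hinj : Function.Injective φ := by
    rw [← MonoidHom.ker_eq_bot_iff]
    refine ((inferInstance : φ.ker.Normal).eq_bot_or_eq_top).resolve_right fun htop => ?_
    obtain ⟨a, b, hab⟩ : ∃ a b : Sylow 5 G, a ≠ b := by
      refine Fintype.exists_pair_of_one_lt_card (by rw [hcard]; norm_num)
    obtain ⟨g, hg⟩ := MulAction.exists_smul_eq G a b
    have h1 : φ g = 1 := MonoidHom.mem_ker.1 (htop ▸ Subgroup.mem_top g)
    exact hab ((by simpa [φ] using (Equiv.Perm.ext_iff.1 h1 a).symm : a = g • a).trans hg)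
  set σ := φ z with hσ
  set τ := φ x with hτ
  have hcomm : ∀ i, σ (τ i) = τ (σ i) := fun i => by
    rw [← Equiv.Perm.mul_apply, ← Equiv.Perm.mul_apply, hσ, hτ, ← map_mul, ← map_mul, hxz]
  have hτfix : ∀ i, τ i ≠ i := fun Q hQ => by
    have h1 : x ∈ Subgroup.normalizer ((Q : Subgroup G) : Set G) :=
      Sylow.smul_eq_iff_mem_normalizer.1 (by simpa [hτ, φ] using hQ)
    have h2 := Subgroup.orderOf_dvd_natCard _ h1
    rw [hx] at h2
    have h3 := SmallOrder.card_normalizer_mul_card_sylow Q
    rw [h21] at h3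
    refine h7N ?_
    rw [← h3, Nat.mul_div_cancel _ (by norm_num)]
    exact h2
  have hτ7 : τ ^ 7 = 1 := by rw [hτ, ← map_pow, ← hx, pow_orderOf_eq_one, map_one]
  have hσ2 : orderOf σ = 2 := by rw [hσ, orderOf_injective φ hinj, hz]
  have hs7 : 7 ∣ σ.support.card := by
    have hiff : ∀ i, τ i ∈ σ.support ↔ i ∈ σ.support := fun i => by
      simp only [Equiv.Perm.mem_support]
      rw [hcomm, τ.injective.ne_iff]
    set τ' : Equiv.Perm {i // i ∈ σ.support} := τ.subtypePerm hiff with hτ'
    have hpow : τ' ^ 7 ^ 1 = 1 := by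
      rw [pow_one, hτ', Equiv.Perm.subtypePerm_pow]
      ext i
      simp [hτ7]
    have h := Equiv.Perm.card_compl_support_modEq hpow
    rw [show τ'.supportᶜ = ∅ from Finset.eq_empty_iff_forall_notMem.2 fun i hi => by
      rw [Finset.mem_compl, Equiv.Perm.notMem_support] at hi
      exact hτfix i.1 (congrArg Subtype.val hi), Finset.card_empty, Fintype.card_coe] at h
    exact Nat.modEq_zero_iff_dvd.1 h.symm
  obtain ⟨j, hj⟩ := Equiv.Perm.cycleType_prime_order (hσ2.symm ▸ Nat.prime_two)
  rw [hσ2] at hj
  have hsum : σ.support.card = 2 * (j + 1) := by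
    rw [← Equiv.Perm.sum_cycleType, hj, Multiset.sum_replicate, smul_eq_mul, mul_comm]
  have hsign : Equiv.Perm.sign σ = 1 :=
    hom_trivial (not_isMulCommutative_comm hG) (Equiv.Perm.sign.comp φ) z
  rw [Equiv.Perm.sign_of_cycleType, hj, Multiset.sum_replicate, Multiset.card_replicate, smul_eq_mul,
    neg_one_pow_eq_one_iff_even (by decide)] at hsign
  obtain ⟨k, hk⟩ := hsign
  have hle : σ.support.card ≤ 21 := hcard ▸ Finset.card_le_univ _
  omega

theorem classSearch_1680 : (involCents 7 (7 * 240)).all (fun c =>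
    decide (c % 5 ≠ 0) || !classSearch 7 240 2 16 [c]) = true := by decide +kernel

theorem zSearch_1680 : search (cands 7 240 (7 * 240) 2 1)
    (fun as => degOk 7 240 (7 * 240) 2 2 as && zSearch as) (2 - 1) [] = false := by decide +kernel

theorem card_ne_1680 (hG : ¬ IsMulCommutative G) : Nat.card G ≠ 1680 := fun h => by
  classical
  haveI := Fintype.ofFinite G
  haveI : Fact (Nat.Prime 5) := ⟨by norm_num⟩
  haveI : Fact (Nat.Prime 7) := ⟨by norm_num⟩
  haveI : Fact (Nat.Prime 2) := ⟨Nat.prime_two⟩
  have hN5 : Nat.card G = 5 * 336 := h.trans (by norm_num)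
  have hN7 : Nat.card G = 7 * 240 := h.trans (by norm_num)
  obtain ⟨M5, P5, n5, e5, S5, hM5, hP5, hC5, hNe5, hm5⟩ := mem_exceptions (p := 5) (m := 336)
    (exc := [(6, 4), (21, 4)]) (by norm_num) hN5 (by norm_num) (by norm_num) (by decide +kernel)
  have hn5 : Nat.card (Sylow 5 G) = n5 := by
    have h1 := SmallOrder.card_normalizer_mul_card_sylow P5
    change Nat.card (Subgroup.normalizer ((P5 : Subgroup G) : Set G)) * _ = _ at h1
    rw [hNe5, hN5] at h1
    simp only [List.mem_cons, Prod.mk.injEq, List.not_mem_nil, or_false] at hm5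
    rcases hm5 with ⟨rfl, rfl⟩ | ⟨rfl, rfl⟩
    · rw [show Nat.card (Subgroup.centralizer ((P5 : Subgroup G) : Set G)) = 70 by omega] at h1; omega
    · rw [show Nat.card (Subgroup.centralizer ((P5 : Subgroup G) : Set G)) = 20 by omega] at h1; omega
  simp only [List.mem_cons, Prod.mk.injEq, List.not_mem_nil, or_false] at hm5
  rcases hm5 with ⟨rfl, rfl⟩ | ⟨rfl, rfl⟩
  · have hi5 : Nat.card (Sylow 5 G) = (Subgroup.normalizer ((P5 : Subgroup G) : Set G)).index :=
      P5.card_eq_index_normalizer
    have h1 := SmallOrder.card_dvd_factorial_index (H := Subgroup.normalizer ((P5 : Subgroup G) : Set G))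
      (fun e => by
        have := hi5
        rw [hn5, e, Subgroup.index_top] at this
        omega)
    rw [show (Subgroup.normalizer ((P5 : Subgroup G) : Set G)).index = 6 from
      hi5.symm.trans hn5, h] at h1
    norm_num [Nat.factorial] at h1
  have hC20 : Nat.card (Subgroup.centralizer ((P5 : Subgroup G) : Set G)) = 20 := by omega
  obtain ⟨M, P, n, e, S, hM, hP, hC, hNe, hmem⟩ := mem_exceptions (p := 7) (m := 240)
    (exc := [(8, 2), (15, 2), (120, 2)]) (by norm_num) hN7 (by norm_num) (by norm_num) (by decide +kernel)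
  simp only [List.mem_cons, Prod.mk.injEq, List.not_mem_nil, or_false] at hmem
  obtain ⟨x, hx⟩ := exists_prime_orderOf_dvd_card' (G := (P : Subgroup G)) 7 (by
    rw [show Nat.card (P : Subgroup G) = 7 from hP])
  rcases hmem with ⟨rfl, rfl⟩ | ⟨rfl, rfl⟩ | ⟨rfl, rfl⟩
  · obtain ⟨y, hy⟩ := exists_prime_orderOf_dvd_card'
      (G := Subgroup.centralizer ((P : Subgroup G) : Set G)) 5 (by
        rw [show Nat.card (Subgroup.centralizer ((P : Subgroup G) : Set G)) = 105 by omega]; norm_num)
    have hmemC : (x : G) ∈ Subgroup.centralizer ({(y : G)} : Set G) :=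
      Subgroup.mem_centralizer_singleton_iff.2 (Subgroup.mem_centralizer_iff.1 y.2 x x.2)
    have := Subgroup.orderOf_dvd_natCard _ hmemC
    rw [Subgroup.orderOf_coe, hx, cent_eq P5 hP5 (by rw [Subgroup.orderOf_coe, hy]), hC20] at this
    norm_num at this
  · obtain ⟨z, hz⟩ := exists_prime_orderOf_dvd_card'
      (G := Subgroup.centralizer ((P : Subgroup G) : Set G)) 2 (by
        rw [show Nat.card (Subgroup.centralizer ((P : Subgroup G) : Set G)) = 56 by omega]; norm_num)
    exact false_of_even_cent hG hn5 (by rw [h]; norm_num) (x := (x : G)) (z := (z : G))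
      (by rw [Subgroup.orderOf_coe, hx]) (by rw [Subgroup.orderOf_coe, hz])
      (Subgroup.mem_centralizer_iff.1 z.2 x x.2)
  · have hC7 : Nat.card (Subgroup.centralizer ((P : Subgroup G) : Set G)) = 7 := by omega
    obtain ⟨t, c, ht, hc, hcmem, hcs, hall⟩ := exists_classData (q := 16) (k := 4)
      (not_comm hN7 (by norm_num)) hM (by norm_num) hP hN7 (by norm_num) hC7 (by norm_num) (by norm_num)
      (by norm_num) hNe (by norm_num) (by norm_num) S
    replace hall := hall.resolve_right (by rw [zSearch_1680]; simp)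
    obtain ⟨z, hz⟩ := exists_prime_orderOf_dvd_card'
      (G := Subgroup.centralizer ((P5 : Subgroup G) : Set G)) 2 (by rw [hC20]; norm_num)
    obtain ⟨y, hy⟩ := exists_prime_orderOf_dvd_card' (G := (P5 : Subgroup G)) 5 (by
      rw [show Nat.card (P5 : Subgroup G) = 5 from hP5])
    obtain ⟨s, hs⟩ := isConj_iff.1 (hall z (by rw [Subgroup.orderOf_coe, hz]))
    have h5 : 5 ∣ c := by
      rw [hc, ← show orderOf (s⁻¹ * (y : G) * s) = 5 by
        rw [show s⁻¹ * (y : G) * s = MulAut.conj s⁻¹ (y : G) by simp, MulEquiv.orderOf_eq,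
          Subgroup.orderOf_coe, hy]]
      refine Subgroup.orderOf_dvd_natCard _ (Subgroup.mem_centralizer_singleton_iff.2 ?_)
      have hyz : (y : G) * z = z * y := Subgroup.mem_centralizer_iff.1 z.2 y y.2
      rw [← hs] at hyz
      calc s⁻¹ * (y : G) * s * t = s⁻¹ * ((y : G) * (s * t * s⁻¹)) * s := by group
        _ = s⁻¹ * (s * t * s⁻¹ * (y : G)) * s := by rw [hyz]
        _ = t * (s⁻¹ * (y : G) * s) := by group
    have := List.all_eq_true.1 classSearch_1680 c hcmem
    rw [hcs] at this
    simp only [Bool.not_true, Bool.or_false, decide_eq_true_eq] at this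
    exact this (Nat.mod_eq_zero_of_dvd h5)

theorem classSearch_3360 : (involCents 5 (5 * 672)).all (fun c =>
    decide (c % 7 ≠ 0) || !classSearch 5 672 2 32 [c]) = true := by decide +kernel

theorem zSearch_3360 : search (cands 5 672 (5 * 672) 2 1)
    (fun as => degOk 5 672 (5 * 672) 2 2 as && zSearch as) (2 - 1) [] = false := by decide +kernel

theorem card_ne_3360 (hG : ¬ IsMulCommutative G) : Nat.card G ≠ 3360 := fun h => by
  classical
  haveI := Fintype.ofFinite G
  haveI : Fact (Nat.Prime 5) := ⟨by norm_num⟩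
  haveI : Fact (Nat.Prime 7) := ⟨by norm_num⟩
  haveI : Fact (Nat.Prime 3) := ⟨Nat.prime_three⟩
  haveI : Fact (Nat.Prime 2) := ⟨Nat.prime_two⟩
  have hN5 : Nat.card G = 5 * 672 := h.trans (by norm_num)
  have hN7 : Nat.card G = 7 * 480 := h.trans (by norm_num)
  obtain ⟨M, P5, n5, e5, S, hM, hP5, hC5, hNe5, hm5⟩ := mem_exceptions (p := 5) (m := 672)
    (exc := [(6, 4), (21, 4), (56, 4), (336, 2)]) (by norm_num) hN5 (by norm_num) (by norm_num)
    (by decide +kernel)
  simp only [List.mem_cons, Prod.mk.injEq, List.not_mem_nil, or_false] at hm5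
  have hn5 : Nat.card (Sylow 5 G) = n5 := by
    have h1 := SmallOrder.card_normalizer_mul_card_sylow P5
    change Nat.card (Subgroup.normalizer ((P5 : Subgroup G) : Set G)) * _ = _ at h1
    rw [hNe5, hN5] at h1
    have hpos : 0 < Nat.card (Subgroup.centralizer ((P5 : Subgroup G) : Set G)) * e5 := by
      rcases hm5 with h' | h' | h' | h' <;> rw [h'.2] <;>
        exact Nat.mul_pos Nat.card_pos (by norm_num)
    refine Nat.eq_of_mul_eq_mul_left hpos ?_
    rw [h1, ← hC5]; ring
  -- an involution commutes with an element of order seven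
  obtain ⟨M7, P, n, e, S7, -, hP, hC, -, hmem⟩ := mem_exceptions (p := 7) (m := 480)
    (exc := [(8, 2), (15, 2), (120, 2)]) (by norm_num) hN7 (by norm_num) (by norm_num) (by decide +kernel)
  simp only [List.mem_cons, Prod.mk.injEq, List.not_mem_nil, or_false] at hmem
  obtain ⟨x, hx⟩ := exists_prime_orderOf_dvd_card' (G := (P : Subgroup G)) 7 (by
    rw [show Nat.card (P : Subgroup G) = 7 from hP])
  obtain ⟨z, hz⟩ := exists_prime_orderOf_dvd_card'
    (G := Subgroup.centralizer ((P : Subgroup G) : Set G)) 2 (by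
      rcases hmem with ⟨rfl, rfl⟩ | ⟨rfl, rfl⟩ | ⟨rfl, rfl⟩ <;> omega)
  have hxz : (x : G) * z = z * x := Subgroup.mem_centralizer_iff.1 z.2 x x.2
  have hxo : orderOf (x : G) = 7 := by rw [Subgroup.orderOf_coe, hx]
  have hzo : orderOf (z : G) = 2 := by rw [Subgroup.orderOf_coe, hz]
  have hfac : ∀ H : Subgroup G, H.index ≤ 7 → H ≠ ⊤ → False := fun H hi hH => by
    have h1 := (SmallOrder.card_dvd_factorial_index hH).trans (Nat.factorial_dvd_factorial hi)
    rw [h] at h1
    norm_num [Nat.factorial] at h1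
  rcases hm5 with ⟨rfl, rfl⟩ | ⟨rfl, rfl⟩ | ⟨rfl, rfl⟩ | ⟨rfl, rfl⟩
  · have hi : (Subgroup.normalizer ((P5 : Subgroup G) : Set G)).index = 6 :=
      P5.card_eq_index_normalizer.symm.trans hn5
    refine hfac (Subgroup.normalizer ((P5 : Subgroup G) : Set G)) (hi.le.trans (by norm_num)) fun e' => ?_
    rw [e', Subgroup.index_top] at hi
    omega
  · exact false_of_even_cent hG hn5 (by rw [h]; norm_num) hxo hzo hxz
  · -- fifty six Sylow subgroups
    set C := Subgroup.centralizer ((P5 : Subgroup G) : Set G) with hCdef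
    have hC15 : Nat.card C = 15 := by omega
    set N5 := Subgroup.normalizer ((P5 : Subgroup G) : Set G) with hN5def
    have hN60 : Nat.card N5 = 60 := by rw [hNe5, hC15]
    obtain ⟨w, hw⟩ := exists_prime_orderOf_dvd_card' (G := C) 3 (by rw [hC15]; norm_num)
    obtain ⟨T⟩ : Nonempty (Sylow 3 C) := inferInstance
    have hT : Nat.card T = 3 := (SmallOrder.card_sylow_eq (k := 1) T (by rw [hC15]; norm_num)
      (by rw [hC15]; norm_num)).trans (pow_one 3)
    haveI : Subsingleton (Sylow 3 C) := by
      have := SmallOrder.card_sylow_mem_filter T hT (n := 5) (by rw [hC15]) (by norm_num)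
      rw [show (Nat.divisors 5).filter (fun d => d % 3 = 1) = {1} by decide, Finset.mem_singleton] at this
      exact (Nat.card_eq_one_iff_unique.1 this).1
    have huniq : ∀ v : C, orderOf v = 3 → v ∈ Subgroup.zpowers w := by
      intro v hv
      have e1 : ∀ u : C, orderOf u = 3 → Subgroup.zpowers u = (T : Subgroup C) := by
        intro u hu
        obtain ⟨T', hT'⟩ := (IsPGroup.of_card (n := 1) (by rw [Nat.card_zpowers, hu, pow_one]) :
          IsPGroup 3 (Subgroup.zpowers u)).exists_le_sylow
        rw [Subsingleton.elim T' T] at hT'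
        refine Subgroup.eq_of_le_of_card_ge hT' ?_
        rw [Nat.card_zpowers, hu]
        exact hT.le
      rw [e1 w hw, ← e1 v hv]
      exact Subgroup.mem_zpowers v
    set W := Subgroup.zpowers (w : G) with hWdef
    have hNW : N5 ≤ Subgroup.normalizer (W : Set G) := by
      intro g hg
      have hconj : ∀ u ∈ N5, u * (w : G) * u⁻¹ ∈ W := by
        intro u hu
        have hmemC : u * (w : G) * u⁻¹ ∈ C := by
          refine Subgroup.mem_centralizer_iff.2 fun q hq => ?_
          have hq' : u⁻¹ * q * u ∈ (P5 : Subgroup G) := (Subgroup.mem_normalizer_iff''.1 hu q).1 hq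
          have := Subgroup.mem_centralizer_iff.1 w.2 _ hq'
          calc q * (u * (w : G) * u⁻¹) = u * (u⁻¹ * q * u * (w : G)) * u⁻¹ := by group
            _ = u * ((w : G) * (u⁻¹ * q * u)) * u⁻¹ := by rw [this]
            _ = u * (w : G) * u⁻¹ * q := by group
        obtain ⟨k, hk⟩ := huniq ⟨_, hmemC⟩ (by
          rw [Subgroup.orderOf_mk, ← MulAut.conj_apply, MulEquiv.orderOf_eq, Subgroup.orderOf_coe, hw])
        exact ⟨k, congrArg Subtype.val hk⟩
      refine Subgroup.mem_normalizer_iff.2 fun v => ⟨?_, fun hv => ?_⟩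
      · rintro ⟨k, rfl⟩
        show g * (w : G) ^ k * g⁻¹ ∈ W
        rw [← conj_zpow]
        exact W.zpow_mem (hconj g hg) k
      · obtain ⟨k, hk⟩ := hv
        have : v = (g⁻¹ * (w : G) * g⁻¹⁻¹) ^ k := by
          rw [conj_zpow, show (w : G) ^ k = g * v * g⁻¹ from hk]; group
        rw [this]
        exact W.zpow_mem (hconj _ (inv_mem hg)) k
    obtain ⟨Q, hQ⟩ := (IsPGroup.of_card (n := 1) (by
      rw [Nat.card_zpowers, Subgroup.orderOf_coe, hw, pow_one]) : IsPGroup 3 W).exists_le_sylow
    have hQ3 : Nat.card Q = 3 := (SmallOrder.card_sylow_eq (k := 1) Q (by rw [h]; norm_num)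
      (by rw [h]; norm_num)).trans (pow_one 3)
    have hWQ : W = (Q : Subgroup G) := Subgroup.eq_of_le_of_card_ge hQ (by
      rw [Nat.card_zpowers, Subgroup.orderOf_coe, hw]; exact hQ3.le)
    rw [hWQ] at hNW
    set H := Subgroup.normalizer ((Q : Subgroup G) : Set G) with hHdef
    have hH := SmallOrder.card_normalizer_mul_card_sylow Q
    change Nat.card H * _ = _ at hH
    obtain ⟨j, hj⟩ : 60 ∣ Nat.card H := hN60 ▸ Subgroup.card_dvd_of_le hNW
    rw [hj, h] at hH
    have hprod : j * Nat.card (Sylow 3 G) = 56 := by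
      rw [mul_assoc] at hH; omega
    have hmod : Nat.card (Sylow 3 G) % 3 = 1 := by
      have := card_sylow_modEq_one 3 G
      rwa [Nat.ModEq] at this
    have hcases : ∀ d ≤ 56, d ∣ 56 → d % 3 = 1 → d ≤ 7 ∨ d = 28 := by decide +kernel
    have hd : Nat.card (Sylow 3 G) ∣ 56 := Dvd.intro_left j hprod
    have hi : Nat.card (Sylow 3 G) = H.index := Q.card_eq_index_normalizer
    rcases hcases _ (Nat.le_of_dvd (by norm_num) hd) hd hmod with h7 | h28
    · refine hfac H (by rw [← hi]; exact h7) fun e' => ?_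
      have h1 : Nat.card (Sylow 3 G) = 1 := by rw [hi, e', Subgroup.index_top]
      exact SmallOrder.card_sylow_ne_one Q (by rw [hQ3]; norm_num) (by rw [hQ3, h]; norm_num) h1
    · rw [h28] at hprod
      have hH120 : Nat.card H = 120 := by omega
      have hPH : (P5 : Subgroup G) ≤ H := Subgroup.le_normalizer.trans hNW
      have hP' : Nat.card (P5.subtype hPH) = 5 := by
        show Nat.card ((P5 : Subgroup G).subgroupOf H) = 5
        rw [Nat.card_congr (Subgroup.subgroupOfEquivOfLe hPH).toEquiv]; exact hP5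
      have hH' := SmallOrder.card_normalizer_mul_card_sylow (P5.subtype hPH)
      have hmod5 : Nat.card (Sylow 5 H) % 5 = 1 := by
        have := card_sylow_modEq_one 5 H
        rwa [Nat.ModEq] at this
      have hle : 60 ≤ Nat.card (Subgroup.normalizer ((P5.subtype hPH : Subgroup H) : Set H)) := by
        rw [← hN60]
        refine Nat.card_le_card_of_injective (fun a : N5 => (⟨⟨(a : G), hNW a.2⟩, ?_⟩ :
          Subgroup.normalizer ((P5.subtype hPH : Subgroup H) : Set H))) fun a b e' => ?_
        · rw [Subgroup.mem_normalizer_iff]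
          intro v
          exact Subgroup.mem_normalizer_iff.1 a.2 _
        · exact Subtype.ext (congrArg
            (fun u : Subgroup.normalizer ((P5.subtype hPH : Subgroup H) : Set H) => ((u : H) : G)) e')
      have hcount : Nat.card (Sylow 5 H) ≤ 2 := by
        have : 60 * Nat.card (Sylow 5 H) ≤ 120 := by
          rw [← hH120, ← hH']
          exact Nat.mul_le_mul_right _ hle
        omega
      have h1 : Nat.card (Sylow 5 H) = 1 := by omega
      change Nat.card (Subgroup.normalizer ((P5.subtype hPH : Subgroup H) : Set H)) * _ = _ at hH'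
      rw [h1, mul_one] at hH'
      have hle' : Nat.card (Subgroup.normalizer ((P5.subtype hPH : Subgroup H) : Set H)) ≤ Nat.card N5 := by
        refine Nat.card_le_card_of_injective (fun a : Subgroup.normalizer ((P5.subtype hPH : Subgroup H) : Set H) =>
          (⟨((a : H) : G), ?_⟩ : N5)) fun a b e' => ?_
        · refine Subgroup.mem_normalizer_iff.2 fun v => ⟨fun hv => ?_, fun hv => ?_⟩
          · exact (Subgroup.mem_normalizer_iff.1 a.2 ⟨v, hPH hv⟩).1 hv
          · have hv' : v ∈ H := by
              have := H.mul_mem (H.mul_mem (H.inv_mem (a : H).2) (hPH hv)) (a : H).2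
              rwa [show ((a : H) : G)⁻¹ * (((a : H) : G) * v * ((a : H) : G)⁻¹) * ((a : H) : G) = v by group] at this
            exact (Subgroup.mem_normalizer_iff.1 a.2 ⟨v, hv'⟩).2 hv
        · exact Subtype.ext (Subtype.ext (congrArg (fun u : N5 => (u : G)) e'))
      rw [hH', hH120, hN60] at hle'
      omega
  · -- self-centralising
    have hC5' : Nat.card (Subgroup.centralizer ((P5 : Subgroup G) : Set G)) = 5 := by omega
    obtain ⟨t, c, ht, hc, hcmem, hcs, hall⟩ := exists_classData (q := 32) (k := 5)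
      (not_comm hN5 (by norm_num)) hM (by norm_num) hP5 hN5 (by norm_num) hC5' (by norm_num) (by norm_num)
      (by norm_num) hNe5 (by norm_num) (by norm_num) S
    replace hall := hall.resolve_right (by rw [zSearch_3360]; simp)
    obtain ⟨s, hs⟩ := isConj_iff.1 (hall z hzo)
    have h7 : 7 ∣ c := by
      rw [hc, ← show orderOf (s⁻¹ * (x : G) * s) = 7 by
        rw [show s⁻¹ * (x : G) * s = MulAut.conj s⁻¹ (x : G) by simp, MulEquiv.orderOf_eq, hxo]]
      refine Subgroup.orderOf_dvd_natCard _ (Subgroup.mem_centralizer_singleton_iff.2 ?_)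
      have hyz := hxz
      rw [← hs] at hyz
      calc s⁻¹ * (x : G) * s * t = s⁻¹ * ((x : G) * (s * t * s⁻¹)) * s := by group
        _ = s⁻¹ * (s * t * s⁻¹ * (x : G)) * s := by rw [hyz]
        _ = t * (s⁻¹ * (x : G) * s) := by group
    have := List.all_eq_true.1 classSearch_3360 c hcmem
    rw [hcs] at this
    simp only [Bool.not_true, Bool.or_false, decide_eq_true_eq] at this
    exact this (Nat.mod_eq_zero_of_dvd h7)

/-- An element fixed by the normaliser of an abelian Sylow subgroup is trivial. -/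
theorem eq_one_of_normalizer_fixed (hG : ¬ IsMulCommutative G) {p : ℕ} [hpf : Fact p.Prime] (P : Sylow p G)
    [IsMulCommutative (P : Subgroup G)] {d : G} (hd : d ∈ (P : Subgroup G))
    (hfix : ∀ g ∈ Subgroup.normalizer ((P : Subgroup G) : Set G), g * d = d * g) : d = 1 := by
  classical
  let τ : G →* (P : Subgroup G) := MonoidHom.transfer (MonoidHom.id (P : Subgroup G))
  have key : ∀ (k : ℕ) (g₀ : G), g₀⁻¹ * d ^ k * g₀ ∈ (P : Subgroup G) → g₀⁻¹ * d ^ k * g₀ = d ^ k := by
    intro k g₀ hmem
    obtain ⟨n, hn, he⟩ := P.conj_eq_normalizer_conj_of_mem (d ^ k) g₀ (pow_mem hd k) hmem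
    rw [he, mul_assoc, ← ((show Commute n d from hfix n hn).pow_right k).eq, inv_mul_cancel_left]
  have hτ : τ d = ⟨d ^ (P : Subgroup G).index, MonoidHom.transfer_eq_pow_aux d key⟩ :=
    MonoidHom.transfer_eq_pow (MonoidHom.id (P : Subgroup G)) d key
  obtain ⟨a, b, hab⟩ := not_isMulCommutative_comm hG
  have htriv : τ d = 1 := by
    have hker : τ.ker = ⊤ := by
      refine ((inferInstance : τ.ker.Normal).eq_bot_or_eq_top).resolve_left fun hb => hab ?_
      refine (MonoidHom.ker_eq_bot_iff τ).1 hb ?_
      rw [map_mul, map_mul]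
      exact mul_comm' _ _
    exact MonoidHom.mem_ker.1 (hker ▸ Subgroup.mem_top d)
  rw [hτ] at htriv
  have h1 : orderOf d ∣ (P : Subgroup G).index := orderOf_dvd_of_pow_eq_one (congrArg Subtype.val htriv)
  obtain ⟨j, hj⟩ := P.2 ⟨d, hd⟩
  have h2 : d ^ p ^ j = 1 := congrArg Subtype.val hj
  obtain ⟨i, -, hi⟩ := (Nat.dvd_prime_pow hpf.out).1 (orderOf_dvd_of_pow_eq_one h2)
  rcases i with _ | i
  · exact orderOf_eq_one_iff.1 (by rw [hi, pow_zero])
  · exact absurd ((Dvd.intro_left _ (pow_succ p i).symm).trans (hi ▸ h1)) P.not_dvd_index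

theorem table25 : ([72, 108, 144] : List ℕ).all (fun m => (List.range (m + 1)).all fun i =>
    decide (i ≤ 1) || decide (m % i ≠ 0) || decide (i.factorial % (25 * m) ≠ 0) || decide (m / i = 6) ||
      (decide (m = 144) && decide (m / i = 12)) ||
      (List.range (m + 1)).all fun d => decide (d ≤ 1) || decide (m / i % d ≠ 0) || decide (d % 5 ≠ 1))
    = true := by decide +kernel

theorem counts25 : ([72, 108, 144] : List ℕ).all (fun m => (List.range (m + 1)).all fun d =>
    decide (d ≤ 1) || decide (m % d ≠ 0) || decide (d % 5 ≠ 1) || decide (d % 25 ≠ 1)) = true := by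
  decide +kernel

theorem counts50 : (List.range 145).all (fun d => decide (144 % d ≠ 0) || decide (d % 5 ≠ 1) ||
    decide (d ≤ 6) || decide (d = 16) || decide (d = 36)) = true := by decide +kernel

/-- No simple group has order `25 m` for `m` among `72`, `108`, `144`. -/
theorem false_of_twentyFive (hG : ¬ IsMulCommutative G) {m : ℕ} (hm : m ∈ ([72, 108, 144] : List ℕ))
    (hN : Nat.card G = 25 * m) : False := by
  classical
  haveI : Fact (Nat.Prime 5) := ⟨by norm_num⟩
  haveI : Fact (Nat.Prime 3) := ⟨Nat.prime_three⟩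
  have h5m : ¬ 5 ∣ m := by
    simp only [List.mem_cons, List.not_mem_nil, or_false] at hm
    rcases hm with rfl | rfl | rfl <;> norm_num
  have hP : ∀ P : Sylow 5 G, Nat.card (P : Subgroup G) = 25 := fun P =>
    (SmallOrder.card_sylow_eq (k := 2) P (by rw [hN]; exact dvd_mul_right _ _) (by
      rw [hN, show (5 : ℕ) ^ (2 + 1) = 25 * 5 by norm_num]
      exact fun hd => h5m ((Nat.mul_dvd_mul_iff_left (by norm_num)).1 hd))).trans (by norm_num)
  have hab : ∀ P : Sylow 5 G, ∀ a ∈ (P : Subgroup G), ∀ b ∈ (P : Subgroup G), a * b = b * a :=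
    fun P a ha b hb => congrArg Subtype.val (IsPGroup.commutative_of_card_eq_prime_sq (p := 5)
      (show Nat.card (P : Subgroup G) = 5 ^ 2 by rw [hP P]; norm_num) ⟨a, ha⟩ ⟨b, hb⟩)
  obtain ⟨P₀⟩ : Nonempty (Sylow 5 G) := inferInstance
  have hn1 : Nat.card (Sylow 5 G) ≠ 1 := SmallOrder.card_sylow_ne_one P₀
    (by rw [show Nat.card P₀ = 25 from hP P₀]; norm_num) (by
      rw [show Nat.card P₀ = 25 from hP P₀, hN]
      simp only [List.mem_cons, List.not_mem_nil, or_false] at hm
      rcases hm with rfl | rfl | rfl <;> norm_num)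
  have hm0 : 0 < m := by
    simp only [List.mem_cons, List.not_mem_nil, or_false] at hm
    rcases hm with rfl | rfl | rfl <;> norm_num
  have hmem := SmallOrder.card_sylow_mem_filter P₀ (show Nat.card P₀ = 25 from hP P₀) (n := m) hN
    (by norm_num)
  rw [Finset.mem_filter, Nat.mem_divisors] at hmem
  have hnpos : 1 < Nat.card (Sylow 5 G) := by have := Nat.card_pos (α := Sylow 5 G); omega
  have hnle := Nat.le_of_dvd hm0 hmem.1.1
  have hmod : ¬ Nat.card (Sylow 5 G) ≡ 1 [MOD 5 ^ 2] := fun hc => by
    have := List.all_eq_true.1 (List.all_eq_true.1 counts25 m hm) (Nat.card (Sylow 5 G))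
      (List.mem_range.2 (by omega))
    simp only [Bool.or_eq_true, decide_eq_true_eq] at this
    rw [Nat.ModEq] at hc
    norm_num at hc
    rcases this with ((h1 | h1) | h1) | h1
    · omega
    · exact h1 (Nat.mod_eq_zero_of_dvd hmem.1.1)
    · exact h1 hmem.2
    · exact h1 hc
  obtain ⟨P, R, hPR, hidx⟩ := Cfsg.Agent.S0985.result 5 2 hmod
  set D := (P : Subgroup G) ⊓ (R : Subgroup G) with hD
  have hD5 : Nat.card D = 5 := by
    have h1 := ((R : Subgroup G).subgroupOf (P : Subgroup G)).card_mul_index
    rw [← Subgroup.inf_subgroupOf_left, Nat.card_congr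
      (Subgroup.subgroupOfEquivOfLe (inf_le_left : (P : Subgroup G) ⊓ R ≤ P)).toEquiv,
      Subgroup.inf_subgroupOf_left, hP P] at h1
    change Nat.card D * _ = 25 at h1
    obtain ⟨i, hi, hiD⟩ := (Nat.dvd_prime_pow (by norm_num : Nat.Prime 5)).1
      (show Nat.card D ∣ 5 ^ 2 by rw [show (5 : ℕ) ^ 2 = 25 from rfl, ← h1]; exact dvd_mul_right _ _)
    have h5 : ((R : Subgroup G).subgroupOf (P : Subgroup G)).index ≤ 5 := by simpa using hidx
    interval_cases i
    · rw [hiD, pow_zero, one_mul] at h1; omega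
    · simpa using hiD
    · exfalso
      have e : D = (P : Subgroup G) := Subgroup.eq_of_le_of_card_ge inf_le_left (by rw [hP, hiD]; norm_num)
      exact hPR (Sylow.ext (Subgroup.eq_of_le_of_card_ge (e ▸ inf_le_right) (by rw [hP, hP])))
  set H := Subgroup.centralizer (D : Set G) with hH
  have hPH : (P : Subgroup G) ≤ H := fun a ha =>
    Subgroup.mem_centralizer_iff.2 fun b hb => hab P b hb.1 a ha
  have hRH : (R : Subgroup G) ≤ H := fun a ha =>
    Subgroup.mem_centralizer_iff.2 fun b hb => hab R b hb.2 a ha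
  haveI : IsMulCommutative (P : Subgroup G) :=
    ⟨⟨fun a b => Subtype.ext (hab P a a.2 b b.2)⟩⟩
  obtain ⟨d, hd, hd1⟩ : ∃ d ∈ D, d ≠ 1 := (Subgroup.bot_or_exists_ne_one D).resolve_left fun e => by
    rw [e, Subgroup.card_bot] at hD5; omega
  have hNH : ∃ g ∈ Subgroup.normalizer ((P : Subgroup G) : Set G), g ∉ H := by
    by_contra hall
    push Not at hall
    exact hd1 (eq_one_of_normalizer_fixed hG P hd.1 fun g hg =>
      (Subgroup.mem_centralizer_iff.1 (hall g hg) d hd).symm)
  have hHtop : H ≠ ⊤ := fun e => by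
    obtain ⟨g, -, hg⟩ := hNH
    exact hg (e ▸ Subgroup.mem_top g)
  obtain ⟨k, hk⟩ : 25 ∣ Nat.card H := hP P ▸ Subgroup.card_dvd_of_le hPH
  have hik : k * H.index = m := by
    have := H.card_mul_index
    rw [hk, hN, mul_assoc] at this
    omega
  let P' : Sylow 5 H := P.subtype hPH
  have hP' : Nat.card P' = 25 := by
    show Nat.card ((P : Subgroup G).subgroupOf H) = 25
    rw [Nat.card_congr (Subgroup.subgroupOfEquivOfLe hPH).toEquiv, hP]
  have hd1H : 1 < Nat.card (Sylow 5 H) := Finite.one_lt_card_iff_nontrivial.2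
    (nontrivial_of_ne P' (R.subtype hRH) fun e => hPR (Sylow.subtype_injective e))
  have hmemH := SmallOrder.card_sylow_mem_filter P' hP' (n := k) hk (by norm_num)
  rw [Finset.mem_filter, Nat.mem_divisors] at hmemH
  have hk6 : k = 6 ∨ (m = 144 ∧ k = 12) := by
    have hk0 : 0 < k := Nat.pos_of_ne_zero hmemH.1.2
    have hile : H.index ≤ m := by
      rw [← hik]; exact Nat.le_mul_of_pos_left _ hk0
    have := List.all_eq_true.1 (List.all_eq_true.1 table25 m hm) H.index (List.mem_range.2 (by omega))
    simp only [Bool.or_eq_true, Bool.and_eq_true, decide_eq_true_eq, List.all_eq_true, List.mem_range] at this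
    have hdiv : m / H.index = k := by
      rw [← hik]; exact Nat.mul_div_cancel _ (Nat.pos_of_ne_zero Subgroup.index_ne_zero_of_finite)
    rcases this with ((((h1 | h1) | h1) | h1) | h1) | h1
    · exfalso
      have h0 : H.index ≠ 0 := Subgroup.index_ne_zero_of_finite
      exact hHtop (Subgroup.index_eq_one.1 (by omega))
    · exact absurd (Nat.mod_eq_zero_of_dvd (Dvd.intro_left k hik)) h1
    · exact absurd (Nat.mod_eq_zero_of_dvd (hN ▸ SmallOrder.card_dvd_factorial_index hHtop)) h1
    · left; omega
    · right; exact ⟨h1.1, by omega⟩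
    · exfalso
      rw [hdiv] at h1
      have hle := Nat.le_of_dvd hk0 hmemH.1.1
      have hkm : k ≤ m := by
        rw [← hik]; exact Nat.le_mul_of_pos_right _ (Nat.pos_of_ne_zero Subgroup.index_ne_zero_of_finite)
      rcases h1 (Nat.card (Sylow 5 H)) (by omega) with (h2 | h2) | h2
      · omega
      · exact h2 (Nat.mod_eq_zero_of_dvd hmemH.1.1)
      · exact h2 hmemH.2
  have hn6 : Nat.card (Sylow 5 H) = 6 := by
    have hdv := hmemH.1.1
    have hmd := hmemH.2
    have hle := Nat.le_of_dvd (Nat.pos_of_ne_zero hmemH.1.2) hdv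
    have : ∀ d ≤ 12, 1 < d → d % 5 = 1 → (d ∣ 6 ∨ d ∣ 12) → d = 6 := by decide +kernel
    refine this _ (by omega) hd1H hmd ?_
    rcases hk6 with rfl | ⟨-, rfl⟩
    · exact Or.inl hdv
    · exact Or.inr hdv
  have hN' := SmallOrder.card_normalizer_mul_card_sylow P'
  change Nat.card (Subgroup.normalizer ((P' : Subgroup H) : Set H)) * _ = _ at hN'
  rw [hn6, hk] at hN'
  rcases hk6 with rfl | ⟨rfl, rfl⟩
  · -- an element of order three centralises `P'`
    have hN25 : Subgroup.normalizer ((P' : Subgroup H) : Set H) = (P' : Subgroup H) :=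
      (Subgroup.eq_of_le_of_card_ge Subgroup.le_normalizer (by
        rw [show Nat.card (P' : Subgroup H) = 25 from hP']; omega)).symm
    have hNC : Subgroup.normalizer ((P' : Subgroup H) : Set H) ≤
        Subgroup.centralizer ((P' : Subgroup H) : Set H) := by
      rw [hN25]
      exact fun a ha => Subgroup.mem_centralizer_iff.2 fun b hb => Subtype.ext (hab P b hb a ha)
    set K := (MonoidHom.transferSylow P' hNC).ker with hK
    have hcomp := MonoidHom.ker_transferSylow_isComplement' P' hNC
    have hK6 : Nat.card K = 6 := by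
      have := hcomp.card_mul
      change Nat.card K * Nat.card P' = _ at this
      rw [hP', hk] at this
      omega
    obtain ⟨V⟩ : Nonempty (Sylow 3 K) := inferInstance
    have hV : Nat.card V = 3 := (SmallOrder.card_sylow_eq (k := 1) V (by rw [hK6]; norm_num)
      (by rw [hK6]; norm_num)).trans (pow_one 3)
    haveI : Subsingleton (Sylow 3 K) := by
      have := SmallOrder.card_sylow_mem_filter V hV (n := 2) (by rw [hK6]) (by norm_num)
      rw [show (Nat.divisors 2).filter (fun d => d % 3 = 1) = {1} by decide, Finset.mem_singleton] at this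
      exact (Nat.card_eq_one_iff_unique.1 this).1
    obtain ⟨v, hv⟩ := exists_prime_orderOf_dvd_card' (G := K) 3 (by rw [hK6]; norm_num)
    have e1 : ∀ u : K, orderOf u = 3 → Subgroup.zpowers u = (V : Subgroup K) := by
      intro u hu
      obtain ⟨V', hV'⟩ := (IsPGroup.of_card (n := 1) (by rw [Nat.card_zpowers, hu, pow_one]) :
        IsPGroup 3 (Subgroup.zpowers u)).exists_le_sylow
      rw [Subsingleton.elim V' V] at hV'
      refine Subgroup.eq_of_le_of_card_ge hV' ?_
      rw [Nat.card_zpowers, hu]
      exact hV.le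
    have hKn : K.Normal := inferInstance
    have hvC : ∀ a ∈ (P' : Subgroup H), a * (v : H) = (v : H) * a := by
      intro a ha
      have hconj : ∀ b : H, b * (v : H) * b⁻¹ = v ∨ b * (v : H) * b⁻¹ = (v : H)⁻¹ := by
        intro b
        have hu : orderOf (⟨_, hKn.conj_mem _ v.2 b⟩ : K) = 3 := by
          rw [Subgroup.orderOf_mk, ← MulAut.conj_apply, MulEquiv.orderOf_eq, Subgroup.orderOf_coe, hv]
        have hmem : (⟨_, hKn.conj_mem _ v.2 b⟩ : K) ∈ Subgroup.zpowers v := by
          rw [e1 v hv, ← e1 _ hu]; exact Subgroup.mem_zpowers _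
        obtain ⟨j, hj⟩ := hmem
        have hj' : v ^ (j % 3) = (⟨_, hKn.conj_mem _ v.2 b⟩ : K) := by
          have := zpow_mod_orderOf v j
          rw [hv] at this
          exact this.trans hj
        have h3 : v * v * v = 1 := by
          have := pow_orderOf_eq_one v
          rw [hv, pow_succ, pow_two] at this
          exact this
        have : j % 3 = 0 ∨ j % 3 = 1 ∨ j % 3 = 2 := by omega
        rcases this with e | e | e <;> rw [e] at hj'
        · exfalso
          rw [zpow_zero] at hj'
          rw [← hj', orderOf_one] at hu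
          omega
        · left
          rw [zpow_one] at hj'
          exact (congrArg Subtype.val hj').symm
        · right
          rw [show v ^ (2 : ℤ) = v⁻¹ by
            rw [zpow_two]; exact eq_inv_of_mul_eq_one_left h3] at hj'
          exact (congrArg Subtype.val hj').symm
      rcases hconj a with e | e
      · exact mul_inv_eq_iff_eq_mul.1 e
      · exfalso
        have hsq : ∀ i : ℕ, a ^ (2 * i) * (v : H) * (a ^ (2 * i))⁻¹ = v := by
          intro i
          induction i with
          | zero => simp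
          | succ i ih =>
            calc a ^ (2 * (i + 1)) * (v : H) * (a ^ (2 * (i + 1)))⁻¹
                = a * (a * (a ^ (2 * i) * (v : H) * (a ^ (2 * i))⁻¹) * a⁻¹) * a⁻¹ := by
                  rw [show 2 * (i + 1) = 1 + (1 + 2 * i) by ring, pow_add, pow_add, pow_one]; group
              _ = (a * (v : H) * a⁻¹)⁻¹ := by rw [ih, e, ← conj_inv, e]
              _ = v := by rw [e, inv_inv]
        have h25 : a ^ 25 = 1 := orderOf_dvd_iff_pow_eq_one.1
          (hP' ▸ Subgroup.orderOf_dvd_natCard _ ha)
        have h12 := hsq 12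
        rw [show a ^ (2 * 12) = a⁻¹ from eq_inv_of_mul_eq_one_left (by
          rw [← pow_succ]; exact h25)] at h12
        rw [inv_inv] at h12
        have h13 : a * (v : H) * a⁻¹ = v := by
          conv_lhs => rw [← h12]
          group
        rw [e] at h13
        have : orderOf (v : H) ∣ 2 := orderOf_dvd_of_pow_eq_one (by
          rw [pow_two]
          calc (v : H) * v = (v : H)⁻¹ * v := by rw [h13]
            _ = 1 := inv_mul_cancel _)
        rw [Subgroup.orderOf_coe, hv] at this
        norm_num at this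
    have hvN : (v : H) ∈ (P' : Subgroup H) := by
      rw [← hN25]
      refine Subgroup.mem_normalizer_iff.2 fun a => ⟨fun ha => ?_, fun ha => ?_⟩
      · rw [← hvC a ha, mul_inv_cancel_right]; exact ha
      · have h1 := hvC _ ha
        have : (v : H) * a * (v : H)⁻¹ = a := by
          have h2 : a * (v : H) = (v : H) * a := by
            apply mul_left_cancel (a := (v : H))
            apply mul_right_cancel (b := (v : H)⁻¹)
            calc (v : H) * (a * v) * (v : H)⁻¹ = (v : H) * a * (v : H)⁻¹ * v := by group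
              _ = (v : H) * ((v : H) * a * (v : H)⁻¹) := h1
              _ = (v : H) * ((v : H) * a) * (v : H)⁻¹ := by group
          rw [← h2, mul_inv_cancel_right]
        rwa [this] at ha
    have := Subgroup.orderOf_dvd_natCard _ hvN
    rw [Subgroup.orderOf_coe, hv, show Nat.card (P' : Subgroup H) = 25 from hP'] at this
    norm_num at this
  · -- the normaliser of `P` normalises `D`
    set N := Subgroup.normalizer ((P : Subgroup G) : Set G) with hNdef
    have hNHcard : Nat.card (N ⊓ H : Subgroup G) = 50 := by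
      have hle : Nat.card (N ⊓ H : Subgroup G) = Nat.card (Subgroup.normalizer ((P' : Subgroup H) : Set H)) := by
        refine Nat.card_congr
          { toFun := fun a => ⟨⟨(a : G), a.2.2⟩, Subgroup.mem_normalizer_iff.2 fun b =>
              Subgroup.mem_normalizer_iff.1 a.2.1 (b : G)⟩
            invFun := fun a => ⟨((a : H) : G), Subgroup.mem_normalizer_iff.2 fun b => ⟨fun hb => ?_, fun hb => ?_⟩, (a : H).2⟩
            left_inv := fun a => rfl
            right_inv := fun a => rfl }
        · exact (Subgroup.mem_normalizer_iff.1 a.2 ⟨b, hPH hb⟩).1 hb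
        · have hb' : b ∈ H := by
            have := H.mul_mem (H.mul_mem (H.inv_mem (a : H).2) (hPH hb)) (a : H).2
            rwa [show ((a : H) : G)⁻¹ * (((a : H) : G) * b * ((a : H) : G)⁻¹) * ((a : H) : G) = b by group] at this
          exact (Subgroup.mem_normalizer_iff.1 a.2 ⟨b, hb'⟩).2 hb
      omega
    have h50 : 50 ∣ Nat.card N := hNHcard ▸ Subgroup.card_dvd_of_le inf_le_left
    have hN36 : Nat.card N = 100 := by
      have h1 := SmallOrder.card_normalizer_mul_card_sylow P
      change Nat.card N * _ = _ at h1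
      rw [hN] at h1
      have hd := hmem.1.1
      have := List.all_eq_true.1 counts50 _ (List.mem_range.2 (Nat.lt_succ_of_le hnle))
      simp only [Bool.or_eq_true, decide_eq_true_eq] at this
      rcases this with (((h2 | h2) | h2) | h2) | h2
      · exact absurd (Nat.mod_eq_zero_of_dvd hd) h2
      · exact absurd hmem.2 h2
      · exfalso
        have h3 := (SmallOrder.card_dvd_factorial_index (H := N) (fun e => hn1 (by
          rw [P.card_eq_index_normalizer]; exact (congrArg Subgroup.index e).trans Subgroup.index_top))).trans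
          (Nat.factorial_dvd_factorial (show N.index ≤ 6 by rw [← show Nat.card (Sylow 5 G) = N.index from P.card_eq_index_normalizer]; exact h2))
        rw [hN] at h3
        norm_num [Nat.factorial] at h3
      · rw [h2] at h1; omega
      · rw [h2] at h1; omega
    set M : Subgroup N := (N ⊓ H).subgroupOf N with hMdef
    have hM2 : M.index = 2 := by
      have := M.card_mul_index
      rw [hMdef] at this ⊢
      rw [Nat.card_congr (Subgroup.subgroupOfEquivOfLe (inf_le_left : N ⊓ H ≤ N)).toEquiv,
        hNHcard, hN36] at this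
      omega
    haveI hMn : M.Normal := Subgroup.normal_of_index_eq_two hM2
    obtain ⟨g, hgN, hgH⟩ := hNH
    set F : Subgroup G := (P : Subgroup G) ⊓ Subgroup.centralizer ((N ⊓ H : Subgroup G) : Set G) with hF
    have hDF : D ≤ F := fun a ha => ⟨ha.1, Subgroup.mem_centralizer_iff.2 fun b hb =>
      (Subgroup.mem_centralizer_iff.1 hb.2 a ha).symm⟩
    have hgconj : ∀ a ∈ F, g * a * g⁻¹ ∈ F := by
      intro a ha
      refine ⟨(Subgroup.mem_normalizer_iff.1 hgN a).1 ha.1, Subgroup.mem_centralizer_iff.2 fun b hb => ?_⟩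
      have hb' : g⁻¹ * b * g ∈ N ⊓ H := by
        have := Subgroup.mem_subgroupOf.1 (hMn.conj_mem (⟨b, hb.1⟩ : N) hb (⟨g, hgN⟩⁻¹ : N))
        simpa only [Subgroup.coe_mul, Subgroup.coe_inv, inv_inv] using this
      have h1 := Subgroup.mem_centralizer_iff.1 ha.2 _ hb'
      calc b * (g * a * g⁻¹) = g * (g⁻¹ * b * g * a) * g⁻¹ := by group
        _ = g * (a * (g⁻¹ * b * g)) * g⁻¹ := by rw [h1]
        _ = g * a * g⁻¹ * b := by group
    have hgD : ∀ a ∈ D, g * a * g⁻¹ ∈ D := by
      intro a ha
      by_cases hFD : F ≤ D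
      · exact hFD (hgconj a (hDF ha))
      -- `N ⊓ H` centralises `P`
      have hFP : F = (P : Subgroup G) := by
        obtain ⟨i, hi, hiF⟩ := (Nat.dvd_prime_pow (by norm_num : Nat.Prime 5)).1
          (show Nat.card F ∣ 5 ^ 2 by
            rw [show (5 : ℕ) ^ 2 = 25 from rfl, ← hP P]; exact Subgroup.card_dvd_of_le inf_le_left)
        refine Subgroup.eq_of_le_of_card_ge inf_le_left ?_
        have h5 : 5 < Nat.card F := by
          by_contra hle
          push Not at hle
          exact hFD (Subgroup.eq_of_le_of_card_ge hDF (hD5 ▸ hle)).ge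
        rw [hP, hiF]
        interval_cases i <;> simp_all
      have hg2 : g * g ∈ N ⊓ H := by
        exact Subgroup.mem_subgroupOf.1 (Subgroup.mul_self_mem_of_index_two hM2 ⟨g, hgN⟩)
      set b := g * a * g⁻¹ with hb
      have hbP : b ∈ (P : Subgroup G) := (Subgroup.mem_normalizer_iff.1 hgN a).1 ha.1
      have hgb : g * b * g⁻¹ = a := by
        have h1 : (g * g) * a = a * (g * g) :=
          Subgroup.mem_centralizer_iff.1 (hFP.ge ha.1 : a ∈ F).2 _ hg2
        rw [hb, show g * (g * a * g⁻¹) * g⁻¹ = g * g * a * (g * g)⁻¹ by group, h1, mul_inv_cancel_right]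
      have hab1 : a * b = 1 := by
        refine eq_one_of_normalizer_fixed hG P (mul_mem ha.1 hbP) fun u hu => ?_
        have hgab : g * (a * b) = a * b * g := by
          rw [← mul_inv_eq_iff_eq_mul, ← conj_mul, ← hb, hgb, hab P b hbP a ha.1]
        by_cases huH : u ∈ H
        · exact Subgroup.mem_centralizer_iff.1 (hFP.ge (mul_mem ha.1 hbP) : a * b ∈ F).2 u ⟨hu, huH⟩
        · have hug : u * g⁻¹ ∈ N ⊓ H := by
            have := (Subgroup.mul_mem_iff_of_index_two hM2 (a := (⟨u, hu⟩ : N)) (b := (⟨g, hgN⟩⁻¹ : N))).2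
              (iff_of_false (fun h' => huH (Subgroup.mem_subgroupOf.1 h').2) fun h' => hgH (by
                have := (Subgroup.mem_subgroupOf.1 h').2
                rw [Subgroup.coe_inv] at this
                simpa using H.inv_mem this))
            have h := Subgroup.mem_subgroupOf.1 this
            simpa only [Subgroup.coe_mul, Subgroup.coe_inv] using h
          have h2 := Subgroup.mem_centralizer_iff.1 (hFP.ge (mul_mem ha.1 hbP) : a * b ∈ F).2 _ hug
          calc u * (a * b) = u * g⁻¹ * (g * (a * b)) := by group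
            _ = u * g⁻¹ * (a * b) * g := by rw [hgab]; group
            _ = a * b * (u * g⁻¹) * g := by rw [h2]
            _ = a * b * u := by group
      rw [eq_inv_of_mul_eq_one_right hab1]
      exact inv_mem ha
    have hgND : g ∈ Subgroup.normalizer (D : Set G) := by
      refine Subgroup.mem_normalizer_iff.2 fun a => ⟨hgD a, fun ha => ?_⟩
      have hinj : Set.InjOn (fun c => g * c * g⁻¹) (D : Set G) := fun c _ c' _ e =>
        mul_left_cancel (mul_right_cancel e)
      have hsurj : (fun c => g * c * g⁻¹) '' (D : Set G) = (D : Set G) :=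
        Set.eq_of_subset_of_ncard_le (Set.image_subset_iff.2 hgD)
          (by rw [hinj.ncard_image]) (Set.toFinite _)
      obtain ⟨c, hc, hc'⟩ := hsurj.ge ha
      rwa [← mul_left_cancel (mul_right_cancel hc')]
    have hlt : H < Subgroup.normalizer (D : Set G) :=
      lt_of_le_not_ge (Subgroup.centralizer_le_normalizer _) fun hle => hgH (hle hgND)
    obtain ⟨j, hj⟩ := Subgroup.card_dvd_of_le hlt.le
    have hj2 : 2 ≤ j := by
      by_contra hj2
      push Not at hj2
      interval_cases j
      · rw [mul_zero] at hj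
        exact Nat.card_pos.ne' hj
      · exact hlt.ne (Subgroup.eq_of_le_of_card_ge hlt.le (by rw [hj, mul_one]))
    have hNDtop : Subgroup.normalizer (D : Set G) ≠ ⊤ := fun e => by
      haveI : D.Normal := Subgroup.normalizer_eq_top_iff.1 e
      rcases (inferInstance : D.Normal).eq_bot_or_eq_top with e' | e'
      · rw [e', Subgroup.card_bot] at hD5; omega
      · rw [e', Subgroup.card_top, hN] at hD5; omega
    have hi6 : (Subgroup.normalizer (D : Set G)).index ≤ 6 := by
      have h1 := (Subgroup.normalizer (D : Set G)).card_mul_index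
      rw [hj, hk, hN] at h1
      by_contra h7
      push Not at h7
      have := Nat.mul_le_mul (Nat.mul_le_mul_left (25 * 12) hj2) h7
      nlinarith
    have h1 := (SmallOrder.card_dvd_factorial_index hNDtop).trans (Nat.factorial_dvd_factorial hi6)
    rw [hN] at h1
    norm_num [Nat.factorial] at h1

/-- The order of a simple group between 1093 and 3640. -/
theorem mem_orders_low (hG : ¬ IsMulCommutative G) (h1 : 1093 ≤ Nat.card G) (h2 : Nat.card G ≤ 3640) :
    Nat.card G = 2448 ∨ Nat.card G = 2520 ∨ Nat.card G = 3420 := by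
  have hm := mem_low hG h1 h2
  simp only [exceptions_low, List.mem_cons, List.not_mem_nil, or_false] at hm
  have e1 := card_ne_1344 (G := G) hG
  have e2 := card_ne_1404 (G := G)
  have e3 := card_ne_1512 (G := G)
  have e4 := card_ne_1620 (G := G)
  have e5 := card_ne_1680 (G := G) hG
  have e6 := card_ne_1764 (G := G) hG
  have e7 : Nat.card G ≠ 1800 := fun e => false_of_twentyFive hG (m := 72) (by simp) (e.trans (by norm_num))
  have e8 := card_ne_2160 (G := G)
  have e9 := card_ne_2400 (G := G)
  have e10 : Nat.card G ≠ 2700 := fun e => false_of_twentyFive hG (m := 108) (by simp) (e.trans (by norm_num))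
  have e11 := card_ne_3360 (G := G) hG
  have e12 := card_ne_3528 (G := G) hG
  have e13 : Nat.card G ≠ 3600 := fun e => false_of_twentyFive hG (m := 144) (by simp) (e.trans (by norm_num))
  omega

end CfsgLib.SmallOrders
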