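import Cfsg.Agent.Lib.SmallOrders.OrderData
import Cfsg.Agent.S4504

/-!
# Simple groups with a character of degree `(p - 1) / 2` in the principal block
-/

namespace CfsgLib.SmallOrders

open Cfsg CfsgLib.CharTheory CfsgLib.Blocks

set_option autoImplicit false
set_option linter.unusedVariables false
set_option linter.style.haveILetI false
set_option linter.unusedSectionVars false

universe u

/-- Projective special linear groups over isomorphic fields are isomorphic. -/
theorem psl_congr {K L : Type*} [Field K] [Field L] (e : K ≃+* L) :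
    Nonempty (Matrix.ProjectiveSpecialLinearGroup (Fin 2) K ≃*
      Matrix.ProjectiveSpecialLinearGroup (Fin 2) L) := by
  let f : Matrix.SpecialLinearGroup (Fin 2) K →* Matrix.SpecialLinearGroup (Fin 2) L :=
    Matrix.SpecialLinearGroup.map e.toRingHom
  let g : Matrix.SpecialLinearGroup (Fin 2) L →* Matrix.SpecialLinearGroup (Fin 2) K :=
    Matrix.SpecialLinearGroup.map e.symm.toRingHom
  let φ : Matrix.SpecialLinearGroup (Fin 2) K ≃* Matrix.SpecialLinearGroup (Fin 2) L :=
    { f with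
      invFun := g
      left_inv := fun A => by ext i j; exact e.symm_apply_apply _
      right_inv := fun A => by ext i j; exact e.apply_symm_apply _ }
  refine ⟨QuotientGroup.congr _ _ φ ?_⟩
  ext x
  simp only [Subgroup.mem_map, Subgroup.mem_center_iff]
  constructor
  · rintro ⟨a, ha, rfl⟩ b
    obtain ⟨c, rfl⟩ := φ.surjective b
    show φ c * φ a = φ a * φ c
    rw [← map_mul, ← map_mul, ha c]
  · intro h
    obtain ⟨a, rfl⟩ := φ.surjective x
    refine ⟨a, fun b => φ.injective ?_, rfl⟩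
    rw [map_mul, map_mul]
    exact h (φ b)

variable {G : Type u} [Group G] [Fintype G]

/-- The signed degrees, as a list passing the test, together with the exceptional degree. -/
theorem Shape.exists_list {p : ℕ} [hpf : Fact p.Prime] [IsSimpleGroup G]
    (hna : ∃ a b : G, a * b ≠ b * a) {M : Ideal AlgInt} {P : Subgroup G} {e m : ℕ}
    (S : Shape p M P e) (hN : Nat.card G = p * m) (he : e < p) (he0 : 0 < e) {ψ : IrrCharacter G}
    (hψ : ψ ∈ S.Y) :
    ∃ l : List ℤ, (∀ a ∈ l, a ∈ cands p m (p * m) 2 1) ∧ l.length = e - 1 ∧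
      degOk p m (p * m) 2 e l.reverse = true ∧
      (1 + l.reverse.sum).natAbs = charDegree (ψ : G → ℂ) := by
  classical
  have hp : p.Prime := hpf.out
  have hm0 : m ≠ 0 := fun h => Nat.card_pos.ne' (by rw [hN, h, mul_zero] : Nat.card G = 0)
  have hdvd : ∀ (χ : IrrCharacter G) (s : ℤ) (r : ℕ), 0 < r → r < p →
      (p : ℤ) ∣ s * charDegree (χ : G → ℂ) - r → charDegree (χ : G → ℂ) ∣ m := by
    intro χ s r hr0 hrp h
    refine dvd_of_dvd_mul_prime hp (hN ▸ charDegree_dvd_card χ) fun hd => ?_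
    have : (p : ℤ) ∣ (r : ℤ) := by
      have := dvd_sub (dvd_mul_of_dvd_right (Int.natCast_dvd_natCast.2 hd) s) h
      simpa using this
    have := Nat.le_of_dvd hr0 (Int.natCast_dvd_natCast.1 this)
    omega
  have hsq := S.sum_sq_degree_le
  have hk : ∀ χ : IrrCharacter G, χ ∈ S.X ∨ χ ∈ S.Y → 2 ≤ charDegree (χ : G → ℂ) := fun χ hχ =>
    two_le_charDegree hna (by rintro rfl; exact hχ.elim S.one_notX S.one_notY)
  set l := S.X.toList.map fun χ : IrrCharacter G => S.δ χ * (charDegree (χ : G → ℂ) : ℤ)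
  have hls : l.sum = ∑ χ ∈ S.X, S.δ χ * (charDegree (χ : G → ℂ) : ℤ) := Finset.sum_map_toList _ _
  have hb : 1 + l.sum = S.ε * charDegree (ψ : G → ℂ) := by rw [hls, S.degree_relation hp hψ]
  have hn := natAbs_sign_mul S.signY (charDegree (ψ : G → ℂ))
  refine ⟨l, fun a ha => ?_, by simp [l, S.cardX], ?_, by rw [List.sum_reverse, hb, hn]⟩
  · obtain ⟨χ, hχ, rfl⟩ := List.mem_map.1 ha
    rw [Finset.mem_toList] at hχ
    have hn := natAbs_sign_mul (S.sign χ hχ) (charDegree (χ : G → ℂ))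
    refine mem_cands hm0 ?_ (by rw [hn]; exact hk χ (Or.inl hχ)) (S.degX χ hχ) ?_
    · rw [hn]; exact hdvd χ _ 1 one_pos hp.one_lt (by simpa using S.degX χ hχ)
    · have h1 : charDegree (χ : G → ℂ) ^ 2 ≤ ∑ φ ∈ S.X, charDegree (φ : G → ℂ) ^ 2 :=
        Finset.single_le_sum (f := fun φ : IrrCharacter G => charDegree (φ : G → ℂ) ^ 2)
          (fun _ _ => Nat.zero_le _) hχ
      rw [hn, ← sq, ← hN]
      omega
  · simp only [degOk, Bool.and_eq_true, decide_eq_true_eq, List.sum_reverse, hb, hn]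
    refine ⟨⟨⟨hdvd ψ _ e he0 he (S.degY ψ hψ), hk ψ (Or.inr hψ)⟩,
      Int.emod_eq_zero_of_dvd (S.degY ψ hψ)⟩, ?_⟩
    rw [List.map_reverse, List.sum_reverse, ← hN]
    refine le_trans (le_of_eq ?_) hsq
    simp only [l, List.map_map]
    rw [Finset.sum_map_toList, Finset.sum_congr (s₁ := S.X) rfl fun χ hχ => by
        rw [Function.comp_apply, natAbs_sign_mul (S.sign χ hχ), ← sq],
      Finset.sum_congr (s₁ := S.Y) rfl fun θ hθ => by rw [S.charDegree_eq hp hθ hψ],
      Finset.sum_const, S.cardY, smul_eq_mul, sq (charDegree (ψ : G → ℂ))]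

/-- A simple group whose only possible principal block has exceptional degree `(p - 1) / 2`. -/
theorem psl_of_search [IsSimpleGroup G] {p m n₀ e₀ : ℕ} [hpf : Fact p.Prime] (hodd : p ≠ 2)
    (hN : Nat.card G = p * m) (hpm : ¬ p ∣ m) (hm : 1 < m) (he : e₀ < p) (he0 : 0 < e₀)
    (hcheck : degCheck p m [(n₀, e₀)] = true)
    (hsearch : search (cands p m (p * m) 2 1) (fun l => degOk p m (p * m) 2 e₀ l &&
      decide ((1 + l.sum).natAbs ≠ (p - 1) / 2)) (e₀ - 1) [] = false)
    {F : Type*} [Field F] [Fintype F] (hF : Fintype.card F = p) :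
    Nonempty (G ≃* Matrix.ProjectiveSpecialLinearGroup (Fin 2) F) := by
  classical
  have hp : p.Prime := hpf.out
  obtain ⟨M, P, n, e, S, hM, hP, hC, hNe, hmem⟩ := mem_exceptions hodd hN hpm hm hcheck
  obtain ⟨rfl, rfl⟩ : n = n₀ ∧ e = e₀ := by simpa using hmem
  have hna := not_comm hN (Nat.not_prime_mul hp.ne_one hm.ne')
  obtain ⟨ψ, hψ⟩ : S.Y.Nonempty := Finset.card_pos.1 (S.cardY ▸ S.cardY_pos)
  obtain ⟨l, hl, hlen, hok, hdeg⟩ := S.exists_list hna hN he he0 hψ
  have hψd : 2 * charDegree (ψ : G → ℂ) + 1 = p := by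
    by_contra hne
    refine Bool.false_ne_true (hsearch.symm.trans (hlen ▸ search_complete l [] hl ?_))
    rw [List.append_nil, Bool.and_eq_true, decide_eq_true_eq, hdeg]
    refine ⟨hok, fun h => hne ?_⟩
    obtain ⟨k, hk⟩ := hp.odd_of_ne_two hodd
    omega
  have hψne : ψ ≠ oneIrr G := fun h => S.one_notY (h ▸ hψ)
  obtain ⟨φ⟩ := Cfsg.Agent.S4504.result p hp (hN ▸ dvd_mul_right p m)
    (by rw [hN, sq]; exact fun h => hpm ((Nat.mul_dvd_mul_iff_left hp.pos).1 h))
    (fun H hH hc => by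
      rcases hH.eq_bot_or_eq_top with h | h
      · rw [h, Subgroup.card_bot] at hc; exact hp.ne_one hc.symm
      · rw [h, Subgroup.card_top, hN] at hc
        exact hm.ne' ((Nat.mul_eq_left hp.ne_zero).1 hc))
    (ψ : G → ℂ) (isCharacter_of_irr ψ.2) (fun g hg => eq_one_of_apply_eq_apply_one hψne hg) hψd
  have hZ : Subgroup.center G = ⊥ := by
    refine ((inferInstance : (Subgroup.center G).Normal).eq_bot_or_eq_top).resolve_right fun h => ?_
    obtain ⟨a, b, hab⟩ := hna
    exact hab ((Subgroup.mem_center_iff.1 (h ▸ Subgroup.mem_top b)) a)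
  haveI : CharP F p := by
    obtain ⟨r, hr⟩ := CharP.exists F
    haveI := hr
    haveI : Fact r.Prime := ⟨CharP.char_is_prime F r⟩
    obtain ⟨k, hr', hk⟩ := FiniteField.card F r
    rw [hF] at hk
    have hrp : r ∣ p := hk ▸ dvd_pow_self r k.pos.ne'
    exact ((Nat.prime_dvd_prime_iff_eq hr' hp).1 hrp) ▸ hr
  obtain ⟨ψ'⟩ := psl_congr (ZMod.ringEquiv F hF)
  exact ⟨(((QuotientGroup.quotientBot (G := G)).symm.trans
    (QuotientGroup.quotientMulEquivOfEq hZ.symm)).trans φ).trans ψ'⟩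

end CfsgLib.SmallOrders
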