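/-
A group of order 7920 whose prime graph is disconnected is simple.
-/
import Mathlib
import Cfsg.Agent.Lib.Coprime

set_option autoImplicit false
set_option linter.style.haveILetI false
set_option linter.unusedSectionVars false

namespace CfsgLib.Order7920

open Subgroup MulAction
open scoped Pointwise

variable {G : Type*} [Group G] [Finite G]

/-- Fixed elements under a normalizing prime-power subgroup. -/
theorem card_fixed_modEq {p : ℕ} [Fact p.Prime] {T R : Subgroup G} (hT : IsPGroup p T)
    (hTR : T ≤ normalizer (R : Set G)) :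
    Nat.card R ≡ Nat.card (R ⊓ centralizer (T : Set G) : Subgroup G) [MOD p] := by
  letI : MulAction T R :=
    { smul := fun t r => ⟨t * r * (t : G)⁻¹, (mem_normalizer_iff.mp (hTR t.2) r).mp r.2⟩
      one_smul := fun r => Subtype.ext (by show (1 : G) * r * (1 : G)⁻¹ = r; simp)
      mul_smul := fun s t r => Subtype.ext (by
        show ((s : G) * t) * r * ((s : G) * t)⁻¹ = s * (t * r * (t : G)⁻¹) * (s : G)⁻¹; group) }
  refine (hT.card_modEq_card_fixedPoints R).trans ?_
  refine congrArg (· % p) ?_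
  refine Nat.card_congr
    { toFun := fun r => ⟨r.1.1, r.1.2, mem_centralizer_iff.mpr fun t ht => by
        have := congrArg Subtype.val (r.2 ⟨t, ht⟩)
        exact mul_inv_eq_iff_eq_mul.mp this⟩
      invFun := fun r => ⟨⟨r.1, r.2.1⟩, fun t => Subtype.ext (by
        show (t : G) * r.1 * (t : G)⁻¹ = r.1
        rw [mem_centralizer_iff.mp r.2.2 t t.2, mul_inv_cancel_right])⟩
      left_inv := fun r => rfl
      right_inv := fun r => rfl }

theorem pow_cases : ∀ k < 10, ∀ q ∈ [2, 3, 5], q ^ k ∣ 720 → q ^ k ∈ [1, 2, 4, 8, 16, 3, 9, 5] := by decide +kernel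

theorem fixed_cases : ∀ R ∈ [1, 2, 4, 8, 16, 3, 9, 5], ∀ F < 17, F ∣ R → R % 11 = F % 11 → F = R := by decide +kernel

theorem fixed_five : ∀ R ∈ [2, 4, 8, 3, 9], ∀ F < 17, F ∣ R → R % 5 = F % 5 → F ≠ 1 := by decide +kernel

theorem primes_720 {q : ℕ} (hq : q.Prime) (h : q ∣ 720) : q ∈ [2, 3, 5] := by
  have : q ∣ 2 ^ 4 * 3 ^ 2 * 5 := h
  rcases hq.dvd_mul.mp this with h1 | h1
  · rcases hq.dvd_mul.mp h1 with h2 | h2
    · simp [(Nat.prime_dvd_prime_iff_eq hq Nat.prime_two).mp (hq.dvd_of_dvd_pow h2)]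
    · simp [(Nat.prime_dvd_prime_iff_eq hq Nat.prime_three).mp (hq.dvd_of_dvd_pow h2)]
  · simp [(Nat.prime_dvd_prime_iff_eq hq Nat.prime_five).mp h1]

theorem primes_7920 {q : ℕ} (hq : q.Prime) (h : q ∣ 7920) : q = 2 ∨ q = 3 ∨ q = 5 ∨ q = 11 := by
  rcases hq.dvd_mul.mp (show q ∣ 720 * 11 from h) with h1 | h1
  · have := primes_720 hq h1
    simp only [List.mem_cons, List.not_mem_nil, or_false] at this
    omega
  · exact Or.inr (Or.inr (Or.inr ((Nat.prime_dvd_prime_iff_eq hq (by norm_num)).mp h1)))

theorem dvd_720 {m : ℕ} (h : m ∣ 7920) (h11 : ¬ 11 ∣ m) : m ∣ 720 :=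
  Nat.Coprime.dvd_of_dvd_mul_right (((Nat.Prime.coprime_iff_not_dvd (by norm_num)).mpr h11).symm) (show m ∣ 720 * 11 from h)

theorem ppow_720 {q k : ℕ} (hq : q.Prime) (h : q ^ k ∣ 720) : q ^ k ∈ [1, 2, 4, 8, 16, 3, 9, 5] := by
  rcases Nat.eq_zero_or_pos k with rfl | hk
  · simp
  refine pow_cases k ?_ q (primes_720 hq ((dvd_pow_self q hk.ne').trans h)) h
  have h2 : 2 ^ k ≤ 720 := (Nat.pow_le_pow_left hq.two_le k).trans (Nat.le_of_dvd (by norm_num) h)
  by_contra hk'
  have := (Nat.pow_le_pow_right (show 1 ≤ 2 by norm_num) (not_lt.mp hk')).trans h2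
  norm_num at this

instance eleven_fact : Fact (Nat.Prime 11) := ⟨by norm_num⟩

theorem sylow_card_index (P : Sylow 11 G) :
    Nat.card (Sylow 11 G) = (normalizer ((P : Subgroup G) : Set G)).index := P.card_eq_index_normalizer

theorem fac_eq {q k n : ℕ} (hq : q.Prime) (hn : n ≠ 0) (h : q ^ k ∣ n) (h' : ¬ q ^ (k + 1) ∣ n) :
    n.factorization q = k :=
  le_antisymm (Nat.le_of_lt_succ (not_le.mp fun hle => h' ((hq.pow_dvd_iff_le_factorization hn).mpr hle)))
    ((hq.pow_dvd_iff_le_factorization hn).mp h)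

variable (hG : Nat.card G = 7920)

include hG in
theorem card_eleven (P : Sylow 11 G) : Nat.card (P : Subgroup G) = 11 := by
  rw [P.card_eq_multiplicity, hG]
  have : (7920 : ℕ).factorization 11 = 1 := by
    rw [show (7920 : ℕ) = 720 * 11 from rfl, Nat.factorization_mul (by norm_num) (by norm_num),
      Finsupp.add_apply, Nat.factorization_eq_zero_of_not_dvd (by norm_num),
      (show Nat.Prime 11 by norm_num).factorization_self]
  rw [this, pow_one]

include hG in
theorem sylow_count_cases : Nat.card (Sylow 11 G) = 1 ∨ Nat.card (Sylow 11 G) = 12 ∨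
    Nat.card (Sylow 11 G) = 45 ∨ Nat.card (Sylow 11 G) = 144 := by
  obtain ⟨P⟩ : Nonempty (Sylow 11 G) := inferInstance
  have hd := P.card_dvd_index
  have hi := (P : Subgroup G).card_mul_index
  rw [card_eleven hG P, hG] at hi
  rw [show (P : Subgroup G).index = 720 by omega] at hd
  have key : ∀ m ∈ Nat.divisors 720, m % 11 = 1 → m = 1 ∨ m = 12 ∨ m = 45 ∨ m = 144 := by decide +kernel
  exact key _ (Nat.mem_divisors.mpr ⟨hd, by norm_num⟩) (card_sylow_modEq_one 11 G)

include hG in
theorem centralize_eleven {K : Subgroup G} (hK : ¬ 11 ∣ Nat.card K) (P : Sylow 11 G)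
    (hPK : (P : Subgroup G) ≤ normalizer (K : Set G)) : K ≤ centralizer ((P : Subgroup G) : Set G) := by
  have hco : (Nat.card (P : Subgroup G)).Coprime (Nat.card K) := by
    rw [card_eleven hG P]; exact (Nat.Prime.coprime_iff_not_dvd (by norm_num)).mpr hK
  haveI : Group.IsNilpotent (P : Subgroup G) := P.isPGroup'.isNilpotent
  have hdK : Nat.card K ∣ 720 := dvd_720 (hG ▸ card_subgroup_dvd_card K) hK
  suffices h : Nat.card K ∣ Nat.card (K ⊓ centralizer ((P : Subgroup G) : Set G) : Subgroup G) by
    intro x hx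
    rw [← eq_of_le_of_card_ge inf_le_left (Nat.le_of_dvd Nat.card_pos h)] at hx
    exact hx.2
  rw [Nat.dvd_iff_prime_pow_dvd_dvd]
  intro q k hq hqk
  haveI := Fact.mk hq
  obtain ⟨R, hR⟩ := CfsgLib.coprime_exists_invariant_sylow hPK hco (Or.inl inferInstance) q
  set R' := (R : Subgroup K).map K.subtype with hR'
  have hcard : Nat.card R' = Nat.card R := card_map_of_injective K.subtype_injective
  have hmem : Nat.card R' ∈ [1, 2, 4, 8, 16, 3, 9, 5] := by
    rw [hcard, R.card_eq_multiplicity]
    exact ppow_720 hq ((Nat.ordProj_dvd _ q).trans hdK)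
  have hmod := card_fixed_modEq P.isPGroup' hR
  have hle : Nat.card (R' ⊓ centralizer ((P : Subgroup G) : Set G) : Subgroup G) < 17 := by
    have h1 := Nat.le_of_dvd Nat.card_pos (card_dvd_of_le (inf_le_left : R' ⊓ centralizer ((P : Subgroup G) : Set G) ≤ R'))
    simp only [List.mem_cons, List.not_mem_nil, or_false] at hmem
    omega
  have hF := fixed_cases _ hmem _ hle (card_dvd_of_le inf_le_left) hmod
  refine dvd_trans ?_ (card_dvd_of_le (inf_le_inf_right _ (map_subtype_le (R : Subgroup K))))
  rw [← hR', hF, hcard]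
  exact R.pow_dvd_card_of_pow_dvd_card hqk

include hG in
theorem orbit_le (D : Subgroup G) {P R : Sylow 11 G} (hP : (P : Subgroup G) ≤ D) (hR : (R : Subgroup G) ≤ D) :
    R ∈ orbit D P := by
  obtain ⟨d, hd⟩ := MulAction.exists_smul_eq D (P.subtype hP) (R.subtype hR)
  refine ⟨d, ?_⟩
  refine Sylow.ext ?_
  ext x
  have hd' := congrArg (fun S : Sylow 11 D => (S : Subgroup D)) hd
  constructor
  · intro hx
    obtain ⟨y, hy, rfl⟩ := hx
    have : d * ⟨y, hP hy⟩ * d⁻¹ ∈ ((d • P.subtype hP : Sylow 11 D) : Subgroup D) := ⟨⟨y, hP hy⟩, hy, rfl⟩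
    rw [hd] at this
    exact this
  · intro hx
    have : (⟨x, hR hx⟩ : D) ∈ ((d • P.subtype hP : Sylow 11 D) : Subgroup D) := by rw [hd]; exact hx
    obtain ⟨y, hy, hyx⟩ := this
    exact ⟨y, hy, congrArg Subtype.val hyx⟩

include hG in
/-- A prime order subgroup moves every other Sylow subgroup freely. -/
theorem eq_one_of_fix {R Q : Sylow 11 G} (hne : Q ≠ R) {z : G} (hz : z ∈ (R : Subgroup G)) (h : z • Q = Q) : z = 1 := by
  by_contra hz1
  apply hne
  have hzR : zpowers z = (R : Subgroup G) := by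
    refine eq_of_le_of_card_ge (zpowers_le.mpr hz) (le_of_eq ?_)
    rw [card_eleven hG R, Nat.card_zpowers]
    rcases (Nat.dvd_prime (by norm_num)).mp ((card_eleven hG R) ▸ orderOf_dvd_natCard (R : Subgroup G) hz) with e | e
    · exact absurd (orderOf_eq_one_iff.mp e) hz1
    · exact e.symm
  have hN : (R : Subgroup G) ≤ normalizer ((Q : Subgroup G) : Set G) := by
    rw [← hzR, zpowers_le]
    exact Sylow.smul_eq_iff_mem_normalizer.mp h
  have : (R : Subgroup G) ⊓ normalizer ((Q : Subgroup G) : Set G) = (R : Subgroup G) ⊓ Q :=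
    R.isPGroup'.inf_normalizer_sylow Q
  rw [inf_eq_left.mpr hN] at this
  have hle : (R : Subgroup G) ≤ Q := this.le.trans inf_le_right
  exact Sylow.ext (eq_of_le_of_card_ge hle (le_of_eq (by rw [card_eleven hG, card_eleven hG]))).symm

include hG in
theorem centralizer_card_dvd (P : Sylow 11 G) :
    Nat.card (normalizer ((P : Subgroup G) : Set G)) ∣ Nat.card (centralizer ((P : Subgroup G) : Set G)) * 10 := by
  haveI : IsCyclic (P : Subgroup G) := isCyclic_of_prime_card (card_eleven hG P)
  have h1 := (normalizerMonoidHom (P : Subgroup G)).ker.card_mul_index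
  rw [index_ker] at h1
  have h2 : Nat.card (normalizerMonoidHom (P : Subgroup G)).range ∣ 10 := by
    refine (card_subgroup_dvd_card _).trans ?_
    rw [IsCyclic.card_mulAut, card_eleven hG P]
    decide
  rw [← h1]
  refine Nat.mul_dvd_mul (dvd_of_eq ?_) h2
  rw [normalizerMonoidHom_ker]
  refine Nat.card_congr (subgroupOfEquivOfLe ?_).toEquiv
  exact centralizer_le_normalizer _

theorem involution_pow {x : G} : ∀ k : ℕ, x ^ 2 ^ k = 1 → x ≠ 1 → ∃ m : ℕ, x ^ m * x ^ m = 1 ∧ x ^ m ≠ 1
  | 0 => fun h h1 => absurd (by simpa using h) h1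
  | k + 1 => fun h h1 => by
    by_cases hk : x ^ 2 ^ k = 1
    · exact involution_pow k hk h1
    · exact ⟨2 ^ k, by rw [← pow_add, ← two_mul, ← pow_succ']; exact h, hk⟩

include hG in
theorem twelve_impossible (hfaith : ∀ g : G, (∀ R : Sylow 11 G, g • R = R) → g = 1) (P : Sylow 11 G)
    (hn : Nat.card (Sylow 11 G) = 12) : False := by
  have hN := (normalizer ((P : Subgroup G) : Set G)).card_mul_index
  rw [← sylow_card_index P, hn, hG] at hN
  have hCP : centralizer ((P : Subgroup G) : Set G) ≤ P := by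
    intro c hc
    haveI : Nontrivial (Sylow 11 G) := Finite.one_lt_card_iff_nontrivial.mp (by rw [hn]; norm_num)
    obtain ⟨Q, hQ⟩ := exists_ne P
    have hcP : c • P = P := Sylow.smul_eq_iff_mem_normalizer.mpr (centralizer_le_normalizer _ hc)
    let f : ↥(P : Subgroup G) → {R : Sylow 11 G // R ≠ P} := fun z => ⟨(z : G) • Q, fun e => hQ (by
      have hzP : (z : G) • P = P := Sylow.smul_eq_iff_mem_normalizer.mpr (le_normalizer z.2)
      exact MulAction.injective (z : G) (e.trans hzP.symm))⟩
    have hf : Function.Injective f := fun z w h => by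
      have h' : (z : G) • Q = (w : G) • Q := congrArg Subtype.val h
      have := eq_one_of_fix hG hQ (mul_mem (inv_mem w.2) z.2) (by rw [mul_smul, h', inv_smul_smul])
      exact (Subtype.ext (inv_mul_eq_one.mp this)).symm
    have hcard : Nat.card {R : Sylow 11 G // R ≠ P} = 11 := by
      classical
      haveI := Fintype.ofFinite (Sylow 11 G)
      rw [Nat.card_eq_fintype_card, Fintype.card_subtype_compl, Fintype.card_subtype_eq, ← Nat.card_eq_fintype_card, hn]
    have hbij := (Nat.bijective_iff_injective_and_card f).mpr ⟨hf, by rw [card_eleven hG P, hcard]⟩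
    obtain ⟨z, hz⟩ := hbij.2 ⟨c • Q, fun e => hQ (MulAction.injective c (e.trans hcP.symm))⟩
    have hz' : (z : G) • Q = c • Q := congrArg Subtype.val hz
    have hone : (z : G)⁻¹ * c = 1 := by
      apply hfaith
      intro R
      by_cases hR : R = P
      · rw [hR, mul_smul, hcP, inv_smul_eq_iff]
        exact (Sylow.smul_eq_iff_mem_normalizer.mpr (le_normalizer z.2)).symm
      obtain ⟨w, hw⟩ := hbij.2 ⟨R, hR⟩
      have hw' : (w : G) • Q = R := congrArg Subtype.val hw
      haveI : IsCyclic (P : Subgroup G) := isCyclic_of_prime_card (card_eleven hG P)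
      have hzw : (z : G) * w = w * z := congrArg Subtype.val (IsCyclic.commutative.is_comm.comm z w)
      have hcw : c * w = w * c := (mem_centralizer_iff.mp hc w w.2).symm
      rw [← hw', ← mul_smul, mul_assoc, hcw, ← mul_assoc,
        show (z : G)⁻¹ * w = w * (z : G)⁻¹ by rw [inv_mul_eq_iff_eq_mul, ← mul_assoc, hzw, mul_inv_cancel_right],
        mul_smul, mul_smul, ← hz', inv_smul_smul]
    rw [← inv_mul_eq_one.mp hone]
    exact z.2
  have h1 := centralizer_card_dvd hG P
  have h2 := card_dvd_of_le hCP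
  rw [card_eleven hG P] at h2
  have h3 := Nat.le_of_dvd (by norm_num) (h1.trans (Nat.mul_dvd_mul_right h2 10))
  omega

include hG in
theorem forty_five_impossible (hfaith : ∀ g : G, (∀ R : Sylow 11 G, g • R = R) → g = 1) (P : Sylow 11 G)
    (hn : Nat.card (Sylow 11 G) = 45) : False := by
  classical
  haveI := Fintype.ofFinite (Sylow 11 G)
  haveI : Fact (Nat.Prime 2) := ⟨Nat.prime_two⟩
  set C := centralizer ((P : Subgroup G) : Set G) with hC
  have hN := (normalizer ((P : Subgroup G) : Set G)).card_mul_index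
  rw [← sylow_card_index P, hn, hG] at hN
  have hd := centralizer_card_dvd hG P
  have h8 : 8 ∣ Nat.card C := by
    have h176 : Nat.card (normalizer ((P : Subgroup G) : Set G)) = 176 := by omega
    rw [h176] at hd
    exact Nat.Coprime.dvd_of_dvd_mul_right (show Nat.Coprime 8 5 by norm_num)
      (Nat.dvd_of_mul_dvd_mul_right (show 0 < 2 by norm_num) (show 8 * 2 ∣ Nat.card C * 5 * 2 by
        rw [mul_assoc]; exact (show 8 * 2 ∣ 176 by norm_num).trans hd))
  obtain ⟨U, hU⟩ := Sylow.exists_subgroup_card_pow_prime 2 (n := 3) (G := C) (by simpa using h8)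
  -- some element fixes two points
  have hex : ∃ u : U, u ≠ 1 ∧ ∃ Q : Sylow 11 G, Q ≠ P ∧ ((u : C) : G) • Q = Q := by
    by_contra hno
    push Not at hno
    have hfix : ∀ u : U, ((u : C) : G) • P = P := fun u =>
      Sylow.smul_eq_iff_mem_normalizer.mpr (centralizer_le_normalizer _ (u : C).2)
    letI : MulAction U {Q : Sylow 11 G // Q ≠ P} :=
      { smul := fun u Q => ⟨((u : C) : G) • Q.1, fun e => Q.2 (MulAction.injective _ (e.trans (hfix u).symm))⟩
        one_smul := fun Q => Subtype.ext (one_smul G Q.1)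
        mul_smul := fun u v Q => Subtype.ext (mul_smul ((u : C) : G) ((v : C) : G) Q.1) }
    have hst : ∀ Q : {Q : Sylow 11 G // Q ≠ P}, stabilizer U Q = ⊥ := fun Q => by
      rw [eq_bot_iff]
      intro u hu
      by_contra hu1
      exact hno u hu1 Q.1 Q.2 (congrArg Subtype.val hu)
    have hc := Nat.card_congr (MulAction.selfEquivOrbitsQuotientProd hst)
    rw [Nat.card_prod, hU, Nat.card_eq_fintype_card, Fintype.card_subtype_compl, Fintype.card_subtype_eq,
      ← Nat.card_eq_fintype_card, hn] at hc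
    omega
  obtain ⟨⟨⟨u0, hu0C⟩, hu0U⟩, hu01, Q, hQP, hu0Q⟩ := hex
  -- pass to an involution
  obtain ⟨m, hu2, hu1⟩ : ∃ m : ℕ, u0 ^ m * u0 ^ m = 1 ∧ u0 ^ m ≠ 1 := by
    have hUp : IsPGroup 2 U := IsPGroup.of_card hU
    obtain ⟨k, hk⟩ := hUp ⟨⟨u0, hu0C⟩, hu0U⟩
    exact involution_pow k (congrArg (fun w : U => ((w : C) : G)) hk) (fun e => hu01 (Subtype.ext (Subtype.ext e)))
  set u := u0 ^ m
  have huC : u ∈ C := pow_mem hu0C m
  have huQ : u • Q = Q := by
    have : u ∈ stabilizer G Q := pow_mem (show u0 ∈ stabilizer G Q from hu0Q) m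
    exact this
  have huP : u • P = P := Sylow.smul_eq_iff_mem_normalizer.mpr (centralizer_le_normalizer _ huC)
  set F := {R : Sylow 11 G | u • R = R} with hF
  -- a non-centralizing fixed point forces few fixed points
  have hfew : ∀ R ∈ F, (∀ z ∈ (R : Subgroup G), Commute u z) ∨ F.ncard ≤ 5 := by
    intro R hR
    refine or_iff_not_imp_left.mpr fun hnc => ?_
    let f : ↥(F \ {R}) × (R : Subgroup G) → ↥(({R} : Set (Sylow 11 G))ᶜ) := fun x => ⟨(x.2 : G) • x.1.1, fun e => x.1.2.2 (by
      have hzR : (x.2 : G) • R = R := Sylow.smul_eq_iff_mem_normalizer.mpr (le_normalizer x.2.2)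
      exact MulAction.injective (x.2 : G) ((Set.mem_singleton_iff.mp e).trans hzR.symm))⟩
    have hinj : Function.Injective f := by
      rintro ⟨⟨Q1, hQ1, hQ1'⟩, z⟩ ⟨⟨Q2, hQ2, hQ2'⟩, w⟩ h
      have h' : (z : G) • Q1 = (w : G) • Q2 := congrArg Subtype.val h
      set t : G := (w : G)⁻¹ * z with ht
      have htR : t ∈ (R : Subgroup G) := mul_mem (inv_mem w.2) z.2
      have htQ : t • Q1 = Q2 := by rw [ht, mul_smul, h', inv_smul_smul]
      have hut : u * t * u⁻¹ ∈ (R : Subgroup G) :=
        (mem_normalizer_iff.mp (Sylow.smul_eq_iff_mem_normalizer.mp hR) t).mp htR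
      have hfixQ : (t⁻¹ * (u * t * u⁻¹)) • Q1 = Q1 := by
        have hinv : u⁻¹ • Q1 = Q1 := by rw [inv_smul_eq_iff]; exact (show u • Q1 = Q1 from hQ1).symm
        rw [mul_smul, mul_smul, mul_smul, hinv, htQ, show u • Q2 = Q2 from hQ2, inv_smul_eq_iff, htQ]
      have h1 := eq_one_of_fix hG (fun e => hQ1' e) (mul_mem (inv_mem htR) hut) hfixQ
      rw [inv_mul_eq_one, eq_mul_inv_iff_mul_eq] at h1
      have ht1 : t = 1 := by
        by_contra hne
        apply hnc
        intro y hy
        have hzp : zpowers t = (R : Subgroup G) := by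
          refine eq_of_le_of_card_ge (zpowers_le.mpr htR) (le_of_eq ?_)
          rw [card_eleven hG R, Nat.card_zpowers]
          rcases (Nat.dvd_prime (by norm_num)).mp ((card_eleven hG R) ▸ orderOf_dvd_natCard (R : Subgroup G) htR) with e | e
          · exact absurd (orderOf_eq_one_iff.mp e) hne
          · exact e.symm
        rw [← hzp, mem_zpowers_iff] at hy
        obtain ⟨j, rfl⟩ := hy
        exact (Commute.zpow_right (show Commute u t from h1.symm) j)
      have hzw : z = w := Subtype.ext (inv_mul_eq_one.mp (ht ▸ ht1)).symm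
      subst hzw
      have : Q1 = Q2 := MulAction.injective _ h'
      subst this
      rfl
    have hle := Nat.card_le_card_of_injective f hinj
    rw [Nat.card_prod, card_eleven hG R, Nat.card_coe_set_eq, Nat.card_coe_set_eq, Set.ncard_compl,
      Set.ncard_singleton, hn, Set.ncard_diff_singleton_of_mem hR] at hle
    omega
  -- at least twelve fixed points
  have h12 : 12 ≤ F.ncard := by
    let f : ↥(P : Subgroup G) → ↥(F \ {P}) := fun z => ⟨(z : G) • Q, by
      refine ⟨?_, fun e => hQP ?_⟩
      · show u • (z : G) • Q = (z : G) • Q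
        rw [← mul_smul, ← (mem_centralizer_iff.mp huC z z.2), mul_smul, huQ]
      · have hzP : (z : G) • P = P := Sylow.smul_eq_iff_mem_normalizer.mpr (le_normalizer z.2)
        exact MulAction.injective (z : G) ((Set.mem_singleton_iff.mp e).trans hzP.symm)⟩
    have hinj : Function.Injective f := fun z w h => by
      have h' : (z : G) • Q = (w : G) • Q := congrArg Subtype.val h
      have := eq_one_of_fix hG hQP (mul_mem (inv_mem w.2) z.2) (by rw [mul_smul, h', inv_smul_smul])
      exact (Subtype.ext (inv_mul_eq_one.mp this)).symm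
    have hle := Nat.card_le_card_of_injective f hinj
    rw [card_eleven hG P, Nat.card_coe_set_eq, Set.ncard_diff_singleton_of_mem (show P ∈ F from huP)] at hle
    omega
  set D := centralizer ({u} : Set G) with hD
  have hsubD : ∀ R ∈ F, (R : Subgroup G) ≤ D := fun R hR z hz => by
    refine mem_centralizer_singleton_iff.mpr ?_
    exact ((((hfew R hR).resolve_right (by omega)) z hz)).eq.symm
  have horb : F = orbit D P := by
    refine Set.Subset.antisymm (fun R hR => orbit_le hG D (hsubD P huP) (hsubD R hR)) ?_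
    rintro _ ⟨d, rfl⟩
    show u • (d : G) • P = (d : G) • P
    rw [← mul_smul, ← mem_centralizer_singleton_iff.mp d.2, mul_smul, huP]
  have hdvd : F.ncard ∣ 7920 := by
    rw [horb, ← index_stabilizer]
    exact (index_dvd_card _).trans (hG ▸ card_subgroup_dvd_card D)
  -- congruences
  have hmod11 : F.ncard % 11 = 1 := by
    have hPD : (P : Subgroup G) ≤ D := hsubD P huP
    letI : MulAction (P : Subgroup G) ↥F :=
      { smul := fun z R => ⟨(z : G) • R.1, by
          show u • (z : G) • R.1 = (z : G) • R.1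
          rw [← mul_smul, ← mem_centralizer_singleton_iff.mp (hPD z.2), mul_smul, show u • R.1 = R.1 from R.2]⟩
        one_smul := fun R => Subtype.ext (one_smul G R.1)
        mul_smul := fun z w R => Subtype.ext (mul_smul (z : G) (w : G) R.1) }
    have h := P.isPGroup'.card_modEq_card_fixedPoints ↥F
    have hfx : Nat.card (MulAction.fixedPoints (P : Subgroup G) ↥F) = 1 := by
      rw [Nat.card_eq_one_iff_unique]
      refine ⟨⟨fun a b => ?_⟩, ⟨⟨⟨P, huP⟩, fun z => Subtype.ext (Sylow.smul_eq_iff_mem_normalizer.mpr (le_normalizer z.2))⟩⟩⟩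
      have key : ∀ a : MulAction.fixedPoints (P : Subgroup G) ↥F, a.1.1 = P := fun a => by
        by_contra hne
        obtain ⟨z, hz⟩ : ∃ z : (P : Subgroup G), z ≠ 1 := by
          haveI : Nontrivial (P : Subgroup G) := Finite.one_lt_card_iff_nontrivial.mp (by rw [card_eleven hG P]; norm_num)
          exact exists_ne 1
        exact hz (Subtype.ext (eq_one_of_fix hG hne z.2 (congrArg Subtype.val (a.2 z))))
      exact Subtype.ext (Subtype.ext ((key a).trans (key b).symm))
    rw [hfx, Nat.card_coe_set_eq] at h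
    exact h
  have hmod2 : F.ncard % 2 = 1 := by
    have hT : IsPGroup 2 (zpowers u) := IsPGroup.of_card (n := 1) (by
      rw [Nat.card_zpowers, pow_one]; exact orderOf_eq_prime (by rw [pow_two]; exact hu2) hu1)
    have h := hT.card_modEq_card_fixedPoints (Sylow 11 G)
    have he : Nat.card (MulAction.fixedPoints (zpowers u) (Sylow 11 G)) = F.ncard := by
      rw [Nat.card_coe_set_eq]
      congr 1
      ext R
      constructor
      · exact fun h => h ⟨u, mem_zpowers u⟩
      · intro h z
        exact zpowers_le.mpr (show u ∈ stabilizer G R from h) z.2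
    rw [hn, he] at h
    exact h.symm
  have hle45 : F.ncard ≤ 45 := hn ▸ (Set.ncard_le_ncard (Set.subset_univ F)).trans (le_of_eq (Set.ncard_univ _))
  have hcase : F.ncard = 45 := by
    have key : ∀ f < 46, 12 ≤ f → f % 11 = 1 → f % 2 = 1 → f ∣ 7920 → f = 45 := by decide +kernel
    exact key _ (by omega) h12 hmod11 hmod2 hdvd
  apply hu1
  apply hfaith
  intro R
  have : F = Set.univ := Set.eq_of_subset_of_ncard_le (Set.subset_univ F) (by rw [Set.ncard_univ, hn, hcase]) (Set.toFinite _)
  exact (this ▸ Set.mem_univ R : R ∈ F)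

section Disconnected

variable (A : Set ℕ)
  (hA : ∀ a ∈ A, ∀ b ∉ A, a.Prime → b.Prime → a ∣ Nat.card G → b ∣ Nat.card G → ¬ ∃ g : G, orderOf g = a * b)

include hA in
theorem same_side {a b : ℕ} (ha : a.Prime) (hb : b.Prime) {x y : G} (hx : orderOf x = a) (hy : orderOf y = b)
    (hc : Commute x y) : a ∈ A ↔ b ∈ A := by
  by_cases hab : a = b
  · rw [hab]
  have ho : orderOf (x * y) = a * b := by
    rw [hc.orderOf_mul_eq_mul_orderOf_of_coprime (by rw [hx, hy]; exact (Nat.coprime_primes ha hb).mpr hab), hx, hy]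
  have hda : a ∣ Nat.card G := hx ▸ orderOf_dvd_natCard x
  have hdb : b ∣ Nat.card G := hy ▸ orderOf_dvd_natCard y
  constructor
  · intro h
    by_contra h'
    exact hA a h b h' ha hb hda hdb ⟨_, ho⟩
  · intro h
    by_contra h'
    exact hA b h a h' hb ha hdb hda ⟨x * y, by rw [ho, mul_comm]⟩

theorem exists_order {K : Subgroup G} {q : ℕ} (hq : q.Prime) (h : q ∣ Nat.card K) : ∃ x ∈ K, orderOf x = q := by
  haveI := Fact.mk hq
  obtain ⟨x, hx⟩ := exists_prime_orderOf_dvd_card' q h
  exact ⟨x, x.2, (orderOf_coe x).trans hx⟩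

include hA in
theorem same_of_centralizer {K L : Subgroup G} (hKL : K ≤ centralizer (L : Set G)) {a b : ℕ} (ha : a.Prime) (hb : b.Prime)
    (hda : a ∣ Nat.card K) (hdb : b ∣ Nat.card L) : a ∈ A ↔ b ∈ A := by
  obtain ⟨x, hx, hxo⟩ := exists_order ha hda
  obtain ⟨y, hy, hyo⟩ := exists_order hb hdb
  exact same_side A hA ha hb hxo hyo (mem_centralizer_iff.mp (hKL hx) y hy).symm

include hG hA in
theorem contra_of_sides (h : ∀ q ∈ [2, 3, 5], (q ∈ A ↔ 11 ∈ A))
    (h1 : ∃ a ∈ A, a.Prime ∧ a ∣ Nat.card G) (h2 : ∃ b ∉ A, b.Prime ∧ b ∣ Nat.card G) : False := by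
  obtain ⟨a, ha, hap, had⟩ := h1
  obtain ⟨b, hb, hbp, hbd⟩ := h2
  have hall : ∀ q : ℕ, q.Prime → q ∣ Nat.card G → (q ∈ A ↔ 11 ∈ A) := by
    intro q hq hd
    rcases primes_7920 hq (hG ▸ hd) with rfl | rfl | rfl | rfl
    · exact h _ (by simp)
    · exact h _ (by simp)
    · exact h _ (by simp)
    · exact Iff.rfl
  exact hb ((hall b hbp hbd).mpr ((hall a hap had).mp ha))

variable (h1 : ∃ a ∈ A, a.Prime ∧ a ∣ Nat.card G) (h2 : ∃ b ∉ A, b.Prime ∧ b ∣ Nat.card G)

include hG hA h1 h2 in
theorem count_ne_one : Nat.card (Sylow 11 G) ≠ 1 := by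
  intro hn
  obtain ⟨P⟩ : Nonempty (Sylow 11 G) := inferInstance
  have hPn : normalizer ((P : Subgroup G) : Set G) = ⊤ := by
    rw [← index_eq_one, ← sylow_card_index P, hn]
  haveI hPnormal : (P : Subgroup G).Normal := normalizer_eq_top_iff.mp hPn
  have hd := centralizer_card_dvd hG P
  rw [hPn, card_top, hG] at hd
  set C := centralizer ((P : Subgroup G) : Set G) with hC
  have hCd : Nat.card C ∣ 7920 := hG ▸ card_subgroup_dvd_card C
  have h792 : 792 ∣ Nat.card C := Nat.dvd_of_mul_dvd_mul_right (show 0 < 10 by norm_num) hd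
  have hlink : ∀ q : ℕ, q.Prime → q ∣ Nat.card C → (q ∈ A ↔ 11 ∈ A) := fun q hq hqd =>
    same_of_centralizer A hA (K := C) (L := (P : Subgroup G)) le_rfl hq (by norm_num) hqd (by rw [card_eleven hG P])
  have h2' := hlink 2 Nat.prime_two ((show 2 ∣ 792 by norm_num).trans h792)
  have h3' := hlink 3 Nat.prime_three ((show 3 ∣ 792 by norm_num).trans h792)
  refine contra_of_sides hG A hA ?_ h1 h2
  suffices h5 : (5 ∈ A ↔ 11 ∈ A) by
    intro q hq
    simp only [List.mem_cons, List.not_mem_nil, or_false] at hq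
    rcases hq with rfl | rfl | rfl <;> assumption
  by_cases h5C : 5 ∣ Nat.card C
  · exact hlink 5 Nat.prime_five h5C
  haveI : Fact (Nat.Prime 3) := ⟨Nat.prime_three⟩
  haveI : Fact (Nat.Prime 5) := ⟨Nat.prime_five⟩
  haveI : C.Normal := by rw [hC]; infer_instance
  obtain ⟨Q⟩ : Nonempty (Sylow 3 C) := inferInstance
  have hsup := Sylow.normalizer_sup_eq_top Q
  set Q' := (Q : Subgroup C).map C.subtype with hQ'
  have h5N : 5 ∣ Nat.card (normalizer (Q' : Set G)) := by
    have hG' : 5 ∣ Nat.card G := by rw [hG]; norm_num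
    have hdvd : Nat.card G ∣ Nat.card (normalizer (Q' : Set G)) * Nat.card C := by
      rw [card_eq_card_quotient_mul_card_subgroup C]
      refine Nat.mul_dvd_mul_right ?_ _
      have hsurj : Function.Surjective ((QuotientGroup.mk' C).comp (normalizer (Q' : Set G)).subtype) := by
        intro y
        obtain ⟨g, rfl⟩ := QuotientGroup.mk'_surjective C y
        have hg : g ∈ normalizer (Q' : Set G) ⊔ C := by rw [hsup]; exact mem_top g
        rw [mem_sup_of_normal_right] at hg
        obtain ⟨a, ha, c, hc, rfl⟩ := hg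
        refine ⟨⟨a, ha⟩, ?_⟩
        show (QuotientGroup.mk' C) a = _
        rw [map_mul, QuotientGroup.mk'_apply, QuotientGroup.mk'_apply, (QuotientGroup.eq_one_iff c).mpr hc, mul_one]
      exact card_dvd_of_surjective _ hsurj
    rcases Nat.prime_five.dvd_mul.mp (hG'.trans hdvd) with h | h
    · exact h
    · exact absurd h h5C
  obtain ⟨x, hx, hxo⟩ := exists_order Nat.prime_five h5N
  have hQc : Nat.card Q' = 9 := by
    rw [card_map_of_injective C.subtype_injective]
    obtain ⟨k, hk⟩ := IsPGroup.iff_card.mp Q.isPGroup'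
    have h9 : 9 ∣ Nat.card (Q : Subgroup C) :=
      Q.pow_dvd_card_of_pow_dvd_card (n := 2) ((show 3 ^ 2 ∣ 792 by norm_num).trans h792)
    have hd' : 3 ^ k ∣ 720 := dvd_720 (hk ▸ (card_subgroup_dvd_card _).trans hCd)
      (fun h => by
        have := (show Nat.Prime 11 by norm_num).dvd_of_dvd_pow h
        norm_num at this)
    have hm := ppow_720 Nat.prime_three hd'
    rw [hk] at h9 ⊢
    simp only [List.mem_cons, List.not_mem_nil, or_false] at hm
    omega
  have hT : IsPGroup 5 (zpowers x) := IsPGroup.of_card (n := 1) (by rw [Nat.card_zpowers, hxo, pow_one])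
  have hmod := card_fixed_modEq hT (zpowers_le.mpr hx)
  have hFd : Nat.card (Q' ⊓ centralizer (zpowers x : Set G) : Subgroup G) ∣ 9 := hQc ▸ card_dvd_of_le inf_le_left
  rw [hQc] at hmod
  have hF9 : Nat.card (Q' ⊓ centralizer (zpowers x : Set G) : Subgroup G) = 9 := by
    have key : ∀ F < 10, F ∣ 9 → 9 % 5 = F % 5 → F = 9 := by decide
    exact key _ (Nat.lt_succ_of_le (Nat.le_of_dvd (by norm_num) hFd)) hFd hmod
  exact (same_of_centralizer A hA (K := Q' ⊓ centralizer (zpowers x : Set G)) (L := zpowers x) inf_le_right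
    Nat.prime_three Nat.prime_five (by rw [hF9]; norm_num) (by rw [Nat.card_zpowers, hxo])).symm.trans h3'

include hG hA h1 h2 in
/-- No nontrivial normal subgroup has order prime to eleven. -/
theorem no_normal_coprime (N : Subgroup G) [hN : N.Normal] (hne : N ≠ ⊥) (h11 : ¬ 11 ∣ Nat.card N) : False := by
  have hn1 := count_ne_one hG A hA h1 h2
  obtain ⟨P⟩ : Nonempty (Sylow 11 G) := inferInstance
  set L := closure {g : G | g ^ 11 = 1} with hLdef
  have hPL : ∀ R : Sylow 11 G, (R : Subgroup G) ≤ L := fun R z hz => subset_closure (by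
    show z ^ 11 = 1
    rw [← card_eleven hG R]
    exact congrArg Subtype.val (pow_card_eq_one' (x := (⟨z, hz⟩ : (R : Subgroup G)))))
  have hNL : N ≤ centralizer (L : Set G) := by
    rw [le_centralizer_iff, hLdef, closure_le]
    intro g hg
    have hT : IsPGroup 11 (zpowers g) := IsPGroup.iff_card.mpr (by
      rcases (Nat.dvd_prime (by norm_num)).mp (orderOf_dvd_of_pow_eq_one hg) with e | e
      · exact ⟨0, by rw [Nat.card_zpowers, e, pow_zero]⟩
      · exact ⟨1, by rw [Nat.card_zpowers, e, pow_one]⟩)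
    obtain ⟨R, hR⟩ := hT.exists_le_sylow
    have := centralize_eleven hG h11 R (by rw [normalizer_eq_top]; exact le_top)
    exact le_centralizer_iff.mp this (hR (mem_zpowers g))
  have hnL : Nat.card (Sylow 11 G) ∣ Nat.card L := by
    have horb : orbit L P = Set.univ := Set.eq_univ_of_forall fun R => orbit_le hG L (hPL P) (hPL R)
    have h := (stabilizer L P).index_dvd_card
    rwa [index_stabilizer, horb, Set.ncard_univ] at h
  have h11L : 11 ∣ Nat.card L := by
    rw [← card_eleven hG P]; exact card_dvd_of_le (hPL P)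
  have hfull : ∀ r : ℕ, r.Prime → r ≠ 11 → r ∣ Nat.card (Sylow 11 G) → ∀ R : Sylow r N,
      ¬ (7920 : ℕ).factorization r = (Nat.card N).factorization r := by
    intro r hr hr11 hrn R hf
    haveI := Fact.mk hr
    obtain ⟨S⟩ : Nonempty (Sylow r L) := inferInstance
    have hcen : ∀ s ∈ (S : Subgroup L), ∀ l : L, s * l = l * s := by
      intro s hs l
      have hR' : IsPGroup r ((R : Subgroup N).map N.subtype) := R.isPGroup'.map _
      obtain ⟨R2, hR2⟩ := hR'.exists_le_sylow
      have hR2N : (R2 : Subgroup G) ≤ N := by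
        have hc : (R2 : Subgroup G) = (R : Subgroup N).map N.subtype := by
          refine (eq_of_le_of_card_ge hR2 (le_of_eq ?_)).symm
          rw [R2.card_eq_multiplicity, card_map_of_injective N.subtype_injective, R.card_eq_multiplicity, hG, hf]
        rw [hc]; exact map_subtype_le _
      obtain ⟨S2, hS2⟩ := (S.isPGroup'.map L.subtype).exists_le_sylow
      obtain ⟨g, hg⟩ := MulAction.exists_smul_eq G R2 S2
      have hsN : (s : G) ∈ N := by
        have h1 : (s : G) ∈ (S2 : Subgroup G) := hS2 ⟨s, hs, rfl⟩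
        rw [← hg] at h1
        obtain ⟨y, hy, hys⟩ := h1
        have := hN.conj_mem y (hR2N hy) g
        exact hys ▸ this
      exact Subtype.ext (mem_centralizer_iff.mp (hNL hsN) l l.2).symm
    have hSc : normalizer ((S : Subgroup L) : Set L) ≤ centralizer ((S : Subgroup L) : Set L) :=
      fun l _ => mem_centralizer_iff.mpr fun s hs => hcen s hs l
    have hker : (MonoidHom.transferSylow S hSc).ker = ⊤ := by
      have hgen : closure ((↑) ⁻¹' {g : G | g ^ 11 = 1} : Set L) = ⊤ := closure_closure_coe_preimage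
      rw [eq_top_iff, ← hgen, closure_le]
      intro z hz
      have hz' : z ^ 11 = 1 := Subtype.ext (by rw [SubgroupClass.coe_pow]; exact hz)
      have ho : orderOf (MonoidHom.transferSylow S hSc z) ∣ 11 := orderOf_dvd_of_pow_eq_one (by rw [← map_pow, hz', map_one])
      obtain ⟨k, hk⟩ := S.isPGroup' (MonoidHom.transferSylow S hSc z)
      have h1 := Nat.eq_one_of_dvd_coprimes (Nat.Coprime.pow_left k ((Nat.coprime_primes hr (by norm_num)).mpr hr11))
        (orderOf_dvd_of_pow_eq_one hk) ho
      exact MonoidHom.mem_ker.mpr (orderOf_eq_one_iff.mp h1)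
    have hcomp := (MonoidHom.ker_transferSylow_isComplement' S hSc).card_mul
    rw [hker, card_top] at hcomp
    have hS1 : Nat.card (S : Subgroup L) = 1 := by
      have hpos : 0 < Nat.card L := Nat.card_pos
      exact (mul_eq_left₀ hpos.ne').mp hcomp
    have := S.pow_dvd_card_of_pow_dvd_card (n := 1) ((pow_one r).symm ▸ hrn.trans hnL)
    rw [pow_one, hS1, Nat.dvd_one] at this
    exact hr.ne_one this
  have hN1 : Nat.card N ≠ 1 := fun h => hne (eq_bot_of_card_eq N h)
  have hdN : Nat.card N ∣ 720 := dvd_720 (hG ▸ card_subgroup_dvd_card N) h11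
  obtain ⟨r, hr, hrN⟩ := Nat.exists_prime_and_dvd hN1
  have hN11 : ∀ q : ℕ, q.Prime → q ∣ Nat.card N → (q ∈ A ↔ 11 ∈ A) := fun q hq hqd =>
    same_of_centralizer A hA hNL hq (by norm_num) hqd h11L
  have hL11 : ∀ q : ℕ, q.Prime → q ∣ Nat.card L → (q ∈ A ↔ 11 ∈ A) := by
    intro q hq hqd
    exact (same_of_centralizer A hA hNL hr hq hrN hqd).symm.trans (hN11 r hr hrN)
  have hn := sylow_count_cases hG
  have hr3 : r = 2 ∨ r = 3 ∨ r = 5 := by
    have := primes_720 hr (hrN.trans hdN)
    simpa using this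
  haveI := Fact.mk hr
  obtain ⟨R⟩ : Nonempty (Sylow r N) := inferInstance
  have hfac : (7920 : ℕ).factorization 2 = 4 ∧ (7920 : ℕ).factorization 3 = 2 ∧ (7920 : ℕ).factorization 5 = 1 :=
    ⟨fac_eq (by norm_num) (by norm_num) (by norm_num) (by norm_num),
      fac_eq (by norm_num) (by norm_num) (by norm_num) (by norm_num),
      fac_eq (by norm_num) (by norm_num) (by norm_num) (by norm_num)⟩
  refine contra_of_sides hG A hA ?_ h1 h2
  have htwelve : 12 ∣ Nat.card L → 2 ∣ Nat.card (Sylow 11 G) → ∀ q ∈ [2, 3, 5], (q ∈ A ↔ 11 ∈ A) := by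
    intro h12 h2n q hq
    have h2L := hL11 2 Nat.prime_two ((show 2 ∣ 12 by norm_num).trans h12)
    have h3L := hL11 3 Nat.prime_three ((show 3 ∣ 12 by norm_num).trans h12)
    suffices h5 : (5 ∈ A ↔ 11 ∈ A) by
      simp only [List.mem_cons, List.not_mem_nil, or_false] at hq
      rcases hq with rfl | rfl | rfl <;> assumption
    by_cases h5N : 5 ∣ Nat.card N
    · exact hN11 5 Nat.prime_five h5N
    have hr5 : r ≠ 5 := fun e => h5N (e ▸ hrN)
    haveI : Fact (Nat.Prime 5) := ⟨Nat.prime_five⟩
    obtain ⟨x, -, hxo⟩ := exists_order (K := (⊤ : Subgroup G)) Nat.prime_five (by rw [card_top, hG]; norm_num)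
    have hT : IsPGroup 5 (zpowers x) := IsPGroup.of_card (n := 1) (by rw [Nat.card_zpowers, hxo, pow_one])
    haveI : Group.IsNilpotent (zpowers x) := hT.isNilpotent
    have hco : (Nat.card (zpowers x)).Coprime (Nat.card N) := by
      rw [Nat.card_zpowers, hxo]; exact (Nat.Prime.coprime_iff_not_dvd Nat.prime_five).mpr h5N
    obtain ⟨Q, hQ⟩ := CfsgLib.coprime_exists_invariant_sylow (A := zpowers x) (K := N)
      (by rw [normalizer_eq_top]; exact le_top) hco (Or.inl inferInstance) r
    set Q' := (Q : Subgroup N).map N.subtype with hQ'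
    have hcard : Nat.card Q' = r ^ (Nat.card N).factorization r := by
      rw [card_map_of_injective N.subtype_injective, Q.card_eq_multiplicity]
    have hk1 : 1 ≤ (Nat.card N).factorization r := hr.factorization_pos_of_dvd Nat.card_pos.ne' hrN
    have hm := ppow_720 hr ((Nat.ordProj_dvd (Nat.card N) r).trans hdN)
    rw [← hcard] at hm
    have hrQ : r ∣ Nat.card Q' := by rw [hcard]; exact dvd_pow_self r (by omega)
    by_cases h16 : Nat.card Q' = 16
    · exfalso
      have h2 : r = 2 := by
        have := hr.dvd_of_dvd_pow (show r ∣ 2 ^ 4 by rw [show (2 : ℕ) ^ 4 = 16 from rfl, ← h16]; exact hrQ)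
        exact (Nat.prime_dvd_prime_iff_eq hr Nat.prime_two).mp this
      subst h2
      refine hfull 2 Nat.prime_two (by norm_num) h2n R ?_
      · rw [hfac.1]
        exact Nat.pow_right_injective le_rfl ((show 2 ^ 4 = 16 from rfl).trans (h16.symm.trans hcard))
    have hmem : Nat.card Q' ∈ [2, 4, 8, 3, 9] := by
      have h1 : Nat.card Q' ≠ 1 := fun e => by rw [e, Nat.dvd_one] at hrQ; exact hr.ne_one hrQ
      have h5' : Nat.card Q' ≠ 5 := fun e => hr5 (by
        rw [e] at hrQ; exact (Nat.prime_dvd_prime_iff_eq hr Nat.prime_five).mp hrQ)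
      simp only [List.mem_cons, List.not_mem_nil, or_false] at hm ⊢
      omega
    have hmod := card_fixed_modEq hT hQ
    have hdv := card_dvd_of_le (inf_le_left : Q' ⊓ centralizer (zpowers x : Set G) ≤ Q')
    have hne1 := fixed_five _ hmem _ (by
      have := Nat.le_of_dvd Nat.card_pos hdv
      simp only [List.mem_cons, List.not_mem_nil, or_false] at hmem
      omega) hdv hmod
    have hrF : r ∣ Nat.card (Q' ⊓ centralizer (zpowers x : Set G) : Subgroup G) := by
      rw [hcard] at hdv
      obtain ⟨i, -, hi⟩ := (Nat.dvd_prime_pow hr).mp hdv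
      rw [hi] at hne1 ⊢
      exact dvd_pow_self r fun e => hne1 (by rw [e, pow_zero])
    exact (same_of_centralizer A hA (K := Q' ⊓ centralizer (zpowers x : Set G)) (L := zpowers x) inf_le_right
      hr Nat.prime_five hrF (by rw [Nat.card_zpowers, hxo])).symm.trans (hN11 r hr hrN)
  rcases hn with hn | hn | hn | hn
  · exact absurd hn hn1
  · exact htwelve (hn ▸ hnL) (by rw [hn]; norm_num)
  · intro q hq
    rw [hn] at hnL
    have h3L := hL11 3 Nat.prime_three ((show 3 ∣ 45 by norm_num).trans hnL)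
    have h5L := hL11 5 Nat.prime_five ((show 5 ∣ 45 by norm_num).trans hnL)
    suffices h2' : (2 ∈ A ↔ 11 ∈ A) by
      simp only [List.mem_cons, List.not_mem_nil, or_false] at hq
      rcases hq with rfl | rfl | rfl <;> assumption
    by_cases h2N : 2 ∣ Nat.card N
    · exact hN11 2 Nat.prime_two h2N
    have hN3 : Nat.card N = 3 := by
      have hd45 : Nat.card N ∣ 45 :=
        Nat.Coprime.dvd_of_dvd_mul_left (show Nat.Coprime (Nat.card N) 16 from
          Nat.Coprime.pow_right 4 ((Nat.prime_two.coprime_iff_not_dvd.mpr h2N).symm)) (show Nat.card N ∣ 16 * 45 from hdN)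
      have key : ∀ m ∈ Nat.divisors 45, m ≠ 1 → 5 ∣ m ∨ 9 ∣ m ∨ m = 3 := by decide
      rcases key _ (Nat.mem_divisors.mpr ⟨hd45, by norm_num⟩) hN1 with h | h | h
      · exfalso
        haveI := Fact.mk Nat.prime_five
        obtain ⟨R5⟩ : Nonempty (Sylow 5 N) := inferInstance
        refine hfull 5 Nat.prime_five (by norm_num) (by rw [hn]; norm_num) R5 ?_
        rw [hfac.2.2]
        refine (fac_eq Nat.prime_five Nat.card_pos.ne' (by simpa using h) ?_).symm
        exact fun e => absurd (e.trans hd45) (by norm_num)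
      · exfalso
        haveI := Fact.mk Nat.prime_three
        obtain ⟨R3⟩ : Nonempty (Sylow 3 N) := inferInstance
        refine hfull 3 Nat.prime_three (by norm_num) (by rw [hn]; norm_num) R3 ?_
        rw [hfac.2.1]
        refine (fac_eq Nat.prime_three Nat.card_pos.ne' h ?_).symm
        exact fun e => absurd (e.trans hd45) (by norm_num)
      · exact h
    haveI : Fact (Nat.Prime 3) := ⟨Nat.prime_three⟩
    haveI : IsCyclic N := isCyclic_of_prime_card hN3
    have hker : 2 ∣ Nat.card (centralizer (N : Set G)) := by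
      have h1 := (normalizerMonoidHom N).ker.card_mul_index
      rw [index_ker] at h1
      have h2 : Nat.card (normalizerMonoidHom N).range ∣ 2 := by
        refine (card_subgroup_dvd_card _).trans ?_
        rw [IsCyclic.card_mulAut, hN3]
        decide
      have hn' : Nat.card (normalizer (N : Set G)) = 7920 := by rw [normalizer_eq_top, card_top, hG]
      rw [normalizerMonoidHom_ker, Nat.card_congr (subgroupOfEquivOfLe (centralizer_le_normalizer _)).toEquiv,
        hn'] at h1
      obtain ⟨k, hk⟩ := h2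
      have h3 : 7920 * k = Nat.card (centralizer (N : Set G)) * 2 := by rw [← h1, mul_assoc, ← hk]
      exact ⟨1980 * k, by omega⟩
    exact (same_of_centralizer A hA (K := centralizer (N : Set G)) (L := N) le_rfl Nat.prime_two Nat.prime_three
      hker (by rw [hN3])).trans (hN11 3 Nat.prime_three (by rw [hN3]))
  · exact htwelve ((show 12 ∣ 144 by norm_num).trans (hn ▸ hnL)) (by rw [hn]; norm_num)

include hG hA h1 h2 in
theorem simple : IsSimpleGroup G := by
  haveI : Nontrivial G := Finite.one_lt_card_iff_nontrivial.mp (by rw [hG]; norm_num)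
  refine ⟨fun N hN => ?_⟩
  by_contra hcon
  push Not at hcon
  obtain ⟨hbot, htop⟩ := hcon
  haveI := hN
  have hno := fun (K : Subgroup G) (hK : K.Normal) (hne : K ≠ ⊥) => @no_normal_coprime G _ _ hG A hA h1 h2 K hK hne
  have h11 : 11 ∣ Nat.card N := by
    by_contra h
    exact hno N hN hbot h
  obtain ⟨P⟩ : Nonempty (Sylow 11 G) := inferInstance
  have hPN : ∀ R : Sylow 11 G, (R : Subgroup G) ≤ N := fun R => by
    obtain ⟨x, hx, hxo⟩ := exists_order (K := N) (by norm_num : Nat.Prime 11) h11
    have hT : IsPGroup 11 (zpowers x) := IsPGroup.of_card (n := 1) (by rw [Nat.card_zpowers, hxo, pow_one])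
    obtain ⟨R1, hR1⟩ := hT.exists_le_sylow
    have e : zpowers x = (R1 : Subgroup G) :=
      eq_of_le_of_card_ge hR1 (le_of_eq (by rw [card_eleven hG, Nat.card_zpowers, hxo]))
    obtain ⟨g, rfl⟩ := MulAction.exists_smul_eq G R1 R
    rintro _ ⟨y, hy, rfl⟩
    exact hN.conj_mem y ((zpowers_le.mpr hx) (e ▸ hy)) g
  -- the kernel of the action on Sylow subgroups is trivial
  have hfaith : ∀ g : G, (∀ R : Sylow 11 G, g • R = R) → g = 1 := by
    let K : Subgroup G := (MulAction.toPermHom G (Sylow 11 G)).ker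
    have hK : K = ⊥ := by
      by_contra hne
      have h11K : 11 ∣ Nat.card K := by
        by_contra h
        exact hno K inferInstance hne h
      obtain ⟨x, hx, hxo⟩ := exists_order (K := K) (by norm_num : Nat.Prime 11) h11K
      have hT : IsPGroup 11 (zpowers x) := IsPGroup.of_card (n := 1) (by rw [Nat.card_zpowers, hxo, pow_one])
      obtain ⟨R1, hR1⟩ := hT.exists_le_sylow
      have hx1 : x ≠ 1 := fun e => by rw [e, orderOf_one] at hxo; norm_num at hxo
      apply count_ne_one hG A hA h1 h2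
      rw [Nat.card_eq_one_iff_unique]
      refine ⟨⟨fun Q Q' => ?_⟩, ⟨P⟩⟩
      have key : ∀ Q : Sylow 11 G, Q = R1 := fun Q => by
        by_contra hne'
        exact hx1 (eq_one_of_fix hG hne' (hR1 (mem_zpowers x)) (congrArg (fun σ : Equiv.Perm _ => σ Q) (MonoidHom.mem_ker.mp hx)))
      rw [key Q, key Q']
    intro g hg
    have : g ∈ K := MonoidHom.mem_ker.mpr (Equiv.ext hg)
    rw [hK] at this
    exact this
  have hNP : Nat.card (normalizer ((P : Subgroup G) : Set G)) * Nat.card (Sylow 11 G) = 7920 := by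
    rw [sylow_card_index P, card_mul_index, hG]
  rcases sylow_count_cases hG with hn | hn | hn | hn
  · exact count_ne_one hG A hA h1 h2 hn
  · exact twelve_impossible hG hfaith P hn
  · exact forty_five_impossible hG hfaith P hn
  · -- a normal complement appears
    have horb : orbit N P = Set.univ := Set.eq_univ_of_forall fun R => orbit_le hG N (hPN P) (hPN R)
    have hidx : (stabilizer N P).index = 144 := by rw [index_stabilizer, horb, Set.ncard_univ, hn]
    have hmul := (stabilizer N P).card_mul_index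
    rw [hidx] at hmul
    have hNd : Nat.card N ∣ 7920 := hG ▸ card_subgroup_dvd_card N
    have hNne : Nat.card N ≠ 7920 := fun h => htop (eq_top_of_card_eq N (h.trans hG.symm))
    have hsub : (P : Subgroup G).subgroupOf N ≤ stabilizer N P := by
      intro z hz
      show (z : G) • P = P
      exact Sylow.smul_eq_iff_mem_normalizer.mpr (le_normalizer (mem_subgroupOf.mp hz))
    have hPc : Nat.card ((P : Subgroup G).subgroupOf N) = 11 := by
      rw [Nat.card_congr (subgroupOfEquivOfLe (hPN P)).toEquiv, card_eleven hG]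
    have hdiv := card_dvd_of_le hsub
    rw [hPc] at hdiv
    obtain ⟨k, hk⟩ := hdiv
    rw [hk] at hmul
    have hk5 : k ∣ 5 := by
      have : 11 * k * 144 ∣ 11 * 5 * 144 := by rw [hmul]; exact hNd
      exact Nat.dvd_of_mul_dvd_mul_left (by norm_num) (Nat.dvd_of_mul_dvd_mul_right (by norm_num) this)
    have hk1 : k = 1 := by
      rcases (Nat.dvd_prime Nat.prime_five).mp hk5 with e | e
      · exact e
      · exfalso; apply hNne; omega
    rw [hk1, mul_one] at hk
    let P' : Sylow 11 N := P.subtype (hPN P)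
    have hst : stabilizer N P = (P : Subgroup G).subgroupOf N := (eq_of_le_of_card_ge hsub (by rw [hk, hPc])).symm
    haveI : IsCyclic (P : Subgroup G) := isCyclic_of_prime_card (card_eleven hG P)
    have hNC : normalizer ((P' : Subgroup N) : Set N) ≤ centralizer ((P' : Subgroup N) : Set N) := by
      intro z hz
      have hzst : z ∈ stabilizer N P := by
        show (z : G) • P = P
        refine Sylow.smul_eq_iff_mem_normalizer.mpr (mem_normalizer_iff.mpr fun y => ?_)
        constructor
        · intro hy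
          exact mem_subgroupOf.mp ((mem_normalizer_iff.mp hz ⟨y, hPN P hy⟩).mp hy)
        · intro hy
          have hy' : y ∈ N := by
            have := mul_mem (mul_mem (inv_mem z.2) (hPN P hy)) z.2
            simpa [mul_assoc] using this
          exact mem_subgroupOf.mp ((mem_normalizer_iff.mp hz ⟨y, hy'⟩).mpr (mem_subgroupOf.mpr hy))
      rw [hst] at hzst
      refine mem_centralizer_iff.mpr fun y hy => Subtype.ext ?_
      have hyz := congrArg (fun w : ↥(P : Subgroup G) => (w : G)) (IsCyclic.commutative.is_comm.comm (⟨y, hy⟩ : ↥(P : Subgroup G)) ⟨z, hzst⟩)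
      exact hyz
    set f := MonoidHom.transferSylow P' hNC
    have hcomp := (MonoidHom.ker_transferSylow_isComplement' P' hNC).card_mul
    have hP'c : Nat.card (P' : Subgroup N) = 11 := hPc
    rw [hP'c] at hcomp
    set K := f.ker.map N.subtype with hKdef
    have hKc : Nat.card K = Nat.card f.ker := card_map_of_injective N.subtype_injective
    have hN1584 : Nat.card N = 1584 := by omega
    have hc2 : Nat.card f.ker * 11 = Nat.card N := hcomp
    have hker144 : Nat.card f.ker = 144 := by omega
    have hKn : K.Normal := ⟨by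
      rintro _ ⟨y, hy, rfl⟩ g
      refine ⟨⟨g * y * g⁻¹, hN.conj_mem y y.2 g⟩, ?_, rfl⟩
      have hy144 : y ^ 144 = 1 := by
        have := congrArg Subtype.val (pow_card_eq_one' (x := (⟨y, hy⟩ : f.ker)))
        rwa [hker144] at this
      have hc144 : (⟨g * y * g⁻¹, hN.conj_mem y y.2 g⟩ : N) ^ 144 = 1 := Subtype.ext (by
        rw [SubgroupClass.coe_pow]
        show (g * (y : G) * g⁻¹) ^ 144 = 1
        rw [conj_pow, ← SubgroupClass.coe_pow, hy144, OneMemClass.coe_one, mul_one, mul_inv_cancel])
      refine MonoidHom.mem_ker.mpr (orderOf_eq_one_iff.mp (Nat.eq_one_of_dvd_coprimes (show Nat.Coprime 144 11 by norm_num) ?_ ?_))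
      · exact orderOf_dvd_of_pow_eq_one (by rw [← map_pow, hc144, map_one])
      · exact (_root_.orderOf_dvd_natCard _).trans hP'c.dvd⟩
    refine hno K hKn (fun h => ?_) (by rw [hKc, hker144]; norm_num)
    rw [h, card_bot, hker144] at hKc
    norm_num at hKc

end Disconnected

end CfsgLib.Order7920
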