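import Cfsg.Agent.Lib.SmallOrders.OrderData
import Cfsg.Agent.Lib.SLCard

/-!
# Simple groups of order `1092`

Such a group acts on the `14` Sylow `13`-subgroups; in suitable coordinates `ZMod 13 ∪ {∞}` it is
generated by the affine maps with square slope and `x ↦ 1/x`.
-/

namespace CfsgLib.SmallOrders.Order1092

open Cfsg MulAction
open scoped Pointwise

set_option autoImplicit false
set_option linter.unusedVariables false
set_option linter.style.haveILetI false
set_option linter.unusedSectionVars false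

universe u v

/-- The finite point with the given residue. -/
def pt (n : ℕ) : Fin 14 := ⟨n % 13, (Nat.mod_lt _ (by norm_num)).trans (by norm_num)⟩

/-- An affine map; the last point is fixed. -/
def aff (A B : ℕ) (x : Fin 14) : Fin 14 := if x.val < 13 then pt (A * x.val + B) else x

/-- Whether a residue is a square. -/
def isSq (a : ℕ) : Bool := a ^ 6 % 13 == 1

/-- A candidate for the map exchanging the two fixed points of the torus. -/
def cand (k w1 w3 : ℕ) (x : Fin 14) : Fin 14 :=
  if x.val = 0 then 13 else if x.val = 13 then 0 else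
    if isSq x.val then pt (x.val ^ k * w1) else pt ((x.val * 7) ^ k * w3)

/-- The non-zero squares. -/
def squares : List ℕ := [1, 3, 4, 9, 10, 12]

/-- The condition on a candidate. -/
def good (w : Fin 14 → Fin 14) : Bool :=
  (List.range 12).all fun b => squares.any fun A => (List.range 13).any fun B =>
    (List.finRange 14).all fun x =>
      decide (w (aff 1 (b + 1) (w x)) = aff 1 (w (pt (b + 1))).val (w (aff A B x)))

theorem unique : ∀ k < 6, ∀ w1 ∈ ([1, 2] : List ℕ), ∀ w3 < 13, 1 ≤ w3 → good (cand k w1 w3) = true →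
    ∀ x, cand k w1 w3 x = cand 5 1 7 x := by decide +kernel

theorem decomp : ∀ x : Fin 14, x ≠ 0 → x ≠ 13 → ∃ j < 6, x = pt (4 ^ j) ∨ x = pt (2 * 4 ^ j) := by
  decide +kernel

theorem cand_pow : ∀ k < 6, ∀ j < 6, ∀ z < 13,
    cand k z 1 (pt (4 ^ j)) = pt ((4 ^ j % 13) ^ k * z) ∧
      cand k 1 z (pt (2 * 4 ^ j)) = pt ((4 ^ j % 13) ^ k * z) := by decide +kernel

theorem cand_left : ∀ k < 6, ∀ j < 6, ∀ z < 13, ∀ z' < 13,
    cand k z z' (pt (4 ^ j)) = cand k z 1 (pt (4 ^ j)) ∧
      cand k z' z (pt (2 * 4 ^ j)) = cand k 1 z (pt (2 * 4 ^ j)) := by decide +kernel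

theorem square_pow : ∀ a < 13, a ^ 6 % 13 = 1 → a ∈ squares := by decide +kernel

theorem square_log : ∀ a ∈ squares, ∃ j < 6, a = 4 ^ j % 13 := by decide +kernel

theorem normalise : ∀ z < 13, 1 ≤ z → ∃ a ∈ squares, a * z % 13 = 1 ∨ a * z % 13 = 2 := by decide +kernel

theorem affine_perm : ∀ A ∈ squares, ∀ B < 13, Function.Bijective (aff A B) := by decide +kernel

theorem w0_bij : Function.Bijective (cand 5 1 7) := by decide +kernel

theorem pt_val (n : ℕ) : (pt n).val = n % 13 := rfl

theorem pt_lt (n : ℕ) : (pt n).val < 13 := Nat.mod_lt _ (by norm_num)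

theorem pt_eq_iff {a b : ℕ} : pt a = pt b ↔ a % 13 = b % 13 := Fin.ext_iff

theorem pt_of_lt {x : Fin 14} (h : x.val < 13) : pt x.val = x := Fin.ext (Nat.mod_eq_of_lt h)

theorem lt_or_eq (x : Fin 14) : x.val < 13 ∨ x = 13 := by
  rcases Nat.lt_or_ge x.val 13 with h | h
  · exact Or.inl h
  · exact Or.inr (Fin.ext (by have := x.isLt; show x.val = 13; omega))

/-- Translation by one. -/
noncomputable def permT : Equiv.Perm (Fin 14) :=
  Equiv.ofBijective (aff 1 1) (affine_perm 1 (by decide) 1 (by norm_num))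

/-- Multiplication by nine. -/
noncomputable def permM : Equiv.Perm (Fin 14) :=
  Equiv.ofBijective (aff 4 0) (affine_perm 4 (by decide) 0 (by norm_num))

/-- The inversion. -/
noncomputable def permW : Equiv.Perm (Fin 14) := Equiv.ofBijective _ w0_bij

/-- The model. -/
noncomputable def model : Subgroup (Equiv.Perm (Fin 14)) := Subgroup.closure {permT, permM, permW}

variable {G : Type u} [Group G] [Fintype G]

/-- The coordinates on the Sylow `13`-subgroups and the resulting isomorphism with the model. -/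
theorem nonempty_mulEquiv_model [IsSimpleGroup G] (hG : Nat.card G = 1092) :
    Nonempty (G ≃* model) := by
  classical
  haveI h17 : Fact (Nat.Prime 13) := ⟨by norm_num⟩
  have hN : Nat.card G = 13 * 84 := hG.trans (by norm_num)
  obtain ⟨M, P, n, e, S, hM, hP, hC, hNe, hmem⟩ := mem_exceptions (p := 13) (m := 84)
    (exc := [(14, 6)]) (by norm_num) hN (by norm_num) (by norm_num) (by decide +kernel)
  obtain ⟨rfl, rfl⟩ : n = 14 ∧ e = 6 := by simpa using hmem
  have hcC : Nat.card (Subgroup.centralizer ((P : Subgroup G) : Set G)) = 13 := by omega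
  have hcN : Nat.card (Subgroup.normalizer ((P : Subgroup G) : Set G)) = 78 := by rw [hNe, hcC]
  have hcard : Nat.card (Sylow 13 G) = 14 := by
    have h : Nat.card (Subgroup.normalizer ((P : Subgroup G) : Set G)) * Nat.card (Sylow 13 G) =
        Nat.card G := SmallOrder.card_normalizer_mul_card_sylow P
    rw [hcN, hG] at h
    omega
  haveI : IsCyclic (P : Subgroup G) := isCyclic_of_prime_card hP
  have hCP : Subgroup.centralizer ((P : Subgroup G) : Set G) = (P : Subgroup G) :=
    (Subgroup.eq_of_le_of_card_ge (P : Subgroup G).le_centralizer (hcC.le.trans hP.ge)).symm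
  obtain ⟨x, hx, hx1⟩ : ∃ x ∈ (P : Subgroup G), x ≠ 1 := by
    refine ((Subgroup.bot_or_exists_ne_one (P : Subgroup G)).resolve_left fun hb => ?_)
    have h : Nat.card (P : Subgroup G) = 13 := hP
    rw [hb, Subgroup.card_bot] at h
    omega
  have hxo : orderOf x = 13 := by
    refine orderOf_eq_prime ?_ hx1
    have := pow_card_eq_one' (x := (⟨x, hx⟩ : (P : Subgroup G)))
    rw [show Nat.card (P : Subgroup G) = 13 from hP] at this
    exact congrArg Subtype.val this
  have hxP : Subgroup.zpowers x = (P : Subgroup G) :=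
    Subgroup.eq_of_le_of_card_ge (Subgroup.zpowers_le.2 hx) (by
      rw [Nat.card_zpowers, hxo]; exact (hP : Nat.card (P : Subgroup G) = 13).le)
  have hxmod : ∀ a b : ℕ, a % 13 = b % 13 → x ^ a = x ^ b := fun a b h => by
    rw [← pow_mod_orderOf, ← pow_mod_orderOf x b, hxo, h]
  have hxinj : ∀ a b : ℕ, x ^ a = x ^ b → a % 13 = b % 13 := fun a b h => by
    have := pow_eq_pow_iff_modEq.1 h
    rwa [hxo] at this
  have hmemN : ∀ {g : G}, g • P = P ↔ g ∈ Subgroup.normalizer ((P : Subgroup G) : Set G) :=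
    Sylow.smul_eq_iff_mem_normalizer
  have hxfixP : ∀ a : ℕ, x ^ a • P = P := fun a =>
    hmemN.2 (Subgroup.le_normalizer (pow_mem hx a))
  obtain ⟨Q, hQP⟩ : ∃ Q : Sylow 13 G, Q ≠ P := by
    haveI : Nontrivial (Sylow 13 G) := Finite.one_lt_card_iff_nontrivial.1 (by rw [hcard]; norm_num)
    exact exists_ne P
  have hstabQ : ∀ a : ℕ, x ^ a • Q = Q → a % 13 = 0 := by
    intro a ha
    by_contra hne
    have hmem' : x ^ a ∈ Subgroup.normalizer ((Q : Subgroup G) : Set G) :=
      Sylow.smul_eq_iff_mem_normalizer.1 ha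
    have hxaP : x ^ a ∈ (P : Subgroup G) := pow_mem hx a
    have hxa : orderOf (x ^ a) = 13 := by
      refine orderOf_eq_prime ?_ fun h => hne (by simpa using hxinj a 0 (by rw [h, pow_zero]))
      rw [← pow_mul, mul_comm, pow_mul, ← hxo, pow_orderOf_eq_one, one_pow]
    have hpg : IsPGroup 13 (Subgroup.zpowers (x ^ a)) :=
      IsPGroup.of_card (n := 1) (by rw [Nat.card_zpowers, hxa, pow_one])
    have hle : Subgroup.zpowers (x ^ a) ≤ (Q : Subgroup G) := by
      have h1 : Subgroup.zpowers (x ^ a) ⊓ Subgroup.normalizer ((Q : Subgroup G) : Set G) =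
          Subgroup.zpowers (x ^ a) ⊓ (Q : Subgroup G) := hpg.inf_normalizer_sylow Q
      rw [inf_eq_left.2 (Subgroup.zpowers_le.2 hmem')] at h1
      exact inf_eq_left.1 h1.symm
    have e1 : Subgroup.zpowers (x ^ a) = (P : Subgroup G) :=
      Subgroup.eq_of_le_of_card_ge (Subgroup.zpowers_le.2 hxaP) (by
        rw [Nat.card_zpowers, hxa]; exact (hP : Nat.card (P : Subgroup G) = 13).le)
    have e2 : (P : Subgroup G) = (Q : Subgroup G) :=
      Subgroup.eq_of_le_of_card_ge (e1 ▸ hle) (Q.card_eq_multiplicity.trans P.card_eq_multiplicity.symm).le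
    exact hQP (Sylow.ext e2.symm)
  -- coordinates
  set pts : Fin 14 → Sylow 13 G := fun i => if i.val < 13 then x ^ i.val • Q else P with hpts
  have hQnP : ∀ a : ℕ, x ^ a • Q ≠ P := fun a h => hQP (by
    have := congrArg (fun R => (x ^ a)⁻¹ • R) h
    simp only [inv_smul_smul] at this
    rw [this, inv_smul_eq_iff, hxfixP a])
  have hinj : Function.Injective pts := by
    intro i j hij
    simp only [hpts] at hij
    rcases lt_or_eq i with hi | rfl <;> rcases lt_or_eq j with hj | rfl
    · rw [if_pos hi, if_pos hj] at hij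
      have h : x ^ (j.val + (13 - i.val)) • Q = Q := by
        rw [add_comm, pow_add, mul_smul, ← hij, ← mul_smul, ← pow_add,
          hxmod (13 - i.val + i.val) 0 (by omega), pow_zero, one_smul]
      have := hstabQ _ h
      exact Fin.ext (by omega)
    · rw [if_pos hi, if_neg (by decide)] at hij; exact absurd hij (hQnP _)
    · rw [if_neg (by decide), if_pos hj] at hij; exact absurd hij.symm (hQnP _)
    · rfl
  have hbij : Function.Bijective pts :=
    (Nat.bijective_iff_injective_and_card pts).2 ⟨hinj, by rw [Nat.card_fin, hcard]⟩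
  set E : Fin 14 ≃ Sylow 13 G := Equiv.ofBijective pts hbij with hE
  have hE17 : E 13 = P := by
    show (if (13 : Fin 14).val < 13 then x ^ (13 : Fin 14).val • Q else P) = P
    exact if_neg (by decide)
  have hEpt : ∀ a : ℕ, E (pt a) = x ^ a • Q := fun a => by
    show (if (pt a).val < 13 then x ^ (pt a).val • Q else P) = _
    rw [if_pos (pt_lt a), hxmod (pt a).val a (by rw [pt_val, Nat.mod_mod])]
  have hE0 : E 0 = Q := by
    rw [show (0 : Fin 14) = pt 0 from rfl, hEpt, pow_zero, one_smul]
  let φ : G →* Equiv.Perm (Fin 14) :=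
    (Equiv.permCongrHom E.symm).toMonoidHom.comp (MulAction.toPermHom G (Sylow 13 G))
  have hφ : ∀ (g : G) (i : Fin 14), E (φ g i) = g • E i := fun g i => by
    show E (E.symm (g • E.symm.symm i)) = _
    rw [Equiv.apply_symm_apply, Equiv.symm_symm]
  have hφinj : Function.Injective φ := by
    rw [← MonoidHom.ker_eq_bot_iff]
    refine ((inferInstance : φ.ker.Normal).eq_bot_or_eq_top).resolve_right fun h => ?_
    have h1 : φ x = 1 := MonoidHom.mem_ker.1 (h ▸ Subgroup.mem_top x)
    have h2 := hφ x 0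
    rw [h1, Equiv.Perm.one_apply, hE0] at h2
    have := hstabQ 1 (by rw [pow_one]; exact h2.symm)
    omega
  -- the elements fixing both points
  have hlin : ∀ g : G, g • P = P → g • Q = Q → ∃ a ∈ squares, ∀ i : Fin 14, φ g i = aff a 0 i := by
    intro g hgP hgQ
    have hgN := hmemN.1 hgP
    obtain ⟨z, hz⟩ : g * x * g⁻¹ ∈ Subgroup.zpowers x :=
      hxP.ge ((Subgroup.mem_normalizer_iff.1 hgN x).1 hx)
    obtain ⟨a, ha17, ha⟩ : ∃ a < 13, g * x * g⁻¹ = x ^ a := by
      refine ⟨(z % 13).toNat, by omega, ?_⟩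
      rw [← zpow_natCast, Int.toNat_of_nonneg (Int.emod_nonneg _ (by norm_num)), ← hz]
      show x ^ z = _
      conv_lhs => rw [← zpow_mod_orderOf, hxo]
      rfl
    have hpow : ∀ j : ℕ, g ^ j * x * (g ^ j)⁻¹ = x ^ (a ^ j) := by
      intro j
      induction j with
      | zero => simp
      | succ j ih =>
        calc g ^ (j + 1) * x * (g ^ (j + 1))⁻¹ = g * (g ^ j * x * (g ^ j)⁻¹) * g⁻¹ := by
              rw [pow_succ']; group
          _ = x ^ a ^ (j + 1) := by
              rw [ih, ← conj_pow, ha, ← pow_mul, pow_succ']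
    have hact : ∀ i : ℕ, g • (x ^ i • Q) = x ^ (a * i) • Q := fun i => by
      rw [← mul_smul, show g * x ^ i = g * x ^ i * g⁻¹ * g by group, mul_smul, hgQ, ← conj_pow, ha,
        ← pow_mul]
    -- `g` has order dividing `6`
    have hg8 : g ^ 6 = 1 := by
      set H := MulAction.stabilizer G P ⊓ MulAction.stabilizer G Q with hH
      have hgH : g ∈ H := ⟨hgP, hgQ⟩
      have hdis : H ⊓ (P : Subgroup G) = ⊥ := by
        rw [eq_bot_iff]
        intro y hy
        obtain ⟨w, hw⟩ := hxP.ge hy.2
        obtain ⟨i, hi⟩ : ∃ i : ℕ, x ^ i = y := by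
          refine ⟨(w % 13).toNat, ?_⟩
          rw [← zpow_natCast, Int.toNat_of_nonneg (Int.emod_nonneg _ (by norm_num)), ← hw]
          show _ = x ^ w
          conv_rhs => rw [← zpow_mod_orderOf, hxo]
          rfl
        have h1 := hstabQ i (by rw [hi]; exact hy.1.2)
        rw [Subgroup.mem_bot, ← hi, hxmod i 0 (by omega), pow_zero]
      have hHN : H ≤ Subgroup.normalizer ((P : Subgroup G) : Set G) := fun y hy => hmemN.1 hy.1
      have hdvd : Nat.card H ∣ 78 := hcN ▸ Subgroup.card_dvd_of_le hHN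
      have hnot : ¬ 13 ∣ Nat.card H := by
        intro h
        obtain ⟨y, hy⟩ := exists_prime_orderOf_dvd_card' (G := H) 13 h
        have hyG : orderOf (y : G) = 13 := by rw [Subgroup.orderOf_coe, hy]
        have hpg : IsPGroup 13 (Subgroup.zpowers (y : G)) :=
          IsPGroup.of_card (n := 1) (by rw [Nat.card_zpowers, hyG, pow_one])
        have h1 : Subgroup.zpowers (y : G) ⊓ Subgroup.normalizer ((P : Subgroup G) : Set G) =
            Subgroup.zpowers (y : G) ⊓ (P : Subgroup G) := hpg.inf_normalizer_sylow P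
        rw [inf_eq_left.2 (Subgroup.zpowers_le.2 (hHN y.2))] at h1
        have hyP := inf_eq_left.1 h1.symm (Subgroup.mem_zpowers _)
        have : (y : G) ∈ H ⊓ (P : Subgroup G) := ⟨y.2, hyP⟩
        rw [hdis, Subgroup.mem_bot] at this
        rw [this, orderOf_one] at hyG
        omega
      have h6x : Nat.card H ∣ 6 :=
        Nat.Coprime.dvd_of_dvd_mul_left (((Nat.Prime.coprime_iff_not_dvd (by norm_num)).2 hnot).symm)
          (show Nat.card H ∣ 13 * 6 from hdvd)
      obtain ⟨c, hc⟩ := h6x
      have := pow_card_eq_one' (x := (⟨g, hgH⟩ : H))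
      have h := congrArg Subtype.val this
      rw [Subgroup.coe_pow, Subgroup.coe_one] at h
      rw [hc, pow_mul, show g ^ Nat.card H = 1 from h, one_pow]
    have ha8 : a ^ 6 % 13 = 1 := by
      have h := hpow 6
      rw [hg8, one_mul, inv_one, mul_one] at h
      have := hxinj 1 (a ^ 6) (by rw [pow_one]; exact h)
      omega
    refine ⟨a, square_pow a ha17 ha8, fun i => E.injective ?_⟩
    rw [hφ]
    rcases lt_or_eq i with hi | rfl
    · rw [← pt_of_lt hi, hEpt, hact]
      unfold aff
      rw [if_pos (pt_lt _), hEpt, pt_val, Nat.mod_eq_of_lt hi, add_zero]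
    · rw [hE17, hgP, show aff a 0 13 = 13 from if_neg (by decide), hE17]
  -- translations
  have hTr : ∀ (b : ℕ) (i : Fin 14), φ (x ^ b) i = aff 1 b i := by
    intro b i
    refine E.injective ?_
    rw [hφ]
    rcases lt_or_eq i with hi | rfl
    · rw [← pt_of_lt hi, hEpt, ← mul_smul, ← pow_add]
      unfold aff
      rw [if_pos (pt_lt _), hEpt, hxmod (b + i.val) (1 * (pt i.val).val + b) (by
        rw [pt_val, Nat.mod_eq_of_lt hi]; omega)]
    · rw [hE17, hxfixP, show aff 1 b 13 = 13 from if_neg (by decide), hE17]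
  -- the element of slope nine
  obtain ⟨h9, h9P, h9Q, h9i⟩ : ∃ g : G, g • P = P ∧ g • Q = Q ∧ ∀ i, φ g i = aff 4 0 i := by
    set N := Subgroup.normalizer ((P : Subgroup G) : Set G) with hNd
    set H := MulAction.stabilizer G P ⊓ MulAction.stabilizer G Q with hH
    choose a ha ha' using fun g : H => hlin g g.2.1 g.2.2
    have hainj : Function.Injective a := by
      intro g g' hgg
      refine Subtype.ext (hφinj (Equiv.ext fun i => ?_))
      rw [ha' g i, ha' g' i, hgg]
    have hcH : 6 ≤ Nat.card H := by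
      haveI : Fintype (Sylow 13 G) := Fintype.ofFinite _
      have horb := MulAction.card_orbit_mul_card_stabilizer_eq_card_group N Q
      have hle : Fintype.card (MulAction.orbit N Q) ≤ 13 := by
        have h1 : Fintype.card (MulAction.orbit N Q) < Fintype.card (Sylow 13 G) := by
          refine Fintype.card_subtype_lt (x := P) ?_
          rintro ⟨y, hy⟩
          have hy' : (y : G) • Q = P := hy
          apply hQP
          rw [← inv_smul_smul (y : G) Q, hy', inv_smul_eq_iff, hmemN.2 y.2]
        rw [← Nat.card_eq_fintype_card (α := Sylow 13 G), hcard] at h1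
        omega
      have hst : Nat.card (MulAction.stabilizer N Q) ≤ Nat.card H :=
        Nat.card_le_card_of_injective
          (fun y => (⟨(y : N), hmemN.2 (y : N).2, y.2⟩ : H))
          (fun y y' hyy => Subtype.ext (Subtype.ext (congrArg (fun z : H => (z : G)) hyy)))
      rw [← Nat.card_eq_fintype_card, ← Nat.card_eq_fintype_card, ← Nat.card_eq_fintype_card, hcN]
        at horb
      rw [← Nat.card_eq_fintype_card] at hle
      have := Nat.mul_le_mul hle hst
      omega
    haveI : Fintype H := Fintype.ofFinite _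
    have himg : Finset.univ.image a = squares.toFinset := by
      refine Finset.eq_of_subset_of_card_le (fun z hz => ?_) ?_
      · obtain ⟨g, -, rfl⟩ := Finset.mem_image.1 hz
        exact List.mem_toFinset.2 (ha g)
      · rw [Finset.card_image_of_injective _ hainj, Finset.card_univ, ← Nat.card_eq_fintype_card]
        exact le_trans (by decide) hcH
    obtain ⟨g, -, hg⟩ := Finset.mem_image.1 (himg.symm ▸ (by decide : 4 ∈ squares.toFinset))
    exact ⟨g, g.2.1, g.2.2, fun i => by rw [ha' g i, hg]⟩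
  have h9pow : ∀ (j : ℕ) (i : Fin 14), φ (h9 ^ j) i = aff (4 ^ j % 13) 0 i := by
    intro j
    induction j with
    | zero =>
      intro i
      rw [pow_zero, map_one, Equiv.Perm.one_apply]
      rcases lt_or_eq i with hi | rfl
      · unfold aff; rw [if_pos hi]; simp [pt_of_lt hi]
      · rfl
    | succ j ih =>
      intro i
      rw [pow_succ', map_mul, Equiv.Perm.mul_apply, ih, h9i]
      rcases lt_or_eq i with hi | rfl
      · unfold aff
        rw [if_pos hi, if_pos (pt_lt _), if_pos hi, pt_eq_iff, pt_val,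
          ← ZMod.natCast_eq_natCast_iff']
        push_cast [ZMod.natCast_mod]
        ring
      · rfl
  have haff : ∀ g : G, g • P = P → ∃ A ∈ squares, ∃ B < 13,
      φ g ∈ Subgroup.closure {φ x, φ h9} ∧ ∀ i, φ g i = aff A B i := by
    intro g hg
    set b := (φ g 0).val with hb
    have hne : φ g 0 ≠ 13 := by
      intro h
      have h1 := hφ g 0
      rw [h, hE17, hE0] at h1
      exact hQP (by rw [← inv_smul_smul g Q, ← h1, inv_smul_eq_iff, hg])
    have hb17 : b < 13 := (lt_or_eq (φ g 0)).resolve_right hne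
    have hgQ : ((x ^ b)⁻¹ * g) • Q = Q := by
      rw [mul_smul, inv_smul_eq_iff, ← hEpt, pt_of_lt hb17, hφ, hE0]
    have hgP : ((x ^ b)⁻¹ * g) • P = P := by rw [mul_smul, hg, inv_smul_eq_iff, hxfixP]
    obtain ⟨A, hA, hAi⟩ := hlin _ hgP hgQ
    obtain ⟨j, -, hj⟩ := square_log A hA
    have heq : φ g = φ (x ^ b) * φ ((x ^ b)⁻¹ * g) := by rw [← map_mul, mul_inv_cancel_left]
    have hh : φ ((x ^ b)⁻¹ * g) = φ (h9 ^ j) := Equiv.ext fun i => by rw [hAi, h9pow, hj]
    refine ⟨A, hA, b, hb17, ?_, fun i => ?_⟩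
    · rw [heq, hh, map_pow, map_pow]
      exact mul_mem (pow_mem (Subgroup.subset_closure (by simp)) _)
        (pow_mem (Subgroup.subset_closure (by simp)) _)
    · rw [heq, Equiv.Perm.mul_apply, hAi, hTr]
      rcases lt_or_eq i with hi | rfl
      · unfold aff
        rw [if_pos hi, if_pos (pt_lt _), if_pos hi, pt_eq_iff, pt_val]
        omega
      · rfl
  -- the element exchanging the two points
  have hfix0 : ∀ g : G, g • P = Q → g • Q = P → ∀ i, φ g i = 13 ↔ i = 0 := fun g hgP hgQ i => by
    rw [← E.injective.eq_iff, hφ, hE17, ← hgQ, smul_left_cancel_iff, ← hE0, E.injective.eq_iff]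
  obtain ⟨g₀, hg₀P, hg₀Q⟩ : ∃ g : G, g • P = Q ∧ g • Q = P := by
    obtain ⟨g, hg⟩ := MulAction.exists_smul_eq G P Q
    obtain ⟨j, hj⟩ := hbij.2 (g⁻¹ • P)
    have hjlt : j.val < 13 := by
      refine (lt_or_eq j).resolve_right fun h => hQP ?_
      rw [h] at hj
      have : P = g⁻¹ • P := hE17.symm.trans hj
      rw [← hg, ← inv_smul_eq_iff.1 this.symm]
    have hj' : x ^ j.val • Q = g⁻¹ • P := by rw [← hj]; exact (if_pos hjlt).symm
    exact ⟨g * x ^ j.val, by rw [mul_smul, hxfixP, hg],
      by rw [mul_smul, hj', smul_inv_smul]⟩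
  obtain ⟨g, hgP, hgQ, hg1⟩ : ∃ g : G, g • P = Q ∧ g • Q = P ∧
      ((φ g (pt 1)).val = 1 ∨ (φ g (pt 1)).val = 2) := by
    set z := (φ g₀ (pt 1)).val with hz
    have hz1 : φ g₀ (pt 1) ≠ 13 := fun h =>
      absurd (congrArg Fin.val ((hfix0 g₀ hg₀P hg₀Q _).1 h)) (by decide)
    have hz17 : z < 13 := (lt_or_eq _).resolve_right hz1
    have hz0 : 1 ≤ z := by
      by_contra h
      have h0 : φ g₀ (pt 1) = 0 := Fin.ext (show z = 0 by omega)
      have h1 : φ g₀ 13 = 0 := E.injective (by rw [hφ, hE17, hE0, hg₀P])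
      exact absurd (congrArg Fin.val ((φ g₀).injective (h0.trans h1.symm))) (by decide)
    obtain ⟨a, ha, ha'⟩ := normalise z hz17 hz0
    obtain ⟨j, -, hj⟩ := square_log a ha
    have hQfix : ∀ j : ℕ, h9 ^ j • Q = Q := fun j => by
      induction j with
      | zero => rw [pow_zero, one_smul]
      | succ j ih => rw [pow_succ, mul_smul, h9Q, ih]
    have hPfix : ∀ j : ℕ, h9 ^ j • P = P := fun j => by
      induction j with
      | zero => rw [pow_zero, one_smul]
      | succ j ih => rw [pow_succ, mul_smul, h9P, ih]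
    refine ⟨h9 ^ j * g₀, by rw [mul_smul, hg₀P, hQfix], by rw [mul_smul, hg₀Q, hPfix], ?_⟩
    rw [map_mul, Equiv.Perm.mul_apply, h9pow, ← hj]
    unfold aff
    rw [if_pos hz17, pt_val, add_zero, ← hz]
    exact ha'
  have hu17 : φ g 13 = 0 := E.injective (by rw [hφ, hE17, hE0, hgP])
  have hu0 : φ g 0 = 13 := (hfix0 g hgP hgQ 0).2 rfl
  have hufin : ∀ i : Fin 14, i ≠ 0 → (φ g i).val < 13 := fun i hi =>
    (lt_or_eq _).resolve_right fun h => hi ((hfix0 g hgP hgQ i).1 h)
  obtain ⟨a', ha', hconj⟩ : ∃ a' ∈ squares, ∀ i, φ g (aff 4 0 i) = aff a' 0 (φ g i) := by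
    obtain ⟨a', ha', h⟩ := hlin (g * h9 * g⁻¹)
      (by rw [mul_smul, mul_smul, ← hgQ, inv_smul_smul, h9Q, hgQ])
      (by rw [mul_smul, mul_smul, ← hgP, inv_smul_smul, h9P, hgP])
    refine ⟨a', ha', fun i => ?_⟩
    rw [← h, ← h9i, ← Equiv.Perm.mul_apply, ← Equiv.Perm.mul_apply, ← map_mul, ← map_mul,
      inv_mul_cancel_right]
  obtain ⟨k, hk8, hk⟩ := square_log a' ha'
  have hconjpow : ∀ (j : ℕ) (z : ℕ), (φ g (pt z)).val < 13 →
      φ g (pt (4 ^ j * z)) = pt ((4 ^ j % 13) ^ k * (φ g (pt z)).val) := by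
    intro j z hz
    induction j with
    | zero => simp [pt_of_lt hz]
    | succ j ih =>
      have h := hconj (pt (4 ^ j * z))
      rw [ih] at h
      unfold aff at h
      rw [if_pos (pt_lt _), if_pos (pt_lt _)] at h
      rw [pt_val, pt_val] at h
      have e1 : pt (4 * (4 ^ j * z % 13) + 0) = pt (4 ^ (j + 1) * z) := by
        rw [pt_eq_iff, pow_succ']
        simp [Nat.mul_mod, mul_assoc, Nat.mod_mod]
      rw [e1] at h
      rw [h, pt_eq_iff, hk, add_zero, ← ZMod.natCast_eq_natCast_iff']
      push_cast [ZMod.natCast_mod]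
      rw [pow_succ', mul_pow]
      ring
  set z1 := (φ g (pt 1)).val with hz1
  set z3 := (φ g (pt 2)).val with hz3
  have h3lt : z3 < 13 := hufin _ (by decide)
  have h1lt : z1 < 13 := hufin _ (by decide)
  have h3pos : 1 ≤ z3 := by
    by_contra h
    have h0 : φ g (pt 2) = 0 := Fin.ext (show z3 = 0 by omega)
    exact absurd (congrArg Fin.val ((φ g).injective (h0.trans hu17.symm))) (by decide)
  have hcand : ∀ i, φ g i = cand k z1 z3 i := by
    intro i
    by_cases hi0 : i = 0
    · rw [hi0, hu0]; rfl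
    by_cases hi17 : i = 13
    · rw [hi17, hu17]; rfl
    obtain ⟨j, hj, hij | hij⟩ := decomp i hi0 hi17
    · rw [hij, (cand_left k hk8 j hj z1 h1lt z3 h3lt).1, (cand_pow k hk8 j hj z1 h1lt).1]
      have := hconjpow j 1 h1lt
      rwa [mul_one] at this
    · rw [hij, (cand_left k hk8 j hj z3 h3lt z1 h1lt).2, (cand_pow k hk8 j hj z3 h3lt).2, mul_comm 2]
      exact hconjpow j 2 h3lt
  have hgood : good (cand k z1 z3) = true := by
    simp only [good, List.all_eq_true, List.any_eq_true, List.mem_range, List.mem_finRange,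
      decide_eq_true_eq, forall_true_left, true_implies]
    intro b hb
    set u' := (φ g (pt (b + 1))).val with hu'
    have hne : pt (b + 1) ≠ 0 := fun h => by
      have := congrArg Fin.val h
      rw [pt_val, Fin.val_zero] at this
      omega
    have hlt : u' < 13 := hufin _ hne
    have hfix : ((x ^ u' * g)⁻¹ * (g * x ^ (b + 1) * g)) • P = P := by
      rw [mul_smul, inv_smul_eq_iff, mul_smul, mul_smul, mul_smul, hgP, ← hEpt, ← hEpt u',
        pt_of_lt (show (φ g (pt (b + 1))).val < 13 from hlt), hφ]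
    obtain ⟨A, hA, B, hB, -, hAB⟩ := haff _ hfix
    refine ⟨A, hA, B, hB, fun i => ?_⟩
    rw [← hcand i, ← hTr, ← hcand, ← hcand (pt (b + 1)), ← hu', ← hAB, ← hcand, ← hTr,
      ← Equiv.Perm.mul_apply, ← Equiv.Perm.mul_apply, ← Equiv.Perm.mul_apply, ← Equiv.Perm.mul_apply,
      ← map_mul, ← map_mul, ← map_mul, ← map_mul, mul_inv_cancel_left]
  have hw : φ g = permW := Equiv.ext fun i => by
    rw [hcand]
    refine unique k hk8 z1 ?_ z3 h3lt h3pos hgood i
    rcases hg1 with h | h
    · exact List.mem_cons.2 (Or.inl h)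
    · exact List.mem_cons.2 (Or.inr (List.mem_cons.2 (Or.inl h)))
  have hT1 : φ x = permT := Equiv.ext fun i => by
    have := hTr 1 i
    rwa [pow_one] at this
  have hM9 : φ h9 = permM := Equiv.ext h9i
  -- generation
  have hrange : φ.range = model := by
    refine le_antisymm ?_ ((Subgroup.closure_le _).2 ?_)
    · rintro _ ⟨y, rfl⟩
      have hsub : Subgroup.closure {φ x, φ h9} ≤ model := by
        rw [Subgroup.closure_le]
        rintro _ (rfl | rfl)
        · rw [hT1]; exact Subgroup.subset_closure (by simp)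
        · rw [hM9]; exact Subgroup.subset_closure (by simp)
      by_cases hy : y • P = P
      · obtain ⟨A, hA, B, hB, hmem', -⟩ := haff y hy
        exact hsub hmem'
      · obtain ⟨i, hi⟩ := hbij.2 (y • P)
        have hilt : i.val < 13 := (lt_or_eq i).resolve_right fun h => hy (by
          rw [h] at hi; exact hi.symm.trans hE17)
        have hi' : x ^ i.val • Q = y • P := by rw [← hi]; exact (if_pos hilt).symm
        have hfix : ((x ^ i.val * g)⁻¹ * y) • P = P := by
          rw [mul_smul, inv_smul_eq_iff, mul_smul, hgP, hi']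
        obtain ⟨A, hA, B, hB, hmem', -⟩ := haff _ hfix
        have : φ y = φ x ^ i.val * φ g * φ ((x ^ i.val * g)⁻¹ * y) := by
          rw [← map_pow, ← map_mul, ← map_mul, mul_inv_cancel_left]
        rw [this, hw]
        exact mul_mem (mul_mem (pow_mem (hsub (Subgroup.subset_closure (by simp))) _)
          (Subgroup.subset_closure (by simp))) (hsub hmem')
    · rintro _ (rfl | rfl | rfl)
      exacts [⟨x, hT1⟩, ⟨h9, hM9⟩, ⟨g, hw⟩]
  exact ⟨(MonoidHom.ofInjective hφinj).trans (MulEquiv.subgroupCongr hrange)⟩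

/-- A simple group of order `1092` is `PSL(2, 13)`. -/
theorem nonempty_mulEquiv_psl [IsSimpleGroup G] (hG : Nat.card G = 1092) {F : Type v} [Field F]
    [Fintype F] (hF : Fintype.card F = 13) :
    Nonempty (G ≃* Matrix.ProjectiveSpecialLinearGroup (Fin 2) F) := by
  haveI : IsSimpleGroup (Matrix.ProjectiveSpecialLinearGroup (Fin 2) F) :=
    Matrix.ProjectiveSpecialLinearGroup.rank_two_simple (by
      rw [Nat.card_eq_fintype_card, hF]; norm_num)
  haveI := Fintype.ofFinite (Matrix.ProjectiveSpecialLinearGroup (Fin 2) F)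
  have hc : Nat.card (Matrix.ProjectiveSpecialLinearGroup (Fin 2) F) = 1092 := by
    have h : Nat.gcd 2 (Fintype.card F - 1) *
        Nat.card (Matrix.ProjectiveSpecialLinearGroup (Fin 2) F) =
        Fintype.card F * (Fintype.card F ^ 2 - 1) := by
      rw [SLCard.gcd_mul_card_PSL (by norm_num), SLCard.card_SL_two]
    rw [hF, show Nat.gcd 2 (13 - 1) = 2 from rfl] at h
    omega
  obtain ⟨e₁⟩ := nonempty_mulEquiv_model hG
  obtain ⟨e₂⟩ := nonempty_mulEquiv_model hc
  exact ⟨e₁.trans e₂.symm⟩

end CfsgLib.SmallOrders.Order1092
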