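import Cfsg.Agent.Lib.SmallOrders.RangeExceptions

/-!
# There is no simple group of order `5400`

Either the Sylow `5`-normaliser is abelian, or every Sylow `5`-subgroup contains exactly two
subgroups of order `5` lying in other Sylow subgroups, and a subgroup of order `3` centralising one
Sylow subgroup centralises its neighbours.
-/

namespace CfsgLib.SmallOrders.Order5400

open Cfsg MulAction CfsgLib.SmallOrders
open scoped Pointwise

set_option autoImplicit false
set_option linter.unusedVariables false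
set_option linter.style.haveILetI false
set_option linter.unusedSectionVars false

universe u

theorem counts : ((List.range 217).all fun d => decide (216 % d ≠ 0) || decide (d % 5 ≠ 1) ||
    [1, 6, 36, 216].contains d) = true := by decide +kernel

variable {G : Type u} [Group G] [Finite G]

theorem card_sylow (hN : Nat.card G = 5400) (P : Sylow 5 G) [Fact (Nat.Prime 5)] :
    Nat.card (P : Subgroup G) = 25 :=
  SmallOrder.card_sylow_eq (k := 2) P (by rw [hN]; norm_num) (by rw [hN]; norm_num)

theorem comm_sylow (hN : Nat.card G = 5400) (P : Sylow 5 G) [Fact (Nat.Prime 5)] {a b : G}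
    (ha : a ∈ (P : Subgroup G)) (hb : b ∈ (P : Subgroup G)) : a * b = b * a :=
  congrArg Subtype.val
    (IsPGroup.commutative_of_card_eq_prime_sq (p := 5) (show Nat.card (P : Subgroup G) = 5 ^ 2 by
      rw [card_sylow hN P]; norm_num) ⟨a, ha⟩ ⟨b, hb⟩)

theorem count_cases (hN : Nat.card G = 5400) (H : Subgroup G) [Fact (Nat.Prime 5)] (P : Sylow 5 G)
    (hP : (P : Subgroup G) ≤ H) : Nat.card (Sylow 5 H) ∈ [1, 6, 36, 216] := by
  have hP' : Nat.card (P.subtype hP) = 25 := by
    show Nat.card ((P : Subgroup G).subgroupOf H) = 25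
    rw [Nat.card_congr (Subgroup.subgroupOfEquivOfLe hP).toEquiv, card_sylow hN]
  obtain ⟨k, hk⟩ : 25 ∣ Nat.card H := card_sylow hN P ▸ Subgroup.card_dvd_of_le hP
  have hmem := SmallOrder.card_sylow_mem_filter (P.subtype hP) hP' hk (by norm_num)
  rw [Finset.mem_filter, Nat.mem_divisors] at hmem
  have hk216 : k ∣ 216 := Nat.dvd_of_mul_dvd_mul_left (show 0 < 25 by norm_num)
    (hk ▸ (show 25 * 216 = Nat.card G by rw [hN]) ▸ Subgroup.card_subgroup_dvd_card H)
  have hd := hmem.1.1.trans hk216
  have h := List.all_eq_true.1 counts _ (List.mem_range.2 (Nat.lt_succ_of_le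
    (Nat.le_of_dvd (by norm_num) hd)))
  simp only [Bool.or_eq_true, decide_eq_true_eq, List.contains_iff_mem] at h
  rcases h with (h | h) | h
  · exact absurd (Nat.mod_eq_zero_of_dvd hd) h
  · exact absurd hmem.2 h
  · exact h

/-- A subgroup containing every Sylow subgroup is everything. -/
theorem eq_top_of_all [IsSimpleGroup G] (hN : Nat.card G = 5400) [Fact (Nat.Prime 5)] {H : Subgroup G}
    (h : ∀ Q : Sylow 5 G, (Q : Subgroup G) ≤ H) : H = ⊤ := by
  set K := ⨆ Q : Sylow 5 G, (Q : Subgroup G) with hK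
  have hn : K.Normal := ⟨fun x hx g => by
    have hle : K.map (MulAut.conj g).toMonoidHom ≤ K := by
      rw [hK, Subgroup.map_iSup]
      refine iSup_le fun Q => le_trans ?_ (le_iSup (fun Q : Sylow 5 G => (Q : Subgroup G)) (g • Q))
      rw [Sylow.coe_subgroup_smul]
      rintro _ ⟨y, hy, rfl⟩
      exact ⟨y, hy, rfl⟩
    exact hle ⟨x, hx, rfl⟩⟩
  obtain ⟨P⟩ : Nonempty (Sylow 5 G) := inferInstance
  rcases hn.eq_bot_or_eq_top with e | e
  · have h1 : (P : Subgroup G) ≤ ⊥ := e ▸ le_iSup (fun Q : Sylow 5 G => (Q : Subgroup G)) P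
    have h2 := card_sylow hN P
    rw [le_bot_iff.1 h1, Subgroup.card_bot] at h2
    omega
  · rw [eq_top_iff, ← e]; exact iSup_le h

/-- If more than six Sylow subgroups lie in `H`, then `H` is everything. -/
theorem eq_top_of_many [IsSimpleGroup G] (hN : Nat.card G = 5400) [Fact (Nat.Prime 5)]
    (h36 : Nat.card (Sylow 5 G) = 36) {H : Subgroup G}
    (h : 6 < Nat.card {Q : Sylow 5 G // (Q : Subgroup G) ≤ H}) : H = ⊤ := by
  classical
  let f : {Q : Sylow 5 G // (Q : Subgroup G) ≤ H} → Sylow 5 H := fun Q => Q.1.subtype Q.2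
  have hf : Function.Injective f := fun Q Q' e => Subtype.ext (Sylow.subtype_injective e)
  obtain ⟨⟨P, hP⟩⟩ : Nonempty {Q : Sylow 5 G // (Q : Subgroup G) ≤ H} :=
    (Nat.card_pos_iff.1 (show 0 < Nat.card {Q : Sylow 5 G // (Q : Subgroup G) ≤ H} by omega)).1
  have hle := Nat.card_le_card_of_injective f hf
  have hc := count_cases hN H P hP
  refine eq_top_of_all hN fun Q => ?_
  obtain ⟨k, hk⟩ : 25 ∣ Nat.card H := card_sylow hN P ▸ Subgroup.card_dvd_of_le hP
  -- all Sylow subgroups of `H` are Sylow subgroups of `G`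
  let g : Sylow 5 H → {Q : Sylow 5 G // (Q : Subgroup G) ≤ H} := fun R =>
    ⟨Sylow.ofCard ((R : Subgroup H).map H.subtype) (by
      rw [Subgroup.card_subtype]
      have h1 : Nat.card (R : Subgroup H) = Nat.card ((P.subtype hP : Sylow 5 H) : Subgroup H) :=
        R.card_eq_multiplicity.trans (P.subtype hP).card_eq_multiplicity.symm
      rw [h1]
      show Nat.card ((P : Subgroup G).subgroupOf H) = _
      rw [Nat.card_congr (Subgroup.subgroupOfEquivOfLe hP).toEquiv]
      exact P.card_eq_multiplicity), Subgroup.map_subtype_le _⟩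
  have hg : Function.Injective g := fun R R' e => by
    have e' : (R : Subgroup H).map H.subtype = (R' : Subgroup H).map H.subtype :=
      congrArg (fun Q : {Q : Sylow 5 G // (Q : Subgroup G) ≤ H} => ((Q.1 : Sylow 5 G) : Subgroup G)) e
    exact Sylow.ext (Subgroup.map_injective H.subtype_injective e')
  have hle' := Nat.card_le_card_of_injective g hg
  have hleG : Nat.card {Q : Sylow 5 G // (Q : Subgroup G) ≤ H} ≤ Nat.card (Sylow 5 G) :=
    Nat.card_le_card_of_injective Subtype.val Subtype.val_injective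
  simp only [List.mem_cons, List.not_mem_nil, or_false] at hc
  have heq : Nat.card {Q : Sylow 5 G // (Q : Subgroup G) ≤ H} = Nat.card (Sylow 5 G) := by omega
  have hbij := (Nat.bijective_iff_injective_and_card
    (Subtype.val : {Q : Sylow 5 G // (Q : Subgroup G) ≤ H} → Sylow 5 G)).2
      ⟨Subtype.val_injective, heq⟩
  obtain ⟨⟨Q', hQ'⟩, rfl⟩ := hbij.2 Q
  exact hQ'

set_option maxHeartbeats 1000000 in
theorem false_5400 [IsSimpleGroup G] (hG : ¬ IsMulCommutative G) (hN : Nat.card G = 5400) : False := by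
  classical
  haveI : Fact (Nat.Prime 5) := ⟨by norm_num⟩
  haveI : Fact (Nat.Prime 3) := ⟨by norm_num⟩
  haveI : Fintype G := Fintype.ofFinite G
  haveI : Fintype (Sylow 5 G) := Fintype.ofFinite _
  have hna := not_isMulCommutative_comm hG
  obtain ⟨P⟩ : Nonempty (Sylow 5 G) := inferInstance
  have hP25 : ∀ P : Sylow 5 G, Nat.card (P : Subgroup G) = 25 := fun P => card_sylow hN P
  have hNn : ∀ P : Sylow 5 G,
      Nat.card (Subgroup.normalizer ((P : Subgroup G) : Set G)) * Nat.card (Sylow 5 G) = 5400 :=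
    fun P => (SmallOrder.card_normalizer_mul_card_sylow P).trans hN
  have hPne : ∀ P : Sylow 5 G, (P : Subgroup G) ≠ ⊥ := fun P e => by
    have := hP25 P
    rw [e, Subgroup.card_bot] at this
    omega
  have hP25' : ∀ P : Sylow 5 G, Nat.card P = 25 := hP25
  have hn1 : Nat.card (Sylow 5 G) ≠ 1 := SmallOrder.card_sylow_ne_one P
    (by rw [hP25' P]; norm_num) (by rw [hP25' P, hN]; norm_num)
  have hmem := SmallOrder.card_sylow_mem_filter P (hP25' P) (n := 216) (by rw [hN]) (by norm_num)
  rw [Finset.mem_filter, Nat.mem_divisors] at hmem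
  have hc := List.all_eq_true.1 counts _ (List.mem_range.2 (Nat.lt_succ_of_le
    (Nat.le_of_dvd (by norm_num) hmem.1.1)))
  simp only [Bool.or_eq_true, decide_eq_true_eq, List.contains_iff_mem, List.mem_cons,
    List.not_mem_nil, or_false, Nat.mod_eq_zero_of_dvd hmem.1.1, ne_eq, not_true_eq_false, false_or,
    hmem.2] at hc
  rcases hc with hc | hc | h36 | h216
  · exact hn1 hc
  · have h := SmallOrder.card_dvd_factorial_index
      (H := Subgroup.normalizer ((P : Subgroup G) : Set G))
      (fun e => hn1 (P.card_eq_index_normalizer.trans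
        ((congrArg Subgroup.index e).trans Subgroup.index_top)))
    rw [show (Subgroup.normalizer ((P : Subgroup G) : Set G)).index = Nat.card (Sylow 5 G) from
      P.card_eq_index_normalizer.symm, hc, hN] at h
    norm_num [Nat.factorial] at h
  rotate_left
  · -- the normaliser is abelian
    have hNP : Nat.card (Subgroup.normalizer ((P : Subgroup G) : Set G)) = 25 := by
      have := hNn P
      rw [h216] at this
      omega
    have hNC : Subgroup.normalizer ((P : Subgroup G) : Set G) ≤
        Subgroup.centralizer ((P : Subgroup G) : Set G) := by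
      rw [← Subgroup.eq_of_le_of_card_ge Subgroup.le_normalizer (hNP.le.trans (hP25 P).ge)]
      exact fun a ha => Subgroup.mem_centralizer_iff.2 fun b hb => comm_sylow hN P hb ha
    exact card_ne_sylow (p := 5) (a := 2) hG
      ((SmallOrder.card_eq_sylow_of_normalizer_le_centralizer P hNC (hPne P)).trans (by
        rw [show Nat.card P = 25 from hP25 P]; norm_num))
  -- thirty-six Sylow subgroups
  have hNcard : ∀ P : Sylow 5 G, Nat.card (Subgroup.normalizer ((P : Subgroup G) : Set G)) = 150 := by
    intro P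
    have := hNn P
    rw [h36] at this
    omega
  have hno : ∀ {a : G}, a ≠ 1 → Subgroup.centralizer ({a} : Set G) ≠ ⊤ := by
    intro a ha h
    have hz : a ∈ Subgroup.center G := Subgroup.mem_center_iff.2 fun g =>
      Subgroup.mem_centralizer_singleton_iff.1
        (h ▸ Subgroup.mem_top g : g ∈ Subgroup.centralizer ({a} : Set G))
    rcases Subgroup.Normal.eq_bot_or_eq_top (inferInstance : (Subgroup.center G).Normal) with e | e
    · exact ha (Subgroup.mem_bot.1 (e ▸ hz))
    · obtain ⟨b, c, hbc⟩ := hna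
      exact hbc (Subgroup.mem_center_iff.1 (e ▸ Subgroup.mem_top c : c ∈ Subgroup.center G) b)
  -- the Sylow subgroups through an element
  set T : G → Finset (Sylow 5 G) := fun a => Finset.univ.filter fun Q => a ∈ (Q : Subgroup G) with hT
  have hmemT : ∀ {a : G} {Q : Sylow 5 G}, Q ∈ T a ↔ a ∈ (Q : Subgroup G) := fun {a Q} => by
    simp [hT]
  have hT6 : ∀ a : G, a ≠ 1 → (T a).card ≤ 6 := by
    intro a ha
    by_contra hlt
    push Not at hlt
    refine hno ha (eq_top_of_many hN h36 ?_)
    rw [← Fintype.card_coe, ← Nat.card_eq_fintype_card] at hlt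
    exact lt_of_lt_of_le hlt (Nat.card_le_card_of_injective
      (fun Q => (⟨Q.1, fun b hb => Subgroup.mem_centralizer_singleton_iff.2
        (comm_sylow hN Q.1 hb (hmemT.1 Q.2))⟩ :
          {Q : Sylow 5 G // (Q : Subgroup G) ≤ Subgroup.centralizer ({a} : Set G)}))
      (fun Q Q' e => Subtype.ext (congrArg
        (fun R : {Q : Sylow 5 G // (Q : Subgroup G) ≤ Subgroup.centralizer ({a} : Set G)} => R.1) e)))
  -- intersections with a fixed `P`
  set I : Sylow 5 G → Sylow 5 G → Subgroup G := fun P Q => (P : Subgroup G) ⊓ (Q : Subgroup G) with hI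
  have hIcard : ∀ P Q : Sylow 5 G, Q ≠ P → I P Q ≠ ⊥ → Nat.card (I P Q) = 5 := by
    intro P Q hne hb
    have hd : Nat.card (I P Q) ∣ 5 ^ 2 := by
      rw [show 5 ^ 2 = 25 from rfl, ← hP25 P]; exact Subgroup.card_dvd_of_le inf_le_left
    obtain ⟨j, hj, hjc⟩ := (Nat.dvd_prime_pow (by norm_num)).1 hd
    interval_cases j
    · exact absurd (Subgroup.card_eq_one.1 (by simpa using hjc)) hb
    · simpa using hjc
    · exfalso
      have hP' : I P Q = (P : Subgroup G) :=
        Subgroup.eq_of_le_of_card_ge inf_le_left (by rw [hP25, hjc]; norm_num)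
      have hle : (P : Subgroup G) ≤ (Q : Subgroup G) := hP' ▸ inf_le_right
      exact hne (Sylow.ext (Subgroup.eq_of_le_of_card_ge hle (by rw [hP25, hP25])).symm)
  have hlineI : ∀ P Q : Sylow 5 G, ∀ D : Subgroup G, Nat.card D = 5 → D ≤ (P : Subgroup G) →
      D ≤ (Q : Subgroup G) → Q ≠ P → I P Q = D := fun P Q D hD h1 h2 hne =>
    (Subgroup.eq_of_le_of_card_ge (le_inf h1 h2) (by
      rw [hD]; exact (hIcard P Q hne fun e => by
        have := Subgroup.card_dvd_of_le (le_inf h1 h2 : D ≤ I P Q)
        rw [show (P : Subgroup G) ⊓ (Q : Subgroup G) = ⊥ from e, Subgroup.card_bot, hD] at this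
        norm_num at this).le)).symm
  -- the orbits of `P`
  have hpres : ∀ P Q : Sylow 5 G, ∀ a ∈ (P : Subgroup G), ∀ D : Subgroup G, D ≤ (P : Subgroup G) →
      D ≤ (Q : Subgroup G) → D ≤ ((a • Q : Sylow 5 G) : Subgroup G) := by
    intro P Q a ha D hDP hDQ d hd
    rw [Sylow.coe_subgroup_smul]
    refine ⟨d, hDQ hd, ?_⟩
    show a * d * a⁻¹ = d
    rw [comm_sylow hN P ha (hDP hd), mul_inv_cancel_right]
  have hfix : ∀ P Q : Sylow 5 G, ∀ a ∈ (P : Subgroup G), a • Q = Q → a ∈ (Q : Subgroup G) := by
    intro P Q a ha hQ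
    have hpg : IsPGroup 5 (Subgroup.zpowers a) := P.2.to_le (Subgroup.zpowers_le.2 ha)
    have h1 : Subgroup.zpowers a ⊓ Subgroup.normalizer ((Q : Subgroup G) : Set G) =
        Subgroup.zpowers a ⊓ (Q : Subgroup G) := hpg.inf_normalizer_sylow Q
    have h2 : a ∈ Subgroup.normalizer ((Q : Subgroup G) : Set G) :=
      Sylow.smul_eq_iff_mem_normalizer.1 hQ
    rw [inf_eq_left.2 (Subgroup.zpowers_le.2 h2)] at h1
    exact inf_eq_left.1 h1.symm (Subgroup.mem_zpowers a)
  set O : Sylow 5 G → Sylow 5 G → Finset (Sylow 5 G) := fun P Q =>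
    Finset.univ.filter fun R => ∃ a ∈ (P : Subgroup G), a • Q = R with hO
  have hOcard : ∀ P Q : Sylow 5 G, (O P Q).card * Nat.card (I P Q) = 25 := by
    intro P Q
    rw [← hP25 P]
    haveI : Fintype (P : Subgroup G) := Fintype.ofFinite _
    have horb : Nat.card (MulAction.orbit (P : Subgroup G) Q) *
        Nat.card (MulAction.stabilizer (P : Subgroup G) Q) = Nat.card (P : Subgroup G) := by
      rw [Nat.card_eq_fintype_card, Nat.card_eq_fintype_card, Nat.card_eq_fintype_card]
      exact MulAction.card_orbit_mul_card_stabilizer_eq_card_group _ Q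
    rw [← horb]
    congr 1
    · rw [← Fintype.card_coe, ← Nat.card_eq_fintype_card]
      refine Nat.card_congr (Equiv.subtypeEquivRight fun R => ?_)
      simp only [hO, Finset.mem_filter, Finset.mem_univ, true_and, MulAction.mem_orbit_iff]
      exact ⟨fun ⟨a, ha, h⟩ => ⟨⟨a, ha⟩, h⟩, fun ⟨a, h⟩ => ⟨a, a.2, h⟩⟩
    · refine Nat.card_congr
        { toFun := fun a => ⟨⟨a.1, a.2.1⟩, ?_⟩
          invFun := fun a => ⟨a.1.1, a.1.2, hfix P Q _ a.1.2 a.2⟩
          left_inv := fun a => rfl
          right_inv := fun a => rfl }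
      exact Sylow.smul_eq_iff_mem_normalizer.2 (Subgroup.le_normalizer a.2.2)
  have hne_smul : ∀ P Q : Sylow 5 G, ∀ a ∈ (P : Subgroup G), Q ≠ P → a • Q ≠ P := by
    intro P Q a ha hne h
    refine hne ?_
    rw [← inv_smul_smul a Q, h]
    exact Sylow.smul_eq_iff_mem_normalizer.2 (Subgroup.le_normalizer (inv_mem ha))
  -- a line meeting another Sylow subgroup lies in exactly six, an orbit of `P` and `P` itself
  have hT_eq : ∀ P Q : Sylow 5 G, Q ≠ P → ∀ d ∈ I P Q, d ≠ 1 → T d = insert P (O P Q) := by
    intro P Q hne d hd hd1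
    have hI5 := hIcard P Q hne fun e => hd1 (Subgroup.mem_bot.1 (e ▸ hd))
    have h5 : (O P Q).card = 5 := by have := hOcard P Q; rw [hI5] at this; omega
    refine (Finset.eq_of_subset_of_card_le ?_ ?_).symm
    · intro R hR
      rcases Finset.mem_insert.1 hR with rfl | hR
      · exact hmemT.2 hd.1
      · obtain ⟨a, ha, rfl⟩ := (Finset.mem_filter.1 hR).2
        exact hmemT.2 (hpres P Q a ha (I P Q) inf_le_left inf_le_right hd)
    · rw [Finset.card_insert_of_notMem (fun hP => ?_), h5]
      · exact hT6 d hd1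
      · obtain ⟨a, ha, h⟩ := (Finset.mem_filter.1 hP).2
        exact hne_smul P Q a ha hne h
  -- exactly two lines of each `P` meet other Sylow subgroups
  set Ls : Sylow 5 G → Finset (Subgroup G) := fun P =>
    ((Finset.univ.filter fun Q => Q ≠ P ∧ I P Q ≠ ⊥).image (I P)) with hLs
  have hLs2 : ∀ P : Sylow 5 G, (Ls P).card = 2 := by
    intro P
    set S₁ := Finset.univ.filter fun Q : Sylow 5 G => Q ≠ P ∧ I P Q ≠ ⊥ with hS₁
    set S₀ := Finset.univ.filter fun Q : Sylow 5 G => Q ≠ P ∧ I P Q = ⊥ with hS₀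
    have htot : S₁.card + S₀.card + 1 = 36 := by
      have h1 : Finset.univ = insert P (S₁ ∪ S₀) := by
        ext Q; simp [hS₁, hS₀]; tauto
      rw [← h36, Nat.card_eq_fintype_card, ← Finset.card_univ, h1, Finset.card_insert_of_notMem
        (by simp [hS₁, hS₀]), Finset.card_union_of_disjoint]
      refine Finset.disjoint_filter.2 fun Q _ h h' => h.2 h'.2
    have hfib : ∀ D ∈ Ls P, (S₁.filter fun Q => I P Q = D).card = 5 := by
      intro D hD
      obtain ⟨Q, hQ, rfl⟩ := Finset.mem_image.1 hD
      obtain ⟨-, hne, hb⟩ := Finset.mem_filter.1 hQ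
      obtain ⟨d, hd, hd1⟩ := (Subgroup.bot_or_exists_ne_one (I P Q)).resolve_left hb
      have heq : (S₁.filter fun R => I P R = I P Q) = O P Q := by
        ext R
        refine ⟨fun hR => ?_, fun hR => ?_⟩
        · obtain ⟨hR1, hRQ⟩ := Finset.mem_filter.1 hR
          have hRT : R ∈ T d := hmemT.2 (hRQ ▸ hd : d ∈ I P R).2
          rw [hT_eq P Q hne d hd hd1] at hRT
          exact (Finset.mem_insert.1 hRT).resolve_left (Finset.mem_filter.1 hR1).2.1
        · obtain ⟨a, ha, rfl⟩ := (Finset.mem_filter.1 hR).2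
          have hRne := hne_smul P Q a ha hne
          have hIeq : I P (a • Q) = I P Q := hlineI P _ _ (hIcard P Q hne hb) inf_le_left
            (hpres P Q a ha _ inf_le_left inf_le_right) hRne
          exact Finset.mem_filter.2 ⟨Finset.mem_filter.2
            ⟨Finset.mem_univ _, hRne, by rw [hIeq]; exact hb⟩, hIeq⟩
      rw [heq]
      have := hOcard P Q
      rw [hIcard P Q hne hb] at this
      omega
    have hS₁card : S₁.card = (Ls P).card * 5 := by
      rw [Finset.card_eq_sum_card_fiberwise (f := I P) (t := Ls P)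
        (fun Q hQ => Finset.mem_image_of_mem _ hQ), Finset.sum_congr rfl hfib, Finset.sum_const,
        smul_eq_mul]
    have hS₀dvd : 25 ∣ S₀.card := by
      have : S₀.card = (S₀.image (O P)).card * 25 := by
        rw [Finset.card_eq_sum_card_fiberwise (f := O P) (t := S₀.image (O P))
          (fun Q hQ => Finset.mem_image_of_mem _ hQ), Finset.sum_congr rfl (g := fun _ => 25)
            fun B hB => ?_, Finset.sum_const, smul_eq_mul]
        obtain ⟨Q, hQ, rfl⟩ := Finset.mem_image.1 hB
        obtain ⟨-, hne, hb⟩ := Finset.mem_filter.1 hQ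
        have heq : (S₀.filter fun R => O P R = O P Q) = O P Q := by
          ext R
          refine ⟨fun hR => ?_, fun hR => ?_⟩
          · rw [← (Finset.mem_filter.1 hR).2]
            exact Finset.mem_filter.2 ⟨Finset.mem_univ _, 1, one_mem _, one_smul _ _⟩
          · obtain ⟨a, ha, rfl⟩ := (Finset.mem_filter.1 hR).2
            have hRne := hne_smul P Q a ha hne
            refine Finset.mem_filter.2 ⟨Finset.mem_filter.2 ⟨Finset.mem_univ _, hRne, ?_⟩, ?_⟩
            · rw [eq_bot_iff]
              intro d hd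
              have h2 := hpres P (a • Q) a⁻¹ (inv_mem ha) (I P (a • Q)) inf_le_left inf_le_right hd
              rw [inv_smul_smul] at h2
              exact hb.le ⟨hd.1, h2⟩
            · ext R'
              simp only [hO, Finset.mem_filter, Finset.mem_univ, true_and]
              constructor
              · rintro ⟨b, hb', rfl⟩
                exact ⟨b * a, mul_mem hb' ha, mul_smul b a Q⟩
              · rintro ⟨b, hb', rfl⟩
                exact ⟨b * a⁻¹, mul_mem hb' (inv_mem ha), by rw [← mul_smul, inv_mul_cancel_right]⟩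
        rw [heq]
        have := hOcard P Q
        rw [hb, Subgroup.card_bot, mul_one] at this
        exact this
      rw [this]; exact dvd_mul_left _ _
    -- at most six lines
    have hle6 : (Ls P).card ≤ 6 := by
      have hdis : ∀ D ∈ Ls P, ∀ D' ∈ Ls P, D ≠ D' → ∀ d ∈ D, d ∈ D' → d = 1 := by
        intro D hD D' hD' hne d hd hd'
        obtain ⟨Q, hQ, rfl⟩ := Finset.mem_image.1 hD
        obtain ⟨R, hR, rfl⟩ := Finset.mem_image.1 hD'
        by_contra hd1
        apply hne
        obtain ⟨-, hQne, hQb⟩ := Finset.mem_filter.1 hQ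
        obtain ⟨-, hRne, hRb⟩ := Finset.mem_filter.1 hR
        have hz : ∀ S : Sylow 5 G, S ≠ P → d ∈ I P S → I P S = Subgroup.zpowers d := fun S hS hdS => by
          refine (Subgroup.eq_of_le_of_card_ge (Subgroup.zpowers_le.2 hdS) ?_).symm
          have h5 := hIcard P S hS fun e => hd1 (Subgroup.mem_bot.1 (e ▸ hdS))
          rw [h5, Nat.card_zpowers]
          have hd5 : orderOf d ∣ 5 := by
            rw [← h5, ← Nat.card_zpowers]
            exact Subgroup.card_dvd_of_le (Subgroup.zpowers_le.2 hdS)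
          exact ((Nat.prime_five.eq_one_or_self_of_dvd _ hd5).resolve_left
            fun h => hd1 (orderOf_eq_one_iff.1 h)).ge
        rw [hz Q hQne hd, hz R hRne hd']
      haveI : Fintype (P : Subgroup G) := Fintype.ofFinite _
      set U : Subgroup G → Finset G := fun D =>
        (Finset.univ.filter fun d => d ∈ D ∧ d ≠ 1) with hU
      have hU4 : ∀ D ∈ Ls P, (U D).card = 4 := by
        intro D hD
        obtain ⟨Q, hQ, rfl⟩ := Finset.mem_image.1 hD
        obtain ⟨-, hQne, hQb⟩ := Finset.mem_filter.1 hQ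
        have h5 := hIcard P Q hQne hQb
        have : U (I P Q) = ((Finset.univ.filter fun d => d ∈ I P Q).erase 1) := by
          ext d; simp [hU, and_comm]
        rw [this, Finset.card_erase_of_mem (by simp), ← Fintype.card_subtype,
          ← Nat.card_eq_fintype_card]
        show Nat.card (I P Q) - 1 = 4
        rw [h5]
      have hbi : ((Ls P).biUnion U).card = (Ls P).card * 4 := by
        rw [Finset.card_biUnion, Finset.sum_congr rfl hU4, Finset.sum_const, smul_eq_mul]
        intro D hD D' hD' hne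
        rw [Function.onFun, Finset.disjoint_left]
        intro d hd hd'
        exact (Finset.mem_filter.1 hd).2.2
          (hdis D hD D' hD' hne d (Finset.mem_filter.1 hd).2.1 (Finset.mem_filter.1 hd').2.1)
      have hsub : ((Ls P).biUnion U) ⊆ (Finset.univ.filter fun d => d ∈ (P : Subgroup G)).erase 1 := by
        intro d hd
        obtain ⟨D, hD, hdD⟩ := Finset.mem_biUnion.1 hd
        obtain ⟨Q, -, rfl⟩ := Finset.mem_image.1 hD
        obtain ⟨-, hd', hd1⟩ := Finset.mem_filter.1 hdD
        exact Finset.mem_erase.2 ⟨hd1, Finset.mem_filter.2 ⟨Finset.mem_univ _, hd'.1⟩⟩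
      have := Finset.card_le_card hsub
      rw [hbi, Finset.card_erase_of_mem (by simp), ← Fintype.card_subtype,
        ← Nat.card_eq_fintype_card] at this
      have h25 : Nat.card {d : G // d ∈ (P : Subgroup G)} = 25 := hP25 P
      omega
    omega
  -- an element of order three normalising `P` centralises it
  have hthree : ∀ (P : Sylow 5 G) (y : G), y ∈ Subgroup.normalizer ((P : Subgroup G) : Set G) →
      orderOf y = 3 → ∀ d ∈ (P : Subgroup G), y * d = d * y := by
    intro P y hy hy3
    have hyP : y • P = P := Sylow.smul_eq_iff_mem_normalizer.2 hy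
    have hy3' : y * (y * y) = 1 := by
      rw [← mul_assoc, ← pow_three' y, ← hy3, pow_orderOf_eq_one]
    set c : Subgroup G → Subgroup G := fun D => D.map (MulAut.conj y).toMonoidHom with hc
    have hcm : ∀ D ∈ Ls P, c D ∈ Ls P := by
      intro D hD
      obtain ⟨Q, hQ, rfl⟩ := Finset.mem_image.1 hD
      obtain ⟨-, hQne, hQb⟩ := Finset.mem_filter.1 hQ
      have hmap : c (I P Q) = I P (y • Q) := by
        rw [hc]
        show ((P : Subgroup G) ⊓ (Q : Subgroup G)).map _ = (P : Subgroup G) ⊓ ((y • Q : Sylow 5 G) : Subgroup G)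
        rw [Subgroup.map_inf _ _ _ (MulAut.conj y).injective]
        congr 1
        · conv_rhs => rw [← hyP, Sylow.coe_subgroup_smul]
          rfl
      rw [hmap]
      refine Finset.mem_image_of_mem _ (Finset.mem_filter.2 ⟨Finset.mem_univ _, fun h => hQne ?_, ?_⟩)
      · rw [← inv_smul_smul y Q, h, inv_smul_eq_iff, hyP]
      · rw [← hmap, hc, Ne, Subgroup.map_eq_bot_iff_of_injective _ (MulAut.conj y).injective]
        exact hQb
    have hc3 : ∀ D : Subgroup G, c (c (c D)) = D := fun D => by
      have e : ((MulAut.conj y).toMonoidHom.comp (MulAut.conj y).toMonoidHom).comp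
          (MulAut.conj y).toMonoidHom = MonoidHom.id G := MonoidHom.ext fun z => by
        show y * (y * (y * z * y⁻¹) * y⁻¹) * y⁻¹ = z
        calc y * (y * (y * z * y⁻¹) * y⁻¹) * y⁻¹ = y * (y * y) * z * (y * (y * y))⁻¹ := by group
          _ = z := by rw [hy3', one_mul, inv_one, mul_one]
      simp only [hc, Subgroup.map_map, ← MonoidHom.comp_assoc]
      rw [e, Subgroup.map_id]
    obtain ⟨D₁, D₂, hne, hLs'⟩ := Finset.card_eq_two.1 (hLs2 P)
    have hfixed : ∀ D ∈ Ls P, c D = D := by
      intro D hD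
      have h1 := hcm D hD
      have h2 := hcm _ h1
      have h3 := hc3 D
      by_contra hne'
      have hE : ∀ E ∈ Ls P, E = D ∨ E = c D := by
        intro E hE
        rw [hLs', Finset.mem_insert, Finset.mem_singleton] at hD h1 hE
        rcases hD with rfl | rfl <;> rcases h1 with h1 | h1
        · exact absurd h1 hne'
        · rcases hE with rfl | rfl
          · exact Or.inl rfl
          · exact Or.inr h1.symm
        · rcases hE with rfl | rfl
          · exact Or.inr h1.symm
          · exact Or.inl rfl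
        · exact absurd h1 hne'
      rcases hE _ h2 with h4 | h4
      · rw [h4] at h3
        exact hne' h3
      · rw [h4, h4] at h3
        exact hne' h3
    have hcent : ∀ D ∈ Ls P, ∀ d ∈ D, y * d = d * y := by
      intro D hD d hd
      have hD5 : Nat.card D = 5 := by
        obtain ⟨Q, hQ, rfl⟩ := Finset.mem_image.1 hD
        obtain ⟨-, hQne, hQb⟩ := Finset.mem_filter.1 hQ
        exact hIcard P Q hQne hQb
      have hmem' : ∀ k : ℤ, ∀ e ∈ D, y * e * y⁻¹ ∈ D := fun k e he => by
        have := hfixed D hD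
        rw [← this]
        exact ⟨e, he, rfl⟩
      by_cases hd1 : d = 1
      · rw [hd1, mul_one, one_mul]
      have hdo : orderOf d = 5 := by
        have hdd : orderOf d ∣ 5 := by
          rw [← hD5, ← Nat.card_zpowers]
          exact Subgroup.card_dvd_of_le (Subgroup.zpowers_le.2 hd)
        exact (Nat.prime_five.eq_one_or_self_of_dvd _ hdd).resolve_left
          fun h => hd1 (orderOf_eq_one_iff.1 h)
      have hDz : Subgroup.zpowers d = D := Subgroup.eq_of_le_of_card_ge (Subgroup.zpowers_le.2 hd)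
        (by rw [Nat.card_zpowers, hdo, hD5])
      obtain ⟨z, hz⟩ := hDz.ge (hmem' 0 d hd)
      obtain ⟨k, hk5, hk⟩ : ∃ k < 5, y * d * y⁻¹ = d ^ k := by
        refine ⟨(z % 5).toNat, by omega, ?_⟩
        rw [← zpow_natCast, Int.toNat_of_nonneg (Int.emod_nonneg _ (by norm_num)), ← hz]
        show d ^ z = _
        conv_lhs => rw [← zpow_mod_orderOf, hdo]
        rfl
      have h3 : d = d ^ (k * k * k) := by
        conv_lhs => rw [show d = y * (y * y) * d * (y * (y * y))⁻¹ by rw [hy3', one_mul, inv_one, mul_one]]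
        have hj : ∀ j : ℕ, y * d ^ j * y⁻¹ = d ^ (k * j) := fun j => by
          rw [← conj_pow, hk, ← pow_mul]
        calc y * (y * y) * d * (y * (y * y))⁻¹ = y * (y * (y * d * y⁻¹) * y⁻¹) * y⁻¹ := by group
          _ = d ^ (k * k * k) := by rw [hk, hj, hj, mul_assoc]
      have hmod : 1 % 5 = (k * k * k) % 5 := by
        have := pow_eq_pow_iff_modEq.1 ((pow_one d).trans h3)
        rwa [hdo] at this
      have hk1 : k = 1 := by interval_cases k <;> omega
      rw [hk1, pow_one] at hk
      calc y * d = y * d * y⁻¹ * y := by group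
        _ = d * y := by rw [hk]
    set K := Subgroup.centralizer ({y} : Set G) ⊓ (P : Subgroup G) with hK
    have hD1 : D₁ ∈ Ls P := by rw [hLs']; simp
    have hD2 : D₂ ∈ Ls P := by rw [hLs']; simp
    have hcardD : ∀ D ∈ Ls P, Nat.card D = 5 ∧ D ≤ K := fun D hD => by
      obtain ⟨Q, hQ, rfl⟩ := Finset.mem_image.1 hD
      obtain ⟨-, hQne, hQb⟩ := Finset.mem_filter.1 hQ
      exact ⟨hIcard P Q hQne hQb, fun d hd => ⟨Subgroup.mem_centralizer_singleton_iff.2
        (hcent _ hD d hd).symm, hd.1⟩⟩
    have hKd : Nat.card K ∣ 5 ^ 2 := by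
      rw [show 5 ^ 2 = 25 from rfl, ← hP25 P]; exact Subgroup.card_dvd_of_le inf_le_right
    obtain ⟨j, hj, hjc⟩ := (Nat.dvd_prime_pow (by norm_num)).1 hKd
    have h5K : 5 ∣ Nat.card K := (hcardD D₁ hD1).1 ▸ Subgroup.card_dvd_of_le (hcardD D₁ hD1).2
    interval_cases j
    · rw [hjc] at h5K; norm_num at h5K
    · exfalso
      refine hne ?_
      rw [Subgroup.eq_of_le_of_card_ge (hcardD D₁ hD1).2 (by rw [hjc, (hcardD D₁ hD1).1]; norm_num),
        Subgroup.eq_of_le_of_card_ge (hcardD D₂ hD2).2 (by rw [hjc, (hcardD D₂ hD2).1]; norm_num)]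
    · intro d hd
      have hKP : K = (P : Subgroup G) :=
        Subgroup.eq_of_le_of_card_ge inf_le_right (by rw [hP25, hjc]; norm_num)
      exact (Subgroup.mem_centralizer_singleton_iff.1 (hKP.ge hd).1).symm
  -- the subgroup of order three
  obtain ⟨y, hy⟩ := exists_prime_orderOf_dvd_card'
    (G := Subgroup.normalizer ((P : Subgroup G) : Set G)) 3 (by rw [hNcard]; norm_num)
  have hy3 : orderOf (y : G) = 3 := by rw [Subgroup.orderOf_coe, hy]
  have hy1 : (y : G) ≠ 1 := fun h => by rw [h, orderOf_one] at hy3; omega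
  have hyP := hthree P y y.2 hy3
  have hall : ∀ Q : Sylow 5 G, Q ≠ P → I P Q ≠ ⊥ →
      (Q : Subgroup G) ≤ Subgroup.centralizer ({(y : G)} : Set G) := by
    intro Q hne hb d hd
    refine Subgroup.mem_centralizer_singleton_iff.2 (hthree Q y ?_ hy3 d hd).symm
    obtain ⟨e, he, he1⟩ := (Subgroup.bot_or_exists_ne_one (I P Q)).resolve_left hb
    have hyQ : (y : G) • Q ∈ T e := by
      rw [hmemT, Sylow.coe_subgroup_smul]
      exact ⟨e, he.2, show (y : G) * e * (y : G)⁻¹ = e by rw [hyP e he.1, mul_inv_cancel_right]⟩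
    rw [hT_eq P Q hne e he he1, Finset.mem_insert] at hyQ
    have hyPf : (y : G) • P = P := Sylow.smul_eq_iff_mem_normalizer.2 y.2
    rcases hyQ with h | h
    · exact absurd (by rw [← inv_smul_smul (y : G) Q, h, inv_smul_eq_iff, hyPf]) hne
    · obtain ⟨a, ha, haQ⟩ := (Finset.mem_filter.1 h).2
      have hcomm : (y : G) * a = a * y := hyP a ha
      have h2 : (y : G) • (y : G) • Q = (a * a) • Q := by
        rw [← haQ, ← mul_smul, hcomm, mul_smul, ← haQ, ← mul_smul]
      have h3 : (a * (a * a)) • Q = Q := by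
        calc (a * (a * a)) • Q = (a * a) • (a • Q) := by rw [← mul_smul, mul_assoc]
          _ = (a * a) • ((y : G) • Q) := by rw [haQ]
          _ = (y : G) • ((a * a) • Q) := by
            have hc2 : Commute (y : G) (a * a) :=
              (show Commute (y : G) a from hcomm).mul_right (show Commute (y : G) a from hcomm)
            rw [← mul_smul, ← mul_smul, hc2.eq]
          _ = (y : G) • ((y : G) • ((y : G) • Q)) := by rw [h2]
          _ = ((y : G) * ((y : G) * y)) • Q := by rw [mul_smul, mul_smul]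
          _ = Q := by rw [← mul_assoc, ← pow_three', ← hy3, pow_orderOf_eq_one, one_smul]
      have hmem3 := hfix P Q _ (mul_mem ha (mul_mem ha ha)) h3
      have ha25 : a ^ 25 = 1 := by
        have := pow_card_eq_one' (x := (⟨a, ha⟩ : (P : Subgroup G)))
        rw [hP25] at this
        exact congrArg Subtype.val this
      have haQ' : a ∈ (Q : Subgroup G) := by
        have e17 : a = (a * (a * a)) ^ 17 := by
          rw [← mul_assoc, ← pow_three', ← pow_mul, show 3 * 17 = 25 * 2 + 1 from rfl, pow_add,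
            pow_mul, ha25, one_pow, pow_one, one_mul]
        rw [e17]
        exact pow_mem hmem3 17
      refine Sylow.smul_eq_iff_mem_normalizer.1 ?_
      rw [← haQ]
      exact Sylow.smul_eq_iff_mem_normalizer.2 (Subgroup.le_normalizer haQ')
  refine hno hy1 (eq_top_of_many hN h36 ?_)
  obtain ⟨D₁, D₂, hne, hLs'⟩ := Finset.card_eq_two.1 (hLs2 P)
  set S := insert P (Finset.univ.filter fun Q => Q ≠ P ∧ I P Q ≠ ⊥) with hS
  have hScard : 6 < S.card := by
    obtain ⟨Q, hQ, hQD⟩ := Finset.mem_image.1 (show D₁ ∈ Ls P by rw [hLs']; simp)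
    obtain ⟨R, hR, hRD⟩ := Finset.mem_image.1 (show D₂ ∈ Ls P by rw [hLs']; simp)
    obtain ⟨-, hQne, hQb⟩ := Finset.mem_filter.1 hQ
    obtain ⟨-, hRne, hRb⟩ := Finset.mem_filter.1 hR
    have hsub : insert R (insert P (O P Q)) ⊆ S := by
      intro R' hR'
      rcases Finset.mem_insert.1 hR' with rfl | hR'
      · exact Finset.mem_insert_of_mem hR
      rcases Finset.mem_insert.1 hR' with rfl | hR'
      · exact Finset.mem_insert_self _ _
      · obtain ⟨a, ha, rfl⟩ := (Finset.mem_filter.1 hR').2
        refine Finset.mem_insert_of_mem (Finset.mem_filter.2 ⟨Finset.mem_univ _,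
          hne_smul P Q a ha hQne, fun h => hQb ?_⟩)
        exact eq_bot_iff.2 fun d hd => h.le ⟨hd.1, hpres P Q a ha _ inf_le_left inf_le_right hd⟩
    have hRnot : R ∉ insert P (O P Q) := by
      rw [Finset.mem_insert, not_or]
      refine ⟨hRne, fun hRO => hne ?_⟩
      obtain ⟨a, ha, haR⟩ := (Finset.mem_filter.1 hRO).2
      have := hlineI P R _ (hIcard P Q hQne hQb) inf_le_left
        (haR ▸ hpres P Q a ha _ inf_le_left inf_le_right) hRne
      rw [← hQD, ← hRD, this]
    have hPnot : P ∉ O P Q := fun hPO => by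
      obtain ⟨a, ha, h⟩ := (Finset.mem_filter.1 hPO).2
      exact hne_smul P Q a ha hQne h
    have h5 : (O P Q).card = 5 := by
      have := hOcard P Q
      rw [hIcard P Q hQne hQb] at this
      omega
    have := Finset.card_le_card hsub
    rw [Finset.card_insert_of_notMem hRnot, Finset.card_insert_of_notMem hPnot, h5] at this
    omega
  rw [← Fintype.card_coe, ← Nat.card_eq_fintype_card] at hScard
  refine lt_of_lt_of_le hScard (Nat.card_le_card_of_injective
    (fun Q => (⟨Q.1, ?_⟩ : {Q : Sylow 5 G // (Q : Subgroup G) ≤ Subgroup.centralizer ({(y : G)} : Set G)}))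
    (fun Q Q' e => Subtype.ext (congrArg
      (fun R : {Q : Sylow 5 G // (Q : Subgroup G) ≤ Subgroup.centralizer ({(y : G)} : Set G)} => R.1) e)))
  rcases Finset.mem_insert.1 Q.2 with h | h
  · rw [h]
    exact fun d hd => Subgroup.mem_centralizer_singleton_iff.2 (hyP d hd).symm
  · obtain ⟨-, hne', hb'⟩ := Finset.mem_filter.1 h
    exact hall Q.1 hne' hb'

end CfsgLib.SmallOrders.Order5400
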