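import Cfsg.Agent.Lib.SmallOrders.Order504

/-!
# Simple groups of order `4080`

The element orders are `1, 2, 3, 5, 15, 17`, the `17` Sylow `2`-subgroups are elementary abelian with
trivial intersections, and the group acts sharply triply transitively on them.
-/

namespace CfsgLib.SmallOrders.Order4080

open Cfsg MulAction CfsgLib.SmallOrders.Order504
open scoped Pointwise

set_option autoImplicit false
set_option linter.unusedVariables false
set_option linter.style.haveILetI false
set_option linter.unusedSectionVars false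

universe u v

theorem degCheck_4080 : degCheck 17 240 [(120, 2)] = true := by decide +kernel

theorem cent_4080 : ∀ c ∈ involCents 17 (17 * 240), classSearch 17 240 2 16 [c] = true → c = 16 := by
  decide +kernel

theorem z_4080 : search (cands 17 240 (17 * 240) 2 1)
    (fun as => degOk 17 240 (17 * 240) 2 2 as && zSearch as) (2 - 1) [] = false := by
  decide +kernel

theorem cent_check : ((List.range 4081).all fun d => decide (4080 % d ≠ 0) || decide (d % 17 = 0) ||
    decide (d % 2 = 0) || [1, 3, 5, 15].contains d) = true := by decide +kernel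

theorem cent_cases (d : ℕ) (h1 : d < 4081) (h2 : d ∣ 4080) (h3 : ¬ 17 ∣ d) (h4 : ¬ 2 ∣ d) :
    d ∈ [1, 3, 5, 15] := by
  have h := List.all_eq_true.1 cent_check d (List.mem_range.2 h1)
  simp only [Bool.or_eq_true, decide_eq_true_eq, List.contains_iff_mem, Nat.mod_eq_zero_of_dvd h2,
    ne_eq, not_true_eq_false, false_or, ← Nat.dvd_iff_mod_eq_zero, h3, h4] at h
  exact h

variable {G : Type u} [Group G] [Fintype G]

theorem card_isConj_centralizer (g s : G) :
    Nat.card (Subgroup.centralizer ({s * g * s⁻¹} : Set G)) =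
      Nat.card (Subgroup.centralizer ({g} : Set G)) := by
  have h1 := CfsgLib.CharTheory.card_isConj_mul_card_centralizer g
  have h2 := CfsgLib.CharTheory.card_isConj_mul_card_centralizer (s * g * s⁻¹)
  have hc : IsConj g (s * g * s⁻¹) := isConj_iff.2 ⟨s, rfl⟩
  rw [Nat.card_congr (Equiv.subtypeEquivRight fun y =>
    (⟨fun h => hc.trans h, fun h => hc.symm.trans h⟩ : IsConj (s * g * s⁻¹) y ↔ IsConj g y))] at h2
  haveI : Nonempty {y : G // IsConj g y} := ⟨⟨g, IsConj.refl g⟩⟩
  exact Nat.eq_of_mul_eq_mul_left Nat.card_pos (h2.trans h1.symm)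

theorem cube_five : ∀ a < 5, a ^ 3 % 5 = 1 → a = 1 := by decide

/-- Elements of coprime orders `3` and `5` commute in a group of order `15`. -/
theorem commute_of_card_fifteen {D : Subgroup G} (hD : Nat.card D = 15) {y w : G} (hy : y ∈ D)
    (hw : w ∈ D) (hy3 : orderOf y = 3) (hw5 : orderOf w = 5) : y * w = w * y := by
  classical
  haveI : Fact (Nat.Prime 5) := ⟨by norm_num⟩
  obtain ⟨W, hW⟩ := (isPGroup_zpowers (p := 5) (g := (⟨w, hw⟩ : D)) 1
    (by rw [pow_one, Subgroup.orderOf_mk, hw5])).exists_le_sylow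
  have hWcard : Nat.card W = 5 := by
    have := SmallOrder.card_sylow_eq (k := 1) W (by rw [hD]; norm_num) (by rw [hD]; norm_num)
    rwa [pow_one] at this
  have hn : Nat.card (Sylow 5 D) = 1 := by
    have := SmallOrder.card_sylow_mem_filter W hWcard (n := 3) (by rw [hD]) (by norm_num)
    rw [show (Nat.divisors 3).filter (fun d => d % 5 = 1) = {1} by decide, Finset.mem_singleton] at this
    exact this
  haveI : Subsingleton (Sylow 5 D) := (Nat.card_eq_one_iff_unique.mp hn).1
  haveI := Sylow.characteristic_of_subsingleton W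
  have hzw : Subgroup.zpowers (⟨w, hw⟩ : D) = (W : Subgroup D) :=
    Subgroup.eq_of_le_of_card_ge hW (by
      rw [Nat.card_zpowers, Subgroup.orderOf_mk, hw5]; exact hWcard.le)
  have hmem : (⟨y, hy⟩ : D) * ⟨w, hw⟩ * (⟨y, hy⟩ : D)⁻¹ ∈ Subgroup.zpowers (⟨w, hw⟩ : D) := by
    rw [hzw]
    exact (inferInstance : (W : Subgroup D).Normal).conj_mem _ (hW (Subgroup.mem_zpowers _)) _
  obtain ⟨z, hz⟩ := hmem
  obtain ⟨a, ha5, ha⟩ : ∃ a < 5, y * w * y⁻¹ = w ^ a := by
    refine ⟨(z % 5).toNat, by omega, ?_⟩
    have h := congrArg Subtype.val hz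
    simp only [Subgroup.coe_zpow, Subgroup.coe_mul, Subgroup.coe_inv] at h
    rw [← h, ← zpow_natCast, Int.toNat_of_nonneg (Int.emod_nonneg _ (by norm_num))]
    conv_lhs => rw [← zpow_mod_orderOf, hw5]
    rfl
  have h3 : w = w ^ (a ^ 3) := by
    have hy1 : y ^ 3 = 1 := by rw [← hy3, pow_orderOf_eq_one]
    calc w = y ^ 3 * w * (y ^ 3)⁻¹ := by simp [hy1]
      _ = y * (y * (y * w * y⁻¹) * y⁻¹) * y⁻¹ := by simp [pow_succ, mul_assoc]
      _ = w ^ (a ^ 3) := by
        rw [ha, ← conj_pow, ha, ← pow_mul, ← conj_pow, ha, ← pow_mul]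
        ring_nf
  have hmod : a ^ 3 % 5 = 1 := by
    have h := pow_eq_pow_iff_modEq.1 ((pow_one w).trans h3)
    rw [hw5] at h
    exact h.symm
  rw [cube_five a ha5 hmod, pow_one, mul_inv_eq_iff_eq_mul] at ha
  exact ha

/-- The action on the seventeen Sylow `2`-subgroups is sharply triply transitive. -/
theorem exists_pgl [IsSimpleGroup G] (hG : Nat.card G = 4080) :
    ∃ (F : Type) (_ : Field F) (_ : Fintype F), Fintype.card F = 2 ^ 4 ∧
      Nonempty (G ≃* Matrix.ProjGenLinGroup (Fin 2) F) := by
  classical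
  haveI h17 : Fact (Nat.Prime 17) := ⟨by norm_num⟩
  haveI h2 : Fact (Nat.Prime 2) := ⟨Nat.prime_two⟩
  haveI h3 : Fact (Nat.Prime 3) := ⟨Nat.prime_three⟩
  haveI h5 : Fact (Nat.Prime 5) := ⟨by norm_num⟩
  have hN : Nat.card G = 17 * 240 := hG.trans (by norm_num)
  have hna := not_comm hG (by norm_num)
  obtain ⟨M, P, n, e, S, hM, hP, hC, hNe, hmem⟩ := mem_exceptions (p := 17) (m := 240)
    (exc := [(120, 2)]) (by norm_num) hN (by norm_num) (by norm_num) degCheck_4080
  obtain ⟨rfl, rfl⟩ : n = 120 ∧ e = 2 := by simpa using hmem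
  have hcC : Nat.card (Subgroup.centralizer ((P : Subgroup G) : Set G)) = 17 := by omega
  have hn17 : Nat.card (Sylow 17 G) = 120 := by
    have h : Nat.card (Subgroup.normalizer ((P : Subgroup G) : Set G)) * Nat.card (Sylow 17 G) =
        Nat.card G := SmallOrder.card_normalizer_mul_card_sylow P
    rw [hNe, hcC, hG] at h
    omega
  obtain ⟨t, c, ht, hc, hcmem, hcs, hall⟩ := exists_classData (q := 16) (k := 4) hna hM (by norm_num)
    hP hN (by norm_num) hcC (dvd_refl 2) two_pos (by norm_num) hNe (by norm_num) (by norm_num) S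
  have hc16 : c = 16 := cent_4080 c hcmem hcs
  have hconj : ∀ z : G, orderOf z = 2 → IsConj t z :=
    hall.resolve_right (by rw [z_4080]; exact Bool.false_ne_true)
  have hinv : ∀ z : G, orderOf z = 2 → Nat.card (Subgroup.centralizer ({z} : Set G)) = 16 := by
    intro z hz
    obtain ⟨s, rfl⟩ := isConj_iff.1 (hconj z hz)
    rw [card_isConj_centralizer, ← hc, hc16]
  have hcardinv : (Finset.univ.filter fun g : G => orderOf g = 2).card = 255 := by
    have h := CfsgLib.CharTheory.card_isConj_mul_card_centralizer t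
    rw [← hc, hc16, hG] at h
    rw [← Fintype.card_subtype, ← Nat.card_eq_fintype_card,
      show Nat.card {g : G // orderOf g = 2} = Nat.card {y : G // IsConj t y} from
        Nat.card_congr (Equiv.subtypeEquivRight fun y => ⟨hconj y, fun h => by
          obtain ⟨s, hs⟩ := isConj_iff.1 h
          rw [← hs, show s * t * s⁻¹ = MulAut.conj s t from rfl, MulEquiv.orderOf_eq, ht]⟩)]
    omega
  -- elements of order `17`
  have hP17 : ∀ Q : Sylow 17 G, Nat.card Q = 17 := fun Q =>
    Q.card_eq_multiplicity.trans (P.card_eq_multiplicity.symm.trans hP)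
  have hord17 : ∀ Q : Sylow 17 G, ∀ y ∈ (Q : Subgroup G), y ≠ 1 → orderOf y = 17 := fun Q y hy hy1 =>
    orderOf_eq (hP17 Q) hy hy1
  have h1920 : 1920 ≤ (Finset.univ.filter fun g : G => orderOf g = 17).card := by
    have := card_mul_le (k := 17) (A := Finset.univ.filter fun g : G => orderOf g = 17) hP17
      (fun Q R y hy hy' hy1 => Sylow.ext
        ((zpowers_eq (hP17 Q) hy hy1).symm.trans (zpowers_eq (hP17 R) hy' hy1)))
      (fun Q y hy hy1 => by simp [hord17 Q y hy hy1])
    rwa [hn17] at this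
  -- centralisers of elements of order `3` and `5`
  have hodd : ∀ (y : G) (r : ℕ), orderOf y = r → r = 3 ∨ r = 5 →
      Nat.card (Subgroup.centralizer ({y} : Set G)) ∈ [3, 5, 15] ∧
        r ∣ Nat.card (Subgroup.centralizer ({y} : Set G)) := by
    intro y r hy hr
    set d := Nat.card (Subgroup.centralizer ({y} : Set G)) with hd
    have hmemy : y ∈ Subgroup.centralizer ({y} : Set G) := Subgroup.mem_centralizer_singleton_iff.2 rfl
    have hrd : r ∣ d := hy ▸ Subgroup.orderOf_dvd_natCard _ hmemy
    have h4080 : d ∣ 4080 := hG ▸ Subgroup.card_subgroup_dvd_card _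
    have hd17 : ¬ 17 ∣ d := by
      intro h
      obtain ⟨w, hw⟩ := exists_prime_orderOf_dvd_card' 17 h
      have hwG : orderOf (w : G) = 17 := by rw [Subgroup.orderOf_coe, hw]
      obtain ⟨Q, hQ⟩ := (isPGroup_zpowers (p := 17) 1 (by rw [hwG, pow_one])).exists_le_sylow
      obtain ⟨s, hs⟩ := MulAction.exists_smul_eq G Q P
      have hwP : s * w * s⁻¹ ∈ (P : Subgroup G) := by
        rw [← hs]
        exact ⟨w, hQ (Subgroup.mem_zpowers _), rfl⟩
      have hw1 : s * w * s⁻¹ ≠ 1 := by
        rw [Ne, conj_eq_one_iff]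
        intro h1
        rw [h1, orderOf_one] at hwG
        omega
      have hyP : s * y * s⁻¹ ∈ (P : Subgroup G) := by
        refine mem_of_commute hP hcC hwP hw1 ?_
        rw [show s * y * s⁻¹ * (s * w * s⁻¹) = s * (y * w) * s⁻¹ by group,
          show s * w * s⁻¹ * (s * y * s⁻¹) = s * (w * y) * s⁻¹ by group,
          (Subgroup.mem_centralizer_singleton_iff.1 w.2 : (w : G) * y = y * w)]
      have hy1 : y ≠ 1 := fun h1 => by rw [h1, orderOf_one] at hy; omega
      have := hord17 P _ hyP (by rwa [Ne, conj_eq_one_iff])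
      rw [show s * y * s⁻¹ = MulAut.conj s y from rfl, MulEquiv.orderOf_eq, hy] at this
      omega
    have hd2 : ¬ 2 ∣ d := by
      intro h
      obtain ⟨z, hz⟩ := exists_prime_orderOf_dvd_card' 2 h
      have hzG : orderOf (z : G) = 2 := by rw [Subgroup.orderOf_coe, hz]
      have hmem : y ∈ Subgroup.centralizer ({(z : G)} : Set G) :=
        Subgroup.mem_centralizer_singleton_iff.2 (Subgroup.mem_centralizer_singleton_iff.1 z.2).symm
      have h8 := Subgroup.orderOf_dvd_natCard _ hmem
      rw [hinv _ hzG, hy] at h8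
      rcases hr with rfl | rfl <;> norm_num at h8
    have hlt := Nat.le_of_dvd (by norm_num) h4080
    have h := cent_cases d (by omega) h4080 hd17 hd2
    refine ⟨?_, hrd⟩
    have h1 : d ≠ 1 := fun h1 => by
      rw [h1, Nat.dvd_one] at hrd
      omega
    simp only [List.mem_cons, List.not_mem_nil, or_false] at h ⊢
    omega
  -- the Sylow `3`- and `5`-subgroups
  obtain ⟨M₃, Q₃, n₃, e₃, -, -, hQ₃, -, -, -, he₃, he₃2, hC₃, -, -, hNe₃⟩ :=
    exists_data (G := G) (p := 3) (m := 1360) (by norm_num) (hG.trans (by norm_num)) (by norm_num)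
      (by norm_num)
  obtain ⟨M₅, Q₅, n₅, e₅, -, -, hQ₅, -, -, -, he₅, he₅2, hC₅, -, -, hNe₅⟩ :=
    exists_data (G := G) (p := 5) (m := 816) (by norm_num) (hG.trans (by norm_num)) (by norm_num)
      (by norm_num)
  have he3 : e₃ = 2 := by
    have := Nat.le_of_dvd (by norm_num) he₃; omega
  have he5 : e₅ ≤ 4 := Nat.le_of_dvd (by norm_num) he₅
  have hP3 : ∀ Q : Sylow 3 G, Nat.card Q = 3 := fun Q =>
    Q.card_eq_multiplicity.trans (Q₃.card_eq_multiplicity.symm.trans hQ₃)
  have hP5 : ∀ Q : Sylow 5 G, Nat.card Q = 5 := fun Q =>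
    Q.card_eq_multiplicity.trans (Q₅.card_eq_multiplicity.symm.trans hQ₅)
  have hn3eq : Nat.card (Subgroup.normalizer ((Q₃ : Subgroup G) : Set G)) * Nat.card (Sylow 3 G) =
      4080 := hG ▸ SmallOrder.card_normalizer_mul_card_sylow Q₃
  have hn5eq : Nat.card (Subgroup.normalizer ((Q₅ : Subgroup G) : Set G)) * Nat.card (Sylow 5 G) =
      4080 := hG ▸ SmallOrder.card_normalizer_mul_card_sylow Q₅
  obtain ⟨y₃, hy₃, hy₃1⟩ : ∃ y ∈ (Q₃ : Subgroup G), y ≠ 1 :=
    ((Subgroup.bot_or_exists_ne_one (Q₃ : Subgroup G)).resolve_left fun hb => by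
      have h : Nat.card (Q₃ : Subgroup G) = 3 := hQ₃
      rw [hb, Subgroup.card_bot] at h
      omega)
  obtain ⟨y₅, hy₅, hy₅1⟩ : ∃ y ∈ (Q₅ : Subgroup G), y ≠ 1 :=
    ((Subgroup.bot_or_exists_ne_one (Q₅ : Subgroup G)).resolve_left fun hb => by
      have h : Nat.card (Q₅ : Subgroup G) = 5 := hQ₅
      rw [hb, Subgroup.card_bot] at h
      omega)
  have hc3 : Subgroup.centralizer ((Q₃ : Subgroup G) : Set G) = Subgroup.centralizer ({y₃} : Set G) := by
    rw [← zpowers_eq hQ₃ hy₃ hy₃1, Subgroup.zpowers_eq_closure, Subgroup.centralizer_closure]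
  have hc5 : Subgroup.centralizer ((Q₅ : Subgroup G) : Set G) = Subgroup.centralizer ({y₅} : Set G) := by
    rw [← zpowers_eq hQ₅ hy₅ hy₅1, Subgroup.zpowers_eq_closure, Subgroup.centralizer_closure]
  have ho3 := orderOf_eq hQ₃ hy₃ hy₃1
  have ho5 := orderOf_eq hQ₅ hy₅ hy₅1
  obtain ⟨hd3, hd3'⟩ := hodd y₃ 3 ho3 (Or.inl rfl)
  obtain ⟨hd5, hd5'⟩ := hodd y₅ 5 ho5 (Or.inr rfl)
  have hlow3 : Nat.card (Sylow 3 G) * 2 ≤ (Finset.univ.filter fun g : G => orderOf g = 3).card :=
    card_mul_le (k := 3) hP3 (fun Q R y hy hy' hy1 => Sylow.ext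
        ((zpowers_eq (hP3 Q) hy hy1).symm.trans (zpowers_eq (hP3 R) hy' hy1)))
      (fun Q y hy hy1 => by simp [orderOf_eq (hP3 Q) hy hy1])
  have hlow5 : Nat.card (Sylow 5 G) * 4 ≤ (Finset.univ.filter fun g : G => orderOf g = 5).card :=
    card_mul_le (k := 5) hP5 (fun Q R y hy hy' hy1 => Sylow.ext
        ((zpowers_eq (hP5 Q) hy hy1).symm.trans (zpowers_eq (hP5 R) hy' hy1)))
      (fun Q y hy hy1 => by simp [orderOf_eq (hP5 Q) hy hy1])
  have hsum : (Finset.univ.filter fun g : G => orderOf g = 3).card +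
      (Finset.univ.filter fun g : G => orderOf g = 5).card +
      (Finset.univ.filter fun g : G => orderOf g = 15).card +
      (Finset.univ.filter fun g : G => orderOf g = 17).card +
      (Finset.univ.filter fun g : G => orderOf g = 2).card + 1 ≤ 4080 ∧
      ((Finset.univ.filter fun g : G => orderOf g = 3).card +
      (Finset.univ.filter fun g : G => orderOf g = 5).card +
      (Finset.univ.filter fun g : G => orderOf g = 15).card +
      (Finset.univ.filter fun g : G => orderOf g = 17).card +
      (Finset.univ.filter fun g : G => orderOf g = 2).card + 1 = 4080 →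
        ∀ g : G, orderOf g ∈ ({3, 5, 15, 17, 2, 1} : Finset ℕ)) := by
    have hpair : (({3, 5, 15, 17, 2, 1} : Finset ℕ) : Set ℕ).PairwiseDisjoint
        fun k => Finset.univ.filter fun g : G => orderOf g = k := by
      intro a _ b _ hab
      refine Finset.disjoint_left.2 fun g hg hg' => hab ?_
      rw [Finset.mem_filter] at hg hg'
      exact hg.2.symm.trans hg'.2
    have h1 : (Finset.univ.filter fun g : G => orderOf g = 1).card = 1 := by
      rw [Finset.card_eq_one]
      exact ⟨1, by ext g; simp⟩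
    have heq : (({3, 5, 15, 17, 2, 1} : Finset ℕ).biUnion
        fun k => Finset.univ.filter fun g : G => orderOf g = k).card =
      (Finset.univ.filter fun g : G => orderOf g = 3).card +
      (Finset.univ.filter fun g : G => orderOf g = 5).card +
      (Finset.univ.filter fun g : G => orderOf g = 15).card +
      (Finset.univ.filter fun g : G => orderOf g = 17).card +
      (Finset.univ.filter fun g : G => orderOf g = 2).card + 1 := by
      rw [Finset.card_biUnion hpair]
      simp only [Finset.sum_insert, Finset.mem_insert, Finset.mem_singleton, Finset.sum_singleton,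
        Nat.reduceEqDiff, or_self, not_false_eq_true, h1]
      omega
    refine ⟨heq ▸ (Finset.card_le_univ _).trans (by rw [← Nat.card_eq_fintype_card, hG]),
      fun h g => ?_⟩
    have huniv : (({3, 5, 15, 17, 2, 1} : Finset ℕ).biUnion
        fun k => Finset.univ.filter fun g : G => orderOf g = k) = Finset.univ :=
      Finset.eq_univ_of_card _ (by rw [heq, h, ← Nat.card_eq_fintype_card, hG])
    have := Finset.eq_univ_iff_forall.1 huniv g
    rw [Finset.mem_biUnion] at this
    obtain ⟨k, hk, hgk⟩ := this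
    rw [Finset.mem_filter] at hgk
    rw [hgk.2]; exact hk
  obtain ⟨hsumle, hsumeq⟩ := hsum
  rw [hc3] at hNe₃
  rw [hc5] at hNe₅
  rw [he3] at hNe₃
  simp only [List.mem_cons, List.not_mem_nil, or_false] at hd3 hd5
  -- the centraliser of an element of order `3` has order `15`
  have hC3 : Nat.card (Subgroup.centralizer ({y₃} : Set G)) = 15 := by
    by_contra hne
    have h3' : Nat.card (Subgroup.centralizer ({y₃} : Set G)) = 3 := by omega
    have h5' : Nat.card (Subgroup.centralizer ({y₅} : Set G)) = 5 := by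
      by_contra hne5
      have h15 : Nat.card (Subgroup.centralizer ({y₅} : Set G)) = 15 := by omega
      obtain ⟨v, hv⟩ := exists_prime_orderOf_dvd_card' (G := Subgroup.centralizer ({y₅} : Set G)) 3
        (by rw [h15]; norm_num)
      have hvG : orderOf (v : G) = 3 := by rw [Subgroup.orderOf_coe, hv]
      obtain ⟨R, hR⟩ := (isPGroup_zpowers (p := 3) 1 (by rw [hvG, pow_one])).exists_le_sylow
      obtain ⟨s, hs⟩ := MulAction.exists_smul_eq G R Q₃
      have hvQ : s * v * s⁻¹ ∈ (Q₃ : Subgroup G) := by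
        rw [← hs]
        exact ⟨v, hR (Subgroup.mem_zpowers _), rfl⟩
      have hv1 : s * v * s⁻¹ ≠ 1 := by
        rw [Ne, conj_eq_one_iff]
        intro h1
        rw [h1, orderOf_one] at hvG
        omega
      have hcl : Subgroup.centralizer ({s * v * s⁻¹} : Set G) = Subgroup.centralizer ({y₃} : Set G) := by
        rw [← hc3, ← zpowers_eq hQ₃ hvQ hv1, Subgroup.zpowers_eq_closure, Subgroup.centralizer_closure]
      have h := card_isConj_centralizer (v : G) s
      rw [hcl, h3'] at h
      have hmem : y₅ ∈ Subgroup.centralizer ({(v : G)} : Set G) :=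
        Subgroup.mem_centralizer_singleton_iff.2 (Subgroup.mem_centralizer_singleton_iff.1 v.2).symm
      have h5d := Subgroup.orderOf_dvd_natCard _ hmem
      rw [← h, ho5] at h5d
      norm_num at h5d
    rw [h3'] at hNe₃
    rw [h5'] at hNe₅
    rw [hNe₃] at hn3eq
    rw [hNe₅] at hn5eq
    have : 5 * e₅ * Nat.card (Sylow 5 G) ≤ 20 * Nat.card (Sylow 5 G) :=
      Nat.mul_le_mul_right _ (by omega)
    omega
  rw [hC3] at hNe₃
  have hn3 : Nat.card (Sylow 3 G) = 136 := by rw [hNe₃] at hn3eq; omega
  have hcent3 : ∀ y : G, orderOf y = 3 → Nat.card (Subgroup.centralizer ({y} : Set G)) = 15 := by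
    intro y hy
    obtain ⟨R, hR⟩ := (isPGroup_zpowers (p := 3) 1 (by rw [hy, pow_one])).exists_le_sylow
    obtain ⟨s, hs⟩ := MulAction.exists_smul_eq G R Q₃
    have hyQ : s * y * s⁻¹ ∈ (Q₃ : Subgroup G) := by
      rw [← hs]
      exact ⟨y, hR (Subgroup.mem_zpowers _), rfl⟩
    have hy1 : s * y * s⁻¹ ≠ 1 := by
      rw [Ne, conj_eq_one_iff]
      intro h1
      rw [h1, orderOf_one] at hy
      omega
    rw [← card_isConj_centralizer y s,
      show Subgroup.centralizer ({s * y * s⁻¹} : Set G) = Subgroup.centralizer ({y₃} : Set G) by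
        rw [← hc3, ← zpowers_eq hQ₃ hyQ hy1, Subgroup.zpowers_eq_closure, Subgroup.centralizer_closure],
      hC3]
  have hcent5 : ∀ w : G, orderOf w = 5 → ∀ y : G, orderOf y = 3 → y * w = w * y →
      Subgroup.centralizer ({w} : Set G) = Subgroup.centralizer ({y} : Set G) := by
    intro w hw y hy hcomm
    obtain ⟨h, hdvd⟩ := hodd w 5 hw (Or.inr rfl)
    simp only [List.mem_cons, List.not_mem_nil, or_false] at h
    have hymem : y ∈ Subgroup.centralizer ({w} : Set G) :=
      Subgroup.mem_centralizer_singleton_iff.2 hcomm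
    have h3d := Subgroup.orderOf_dvd_natCard _ hymem
    rw [hy] at h3d
    refine Subgroup.eq_of_le_of_card_ge (fun g hg => ?_) (by rw [hcent3 y hy]; omega)
    have hD : Nat.card (Subgroup.centralizer ({w} : Set G)) = 15 := by omega
    refine Subgroup.mem_centralizer_singleton_iff.2 ?_
    by_contra hne
    have hyc : y * g ≠ g * y := fun h => hne h.symm
    have h15 : ∀ a : Subgroup.centralizer ({w} : Set G), (a : G) ^ 15 = 1 := fun a => by
      have := congrArg Subtype.val (pow_card_eq_one' (x := a))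
      rwa [hD, Subgroup.coe_pow, Subgroup.coe_one] at this
    have hg15 := h15 ⟨g, hg⟩
    simp only at hg15
    -- `g` is a product of elements of orders dividing `3` and `5`
    have hwmem : w ∈ Subgroup.centralizer ({w} : Set G) := Subgroup.mem_centralizer_singleton_iff.2 rfl
    have hsub : Subgroup.zpowers (y * w) = Subgroup.centralizer ({w} : Set G) := by
      refine Subgroup.eq_of_le_of_card_ge (Subgroup.zpowers_le.2 (mul_mem hymem hwmem)) ?_
      rw [hD, Nat.card_zpowers,
        (show Commute y w from hcomm).orderOf_mul_eq_mul_orderOf_of_coprime (by rw [hy, hw]; norm_num),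
        hy, hw]
    obtain ⟨k, rfl⟩ : g ∈ Subgroup.zpowers (y * w) := hsub.ge hg
    exact hne ((Commute.zpow_left ((Commute.refl y).mul_left (show Commute w y from hcomm.symm)) k).eq)
  have hexw : ∀ y : G, orderOf y = 3 → ∃ w : G, orderOf w = 5 ∧ y * w = w * y := by
    intro y hy
    obtain ⟨w, hw⟩ := exists_prime_orderOf_dvd_card' (G := Subgroup.centralizer ({y} : Set G)) 5
      (by rw [hcent3 y hy]; norm_num)
    exact ⟨w, by rw [Subgroup.orderOf_coe, hw], (Subgroup.mem_centralizer_singleton_iff.1 w.2).symm⟩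
  have hcyc : ∀ y : G, orderOf y = 3 → ∀ g ∈ Subgroup.centralizer ({y} : Set G),
      ∀ y' : G, orderOf y' = 3 → y' ∈ Subgroup.centralizer ({y} : Set G) → y' ∈ Subgroup.zpowers y := by
    intro y hy g hg y' hy' hy'C
    obtain ⟨w, hw, hcomm⟩ := hexw y hy
    have hymem : y ∈ Subgroup.centralizer ({y} : Set G) := Subgroup.mem_centralizer_singleton_iff.2 rfl
    have hwmem : w ∈ Subgroup.centralizer ({y} : Set G) := Subgroup.mem_centralizer_singleton_iff.2 hcomm.symm
    have hsub : Subgroup.zpowers (y * w) = Subgroup.centralizer ({y} : Set G) := by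
      refine Subgroup.eq_of_le_of_card_ge (Subgroup.zpowers_le.2 (mul_mem hymem hwmem)) ?_
      rw [hcent3 y hy, Nat.card_zpowers,
        (show Commute y w from hcomm).orderOf_mul_eq_mul_orderOf_of_coprime (by rw [hy, hw]; norm_num),
        hy, hw]
    obtain ⟨k, rfl⟩ : y' ∈ Subgroup.zpowers (y * w) := hsub.ge hy'C
    have h3 : (y * w) ^ (k * 3) = 1 := by
      rw [zpow_mul, show ((3 : ℤ)) = ((3 : ℕ) : ℤ) from rfl, zpow_natCast, ← hy', pow_orderOf_eq_one]
    have h15 : ((15 : ℕ) : ℤ) ∣ k * 3 := by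
      have := orderOf_dvd_iff_zpow_eq_one.2 h3
      rwa [(show Commute y w from hcomm).orderOf_mul_eq_mul_orderOf_of_coprime
        (by rw [hy, hw]; norm_num), hy, hw] at this
    obtain ⟨j, rfl⟩ : (5 : ℤ) ∣ k := by omega
    refine ⟨5 * j, ?_⟩
    show y ^ (5 * j) = (y * w) ^ (5 * j)
    rw [(show Commute y w from hcomm).mul_zpow, zpow_mul w, show ((5 : ℤ)) = ((5 : ℕ) : ℤ) from rfl,
      zpow_natCast w, ← hw, pow_orderOf_eq_one, one_zpow, mul_one]
  have hn5 : 136 ≤ Nat.card (Sylow 5 G) := by
    have hex : ∀ Q : Sylow 3 G, ∃ W : Sylow 5 G, ∀ y ∈ (Q : Subgroup G), ∀ w ∈ (W : Subgroup G),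
        y * w = w * y := by
      intro Q
      obtain ⟨y, hy, hy1⟩ : ∃ y ∈ (Q : Subgroup G), y ≠ 1 :=
        ((Subgroup.bot_or_exists_ne_one (Q : Subgroup G)).resolve_left fun hb => by
          have h : Nat.card (Q : Subgroup G) = 3 := hP3 Q
          rw [hb, Subgroup.card_bot] at h
          omega)
      obtain ⟨w, hw, hcomm⟩ := hexw y (orderOf_eq (hP3 Q) hy hy1)
      obtain ⟨W, hW⟩ := (isPGroup_zpowers (p := 5) 1 (by rw [hw, pow_one])).exists_le_sylow
      have hWeq : Subgroup.zpowers w = (W : Subgroup G) :=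
        Subgroup.eq_of_le_of_card_ge hW (by rw [Nat.card_zpowers, hw]; exact (hP5 W).le)
      refine ⟨W, fun a ha b hb => ?_⟩
      obtain ⟨i, rfl⟩ := (zpowers_eq (hP3 Q) hy hy1).ge ha
      obtain ⟨j, rfl⟩ := hWeq.ge hb
      exact ((show Commute y w from hcomm).zpow_zpow i j).eq
    choose f hf using hex
    rw [← hn3]
    refine Nat.card_le_card_of_injective f fun Q R hQR => ?_
    obtain ⟨y, hy, hy1⟩ : ∃ y ∈ (Q : Subgroup G), y ≠ 1 :=
      ((Subgroup.bot_or_exists_ne_one (Q : Subgroup G)).resolve_left fun hb => by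
        have h : Nat.card (Q : Subgroup G) = 3 := hP3 Q
        rw [hb, Subgroup.card_bot] at h
        omega)
    obtain ⟨y', hy', hy1'⟩ : ∃ y ∈ (R : Subgroup G), y ≠ 1 :=
      ((Subgroup.bot_or_exists_ne_one (R : Subgroup G)).resolve_left fun hb => by
        have h : Nat.card (R : Subgroup G) = 3 := hP3 R
        rw [hb, Subgroup.card_bot] at h
        omega)
    obtain ⟨w, hw, hw1⟩ : ∃ w ∈ (f Q : Subgroup G), w ≠ 1 :=
      ((Subgroup.bot_or_exists_ne_one (f Q : Subgroup G)).resolve_left fun hb => by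
        have h : Nat.card (f Q : Subgroup G) = 5 := hP5 _
        rw [hb, Subgroup.card_bot] at h
        omega)
    have hoy := orderOf_eq (hP3 Q) hy hy1
    have hoy' := orderOf_eq (hP3 R) hy' hy1'
    have hwo := orderOf_eq (hP5 (f Q)) hw hw1
    have hmem' : y' ∈ Subgroup.centralizer ({y} : Set G) := by
      rw [← hcent5 w hwo y hoy (hf Q y hy w hw)]
      exact Subgroup.mem_centralizer_singleton_iff.2 (hf R y' hy' w (hQR ▸ hw))
    refine Sylow.ext ?_
    rw [← zpowers_eq (hP3 R) hy' hy1', ← zpowers_eq (hP3 Q) hy hy1]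
    exact (Subgroup.eq_of_le_of_card_ge (Subgroup.zpowers_le.2 (hcyc y hoy y
      (Subgroup.mem_centralizer_singleton_iff.2 rfl) y' hoy' hmem'))
      (by rw [Nat.card_zpowers, Nat.card_zpowers, hoy, hoy'])).symm
  -- counting elements of order `15`
  have h1088 : 1088 ≤ (Finset.univ.filter fun g : G => orderOf g = 15).card := by
    have h272 : 272 ≤ (Finset.univ.filter fun g : G => orderOf g = 3).card := by omega
    choose W hW hWc using hexw
    let A := (Finset.univ.filter fun g : G => orderOf g = 3).attach ×ˢ ({1, 2, 3, 4} : Finset ℕ)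
    let F : {g // g ∈ Finset.univ.filter fun g : G => orderOf g = 3} × ℕ → G := fun q =>
      q.1.1 * W q.1.1 (Finset.mem_filter.1 q.1.2).2 ^ q.2
    refine le_trans ?_ (Finset.card_le_card_of_injOn F (s := A) ?_ ?_)
    · rw [Finset.card_product, Finset.card_attach, show ({1, 2, 3, 4} : Finset ℕ).card = 4 from rfl]
      omega
    · intro q hq
      rw [Finset.mem_coe, Finset.mem_product] at hq
      have hy := (Finset.mem_filter.1 q.1.2).2
      simp only [Finset.coe_filter, Set.mem_setOf_eq, Finset.mem_univ, true_and, F]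
      have hcop : Nat.Coprime 5 q.2 := by
        have hq2 := hq.2
        simp only [Finset.mem_insert, Finset.mem_singleton] at hq2
        rcases hq2 with h | h | h | h <;> rw [h] <;> norm_num
      have hwq : orderOf (W q.1.1 hy ^ q.2) = 5 := by
        rw [Nat.Coprime.orderOf_pow (by rw [hW]; exact hcop), hW]
      rw [((show Commute q.1.1 (W q.1.1 hy) from hWc _ hy).pow_right q.2).orderOf_mul_eq_mul_orderOf_of_coprime
        (by rw [hy, hwq]; norm_num), hy, hwq]
    · intro q hq r hr hqr
      simp only [F] at hqr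
      have hy := (Finset.mem_filter.1 q.1.2).2
      have hy' := (Finset.mem_filter.1 r.1.2).2
      have key : ∀ (y : G) (h : orderOf y = 3) (i : ℕ), (y * W y h ^ i) ^ 10 = y := by
        intro y h i
        rw [((show Commute y (W y h) from hWc y h).pow_right i).mul_pow, ← pow_mul,
          show i * 10 = orderOf (W y h) * (2 * i) by rw [hW]; ring, pow_mul, pow_orderOf_eq_one,
          one_pow, mul_one, show y ^ 10 = (y ^ orderOf y) ^ 3 * y by rw [h]; group,
          pow_orderOf_eq_one, one_pow, one_mul]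
      have h1 : q.1.1 = r.1.1 := by
        rw [← key q.1.1 hy q.2, ← key r.1.1 hy' r.2, hqr]
      have h1' : q.1 = r.1 := Subtype.ext h1
      rw [← h1'] at hqr
      have h2 := mul_left_cancel hqr
      have h3 := pow_eq_pow_iff_modEq.1 h2
      rw [hW] at h3
      rw [Finset.mem_coe, Finset.mem_product] at hq hr
      have hq2 := hq.2
      have hr2 := hr.2
      simp only [Finset.mem_insert, Finset.mem_singleton] at hq2 hr2
      refine Prod.ext h1' ?_
      have h4 : q.2 % 5 = r.2 % 5 := h3
      omega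
  have horders : ∀ g : G, orderOf g ∈ ({3, 5, 15, 17, 2, 1} : Finset ℕ) := hsumeq (by omega)
  -- Sylow `2`-subgroups
  have hP2 : ∀ T : Sylow 2 G, Nat.card T = 16 := fun T =>
    SmallOrder.card_sylow_eq (k := 4) T (by rw [hG]; norm_num) (by rw [hG]; norm_num)
  have hexp : ∀ T : Sylow 2 G, ∀ y ∈ (T : Subgroup G), y ≠ 1 → orderOf y = 2 := by
    intro T y hy hy1
    have hd := Subgroup.orderOf_dvd_natCard _ hy
    rw [show Nat.card (T : Subgroup G) = 16 from hP2 T] at hd
    have h := horders y
    simp only [Finset.mem_insert, Finset.mem_singleton] at h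
    rcases h with h | h | h | h | h | h
    · rw [h] at hd; norm_num at hd
    · rw [h] at hd; norm_num at hd
    · rw [h] at hd; norm_num at hd
    · rw [h] at hd; norm_num at hd
    · exact h
    · exact absurd (orderOf_eq_one_iff.1 h) hy1
  have hC2 : ∀ T : Sylow 2 G, ∀ y ∈ (T : Subgroup G), y ≠ 1 →
      (T : Subgroup G) = Subgroup.centralizer ({y} : Set G) := by
    intro T y hy hy1
    have hsq : ∀ a ∈ (T : Subgroup G), a * a = 1 := fun a ha => by
      by_cases ha1 : a = 1
      · rw [ha1, mul_one]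
      · have h' := pow_orderOf_eq_one a
        rwa [hexp T a ha ha1, sq] at h'
    refine Subgroup.eq_of_le_of_card_ge (fun g hg => Subgroup.mem_centralizer_singleton_iff.2 ?_) ?_
    · calc g * y = (g * y)⁻¹ := (inv_eq_of_mul_eq_one_right (hsq _ (mul_mem hg hy))).symm
        _ = y * g := by
          rw [mul_inv_rev, inv_eq_of_mul_eq_one_right (hsq y hy), inv_eq_of_mul_eq_one_right (hsq g hg)]
    · rw [hinv y (hexp T y hy hy1)]; exact (hP2 T).ge
  have hTI2 : ∀ Q R : Sylow 2 G, ∀ y ∈ (Q : Subgroup G), y ∈ (R : Subgroup G) → y ≠ 1 → Q = R :=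
    fun Q R y hy hy' hy1 => Sylow.ext ((hC2 Q y hy hy1).trans (hC2 R y hy' hy1).symm)
  haveI : Fintype (Sylow 2 G) := Fintype.ofFinite _
  have hn2 : Nat.card (Sylow 2 G) = 17 := by
    have hup := card_mul_le (k := 16) (A := Finset.univ.filter fun g : G => orderOf g = 2) hP2 hTI2
      (fun Q y hy hy1 => by simp [hexp Q y hy hy1])
    rw [hcardinv] at hup
    have hlo : 255 ≤ Nat.card (Sylow 2 G) * 15 := by
      rw [← hcardinv]
      refine le_trans (Finset.card_le_card (t := Finset.univ.biUnion fun Q : Sylow 2 G =>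
        Finset.univ.filter fun y : G => y ∈ (Q : Subgroup G) ∧ y ≠ 1) fun g hg => ?_)
        (le_trans (Finset.card_biUnion_le) ?_)
      · rw [Finset.mem_filter] at hg
        obtain ⟨Q, hQ⟩ := (isPGroup_zpowers (p := 2) 1 (by rw [hg.2, pow_one])).exists_le_sylow
        rw [Finset.mem_biUnion]
        refine ⟨Q, Finset.mem_univ _, ?_⟩
        simp only [Finset.mem_filter, Finset.mem_univ, true_and]
        refine ⟨hQ (Subgroup.mem_zpowers g), fun h => ?_⟩
        have h2' := hg.2
        rw [h, orderOf_one] at h2'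
        omega
      · rw [Finset.sum_congr rfl fun Q _ => show _ = 15 by
          rw [show (Finset.univ.filter fun y : G => y ∈ (Q : Subgroup G) ∧ y ≠ 1) =
              (Finset.univ.filter fun y : G => y ∈ (Q : Subgroup G)).erase 1 by
                ext y; simp [and_comm],
            Finset.card_erase_of_mem (by simp), ← Fintype.card_subtype, ← Nat.card_eq_fintype_card,
            show Nat.card {y : G // y ∈ (Q : Subgroup G)} = 16 from hP2 Q],
          Finset.sum_const, Finset.card_univ, smul_eq_mul, Nat.card_eq_fintype_card]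
    omega
  have hcardΩ : Fintype.card (Sylow 2 G) = 17 := by rw [← Nat.card_eq_fintype_card, hn2]
  let φ := MulAction.toPermHom G (Sylow 2 G)
  have hφ : Function.Injective φ := by
    rw [← MonoidHom.ker_eq_bot_iff]
    refine ((inferInstance : φ.ker.Normal).eq_bot_or_eq_top).resolve_right fun htop => ?_
    have hone : Nat.card (Sylow 2 G) ≤ 1 := Finite.card_le_one_iff_subsingleton.2 ⟨fun A B => by
      obtain ⟨g, rfl⟩ := MulAction.exists_smul_eq G A B
      exact (DFunLike.congr_fun (MonoidHom.mem_ker.1 (htop ▸ Subgroup.mem_top g : g ∈ φ.ker)) A).symm⟩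
    omega
  -- a Sylow `2`-subgroup is regular on the other points
  have hreg : ∀ A B C : Sylow 2 G, B ≠ A → C ≠ A → ∃ g : G, g • A = A ∧ g • B = C := by
    intro A B C hB hC'
    let ι : ↥(A : Subgroup G) → {D : Sylow 2 G // D ≠ A} := fun a => ⟨(a : G) • B, fun h => hB (by
      have hA : (a : G) • A = A :=
        Sylow.smul_eq_iff_mem_normalizer.2 (Subgroup.le_normalizer a.2)
      exact (smul_left_cancel_iff (a : G)).1 (h.trans hA.symm))⟩
    have hbij : Function.Bijective ι := by
      refine (Nat.bijective_iff_injective_and_card _).2 ⟨fun a b hab => ?_, ?_⟩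
      · by_contra hne
        have hfix : ((b⁻¹ * a : (A : Subgroup G)) : G) • B = B := by
          rw [Subgroup.coe_mul, Subgroup.coe_inv, mul_smul,
            show (a : G) • B = (b : G) • B from congrArg Subtype.val hab, inv_smul_smul]
        have hne1 : ((b⁻¹ * a : (A : Subgroup G)) : G) ≠ 1 := fun h =>
          hne (inv_mul_eq_one.1 (Subtype.ext h)).symm
        have ho := hexp A _ (b⁻¹ * a).2 hne1
        exact hB (hTI2 B A _ (mem_of_smul_eq (isPGroup_zpowers 1 (by rw [ho, pow_one])) hfix)
          (b⁻¹ * a).2 hne1)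
      · rw [show Nat.card (A : Subgroup G) = 16 from hP2 A, Nat.card_eq_fintype_card,
          Fintype.card_subtype_compl, hcardΩ, Fintype.card_subtype_eq]
    obtain ⟨a, ha⟩ := hbij.2 ⟨C, hC'⟩
    exact ⟨a, Sylow.smul_eq_iff_mem_normalizer.2 (Subgroup.le_normalizer a.2), congrArg Subtype.val ha⟩
  have h2trans : ∀ A B A' B' : Sylow 2 G, A ≠ B → A' ≠ B' → ∃ g : G, g • A = A' ∧ g • B = B' := by
    intro A B A' B' hAB hAB'
    obtain ⟨g, hg⟩ := MulAction.exists_smul_eq G A A'
    have hne : g • B ≠ A' := fun h => hAB ((smul_left_cancel_iff g).1 (hg.trans h.symm))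
    obtain ⟨a, ha, ha'⟩ := hreg A' (g • B) B' hne hAB'.symm
    exact ⟨a * g, by rw [mul_smul, hg, ha], by rw [mul_smul, ha']⟩
  -- two-point stabilisers are the centralisers of elements of order `3`
  have hstab : ∀ A B : Sylow 2 G, A ≠ B →
      Nat.card (MulAction.stabilizer G A ⊓ MulAction.stabilizer G B : Subgroup G) = 15 := by
    intro A B hAB
    set H := MulAction.stabilizer G A with hH
    have hcN : Nat.card H = 240 := by
      have h : Nat.card (Subgroup.normalizer ((A : Subgroup G) : Set G)) * Nat.card (Sylow 2 G) =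
          Nat.card G := SmallOrder.card_normalizer_mul_card_sylow A
      rw [hn2, hG] at h
      have h' : Nat.card (Subgroup.normalizer ((A : Subgroup G) : Set G)) = 240 := by omega
      rw [hH, Sylow.stabilizer_eq_normalizer]
      exact h'
    have horb : MulAction.orbit H B = {C | C ≠ A} := by
      ext C
      constructor
      · rintro ⟨g, rfl⟩ h
        exact hAB ((smul_left_cancel_iff (g : G)).1
          ((mem_stabilizer_iff.1 g.2).trans (show A = (g : G) • B from h.symm)))
      · intro hC'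
        obtain ⟨g, hg, hg'⟩ := hreg A B C hAB.symm hC'
        exact ⟨⟨g, hg⟩, hg'⟩
    have h := MulAction.card_orbit_mul_card_stabilizer_eq_card_group H B
    rw [← Nat.card_eq_fintype_card, ← Nat.card_eq_fintype_card, ← Nat.card_eq_fintype_card, horb,
      hcN, Nat.card_eq_fintype_card,
      show Fintype.card ↥({C | C ≠ A} : Set (Sylow 2 G)) = 16 by
        rw [← Nat.card_eq_fintype_card]
        show Nat.card {C : Sylow 2 G // C ≠ A} = 16
        rw [Nat.card_eq_fintype_card, Fintype.card_subtype_compl, hcardΩ, Fintype.card_subtype_eq]] at h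
    have e : Nat.card (H ⊓ MulAction.stabilizer G B : Subgroup G) =
        Nat.card (MulAction.stabilizer H B) :=
      Nat.card_congr
        { toFun := fun g => ⟨⟨g.1, g.2.1⟩, g.2.2⟩
          invFun := fun g => ⟨g.1.1, g.1.2, g.2⟩
          left_inv := fun g => rfl
          right_inv := fun g => rfl }
    rw [e]
    omega
  have hDC : ∀ A B : Sylow 2 G, A ≠ B → ∀ y : G, orderOf y = 3 → y • A = A → y • B = B →
      (MulAction.stabilizer G A ⊓ MulAction.stabilizer G B : Subgroup G) =
        Subgroup.centralizer ({y} : Set G) := by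
    intro A B hAB y hy hA hB
    set D := (MulAction.stabilizer G A ⊓ MulAction.stabilizer G B : Subgroup G) with hD
    have hcD : Nat.card D = 15 := hstab A B hAB
    have hyD : y ∈ D := ⟨hA, hB⟩
    obtain ⟨w, hw⟩ := exists_prime_orderOf_dvd_card' (G := D) 5 (by rw [hcD]; norm_num)
    have hwo : orderOf (w : G) = 5 := by rw [Subgroup.orderOf_coe, hw]
    have hcomm := commute_of_card_fifteen hcD hyD w.2 hy hwo
    have hsub : Subgroup.zpowers (y * w) = D := by
      refine Subgroup.eq_of_le_of_card_ge (Subgroup.zpowers_le.2 (mul_mem hyD w.2)) ?_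
      rw [hcD, Nat.card_zpowers,
        (show Commute y w from hcomm).orderOf_mul_eq_mul_orderOf_of_coprime (by rw [hy, hwo]; norm_num),
        hy, hwo]
    refine Subgroup.eq_of_le_of_card_ge ?_ (by rw [hcent3 y hy, hcD])
    rw [← hsub, Subgroup.zpowers_le, Subgroup.mem_centralizer_singleton_iff, mul_assoc, ← hcomm]
  have hfix2 : ∀ (y : G), orderOf y = 3 → ∀ A B C : Sylow 2 G, A ≠ B → A ≠ C → B ≠ C →
      y • A = A → y • B = B → y • C = C → False := by
    intro y hy A B C hAB hAC hBC hA hB hC'
    set D := Subgroup.centralizer ({y} : Set G) with hD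
    set N := Subgroup.normalizer ((Subgroup.zpowers y : Subgroup G) : Set G) with hNdef
    obtain ⟨R, hR⟩ := (isPGroup_zpowers (p := 3) 1 (by rw [hy, pow_one])).exists_le_sylow
    have hRz : Subgroup.zpowers y = (R : Subgroup G) :=
      Subgroup.eq_of_le_of_card_ge hR (by rw [Nat.card_zpowers, hy]; exact (hP3 R).le)
    have hcN : Nat.card N = 30 := by
      have h : Nat.card (Subgroup.normalizer ((R : Subgroup G) : Set G)) * Nat.card (Sylow 3 G) =
          Nat.card G := SmallOrder.card_normalizer_mul_card_sylow R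
      rw [hn3, hG, ← hRz] at h
      rw [hNdef]
      omega
    -- the images of `(A, B)` under `N`
    let f : N → Sylow 2 G × Sylow 2 G := fun g => ((g : G) • A, (g : G) • B)
    have hfib : ∀ g : N, ∀ d ∈ D, ∀ h : (g : G) * d ∈ N, f ⟨(g : G) * d, h⟩ = f g := by
      intro g d hd h
      have hd' : d ∈ (MulAction.stabilizer G A ⊓ MulAction.stabilizer G B : Subgroup G) :=
        (hDC A B hAB y hy hA hB).ge hd
      simp only [f, mul_smul, mem_stabilizer_iff.1 hd'.1, mem_stabilizer_iff.1 hd'.2]
    have hDN : D ≤ N := by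
      intro d hd
      refine Subgroup.centralizer_le_normalizer _ ?_
      rw [Subgroup.mem_centralizer_iff]
      rintro _ ⟨k, rfl⟩
      exact ((show Commute d y from Subgroup.mem_centralizer_singleton_iff.1 hd).zpow_right k).symm.eq
    have hpairs : ∀ A' B' : Sylow 2 G, A' ≠ B' → y • A' = A' → y • B' = B' →
        ∃ g : N, f g = (A', B') := by
      intro A' B' hAB' hA' hB'
      obtain ⟨g, hgA, hgB⟩ := h2trans A B A' B' hAB hAB'
      refine ⟨⟨g, ?_⟩, by simp only [f, hgA, hgB]⟩
      have hmemD : g * y * g⁻¹ ∈ Subgroup.centralizer ({y} : Set G) := by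
        rw [← hDC A' B' hAB' y hy hA' hB']
        refine ⟨mem_stabilizer_iff.2 ?_, mem_stabilizer_iff.2 ?_⟩
        · rw [mul_smul, mul_smul, ← hgA, inv_smul_smul, hA]
        · rw [mul_smul, mul_smul, ← hgB, inv_smul_smul, hB]
      have ho : orderOf (g * y * g⁻¹) = 3 := by
        rw [show g * y * g⁻¹ = MulAut.conj g y from rfl, MulEquiv.orderOf_eq, hy]
      have hmemz := hcyc y hy y (Subgroup.mem_centralizer_singleton_iff.2 rfl) _ ho hmemD
      have hmap : (Subgroup.zpowers y).map (MulAut.conj g).toMonoidHom = Subgroup.zpowers y := by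
        rw [MonoidHom.map_zpowers]
        exact Subgroup.eq_of_le_of_card_ge (Subgroup.zpowers_le.2 hmemz)
          (by rw [Nat.card_zpowers, Nat.card_zpowers, hy]; exact ho.ge)
      rw [hNdef, Subgroup.mem_normalizer_iff]
      intro z
      constructor
      · intro hz
        have hz' : g * z * g⁻¹ ∈ (Subgroup.zpowers y).map (MulAut.conj g).toMonoidHom := ⟨z, hz, rfl⟩
        exact hmap.le hz'
      · intro hz
        obtain ⟨z', hz', he⟩ := hmap.ge hz
        have e' : z' = z := mul_left_cancel (mul_right_cancel (show g * z' * g⁻¹ = g * z * g⁻¹ from he))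
        exact e' ▸ hz'
    have himg : (Finset.univ.image f).card * 15 ≤ 30 := by
      rw [← hcN, Nat.card_eq_fintype_card, ← Finset.card_univ, mul_comm]
      refine Finset.mul_card_image_le_card (f := f) Finset.univ 15 fun b hb => ?_
      obtain ⟨g, -, rfl⟩ := Finset.mem_image.1 hb
      rw [← hcent3 y hy, ← Fintype.card_subtype, ← Nat.card_eq_fintype_card]
      exact Nat.card_le_card_of_injective
        (fun d : D => (⟨⟨(g : G) * d, mul_mem g.2 (hDN d.2)⟩, hfib g d d.2 _⟩ :
          {x : N // f x = f g}))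
        (fun d d' h => Subtype.ext (mul_left_cancel (congrArg (fun x : {x : N // f x = f g} => ((x : N) : G)) h)))
    have h3 : ({(A, B), (A, C), (B, A)} : Finset (Sylow 2 G × Sylow 2 G)) ⊆ Finset.univ.image f := by
      intro q hq
      simp only [Finset.mem_insert, Finset.mem_singleton] at hq
      rw [Finset.mem_image]
      rcases hq with rfl | rfl | rfl
      · obtain ⟨g, hg⟩ := hpairs A B hAB hA hB; exact ⟨g, Finset.mem_univ _, hg⟩
      · obtain ⟨g, hg⟩ := hpairs A C hAC hA hC'; exact ⟨g, Finset.mem_univ _, hg⟩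
      · obtain ⟨g, hg⟩ := hpairs B A hAB.symm hB hA; exact ⟨g, Finset.mem_univ _, hg⟩
    have := Finset.card_le_card h3
    rw [Finset.card_insert_of_notMem (by simp [hBC, hAB]), Finset.card_pair (by simp [hAB])] at this
    omega
  have hfree : ∀ (g : G) (A B C : Sylow 2 G), A ≠ B → A ≠ C → B ≠ C → g • A = A → g • B = B →
      g • C = C → g = 1 := by
    intro g A B C hAB hAC hBC hA hB hC'
    by_contra hg1
    set D := (MulAction.stabilizer G A ⊓ MulAction.stabilizer G B : Subgroup G) with hD
    obtain ⟨y, hy⟩ := exists_prime_orderOf_dvd_card' (G := D) 3 (by rw [hstab A B hAB]; norm_num)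
    have hyo : orderOf (y : G) = 3 := by rw [Subgroup.orderOf_coe, hy]
    obtain ⟨y', hy'⟩ := exists_prime_orderOf_dvd_card'
      (G := (MulAction.stabilizer G A ⊓ MulAction.stabilizer G C : Subgroup G)) 3
      (by rw [hstab A C hAC]; norm_num)
    have hyo' : orderOf (y' : G) = 3 := by rw [Subgroup.orderOf_coe, hy']
    have e1 := hDC A B hAB y hyo y.2.1 y.2.2
    have e2 := hDC A C hAC y' hyo' y'.2.1 y'.2.2
    have hgy : g * y = y * g :=
      Subgroup.mem_centralizer_singleton_iff.1 (e1.le ⟨hA, hB⟩)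
    have hgy' : g * y' = y' * g :=
      Subgroup.mem_centralizer_singleton_iff.1 (e2.le ⟨hA, hC'⟩)
    have ho : orderOf g ∣ 15 := by
      have := Subgroup.orderOf_dvd_natCard D (show g ∈ D from ⟨hA, hB⟩)
      rwa [hstab A B hAB] at this
    have key : Subgroup.centralizer ({(y : G)} : Set G) = Subgroup.centralizer ({(y' : G)} : Set G) := by
      by_cases h5 : g ^ 5 = 1
      · have hg5 : orderOf g = 5 := orderOf_eq_prime h5 hg1
        rw [← hcent5 g hg5 y hyo hgy.symm, hcent5 g hg5 y' hyo' hgy'.symm]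
      · have hg3 : orderOf (g ^ 5) = 3 := by
          refine orderOf_eq_prime ?_ h5
          rw [← pow_mul]
          exact orderOf_dvd_iff_pow_eq_one.1 ho
        have c1 : Subgroup.centralizer ({(y : G)} : Set G) = Subgroup.centralizer ({g ^ 5} : Set G) := by
          obtain ⟨w, hw, hcomm⟩ := hexw y hyo
          have hgC : g ^ 5 ∈ Subgroup.centralizer ({(y : G)} : Set G) :=
            pow_mem (Subgroup.mem_centralizer_singleton_iff.2 hgy) 5
          have hz := hcyc y hyo y (Subgroup.mem_centralizer_singleton_iff.2 rfl) _ hg3 hgC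
          have e : Subgroup.zpowers (g ^ 5) = Subgroup.zpowers (y : G) :=
            Subgroup.eq_of_le_of_card_ge (Subgroup.zpowers_le.2 hz)
              (by rw [Nat.card_zpowers, Nat.card_zpowers, hyo, hg3])
          rw [← Subgroup.centralizer_closure, ← Subgroup.zpowers_eq_closure, ← e,
            Subgroup.zpowers_eq_closure, Subgroup.centralizer_closure]
        have c2 : Subgroup.centralizer ({(y' : G)} : Set G) = Subgroup.centralizer ({g ^ 5} : Set G) := by
          have hgC : g ^ 5 ∈ Subgroup.centralizer ({(y' : G)} : Set G) :=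
            pow_mem (Subgroup.mem_centralizer_singleton_iff.2 hgy') 5
          have hz := hcyc y' hyo' y' (Subgroup.mem_centralizer_singleton_iff.2 rfl) _ hg3 hgC
          have e : Subgroup.zpowers (g ^ 5) = Subgroup.zpowers (y' : G) :=
            Subgroup.eq_of_le_of_card_ge (Subgroup.zpowers_le.2 hz)
              (by rw [Nat.card_zpowers, Nat.card_zpowers, hyo', hg3])
          rw [← Subgroup.centralizer_closure, ← Subgroup.zpowers_eq_closure, ← e,
            Subgroup.zpowers_eq_closure, Subgroup.centralizer_closure]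
        rw [c1, c2]
    have hyC : (y : G) • C = C :=
      mem_stabilizer_iff.1 (e2.ge (key.le (Subgroup.mem_centralizer_singleton_iff.2 rfl))).2
    exact hfix2 y hyo A B C hAB hAC hBC y.2.1 y.2.2 hyC
  have hsharp : ∀ (g : G) (x : Fin 3 ↪ Sylow 2 G), g • x = x → g = 1 := fun g x hgx =>
    hfree g (x 0) (x 1) (x 2) (fun h => by simpa using x.injective h)
      (fun h => by simpa using x.injective h) (fun h => by simpa using x.injective h)
      (DFunLike.congr_fun hgx 0) (DFunLike.congr_fun hgx 1) (DFunLike.congr_fun hgx 2)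
  have hsmul : ∀ (g : G) (x : Fin 3 ↪ Sylow 2 G),
      (⟨φ g, g, rfl⟩ : φ.range) • x = g • x := fun g x => by ext i; rfl
  haveI h3' : MulAction.IsMultiplyPretransitive φ.range (Sylow 2 G) 3 := by
    refine ⟨fun x y => ?_⟩
    have hbij : Function.Bijective (fun g : G => g • x) := by
      refine (Nat.bijective_iff_injective_and_card _).2 ⟨fun a b hab => ?_, ?_⟩
      · have := hsharp (b⁻¹ * a) x (by rw [mul_smul, show a • x = b • x from hab, inv_smul_smul])
        exact (inv_mul_eq_one.1 this).symm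
      · rw [hG, Nat.card_eq_fintype_card, Fintype.card_embedding_eq, hcardΩ, Fintype.card_fin]
        decide
    obtain ⟨g, hg⟩ := hbij.2 y
    exact ⟨⟨φ g, g, rfl⟩, (hsmul g x).trans hg⟩
  have hst : ∀ x : Fin 3 ↪ Sylow 2 G, MulAction.stabilizer φ.range x = ⊥ := by
    intro x
    rw [eq_bot_iff]
    rintro ⟨_, g, rfl⟩ hg
    have := hsharp g x ((hsmul g x).symm.trans hg)
    subst this
    exact Subgroup.mem_bot.2 (Subtype.ext (map_one φ))
  obtain ⟨F, iF, iF', hFc, ⟨e⟩⟩ := Cfsg.Agent.S0727.result (f := 4) (by norm_num)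
    (hcardΩ.trans (by norm_num)) φ.range h3' hst
  exact ⟨F, iF, iF', hFc, ⟨(MonoidHom.ofInjective hφ).trans e⟩⟩

/-- A simple group of order `4080` is `PSL(2, 16)`. -/
theorem nonempty_mulEquiv_psl [IsSimpleGroup G] (hG : Nat.card G = 4080) {F : Type v} [Field F]
    [Fintype F] (hF : Fintype.card F = 16) :
    Nonempty (G ≃* Matrix.ProjectiveSpecialLinearGroup (Fin 2) F) := by
  haveI : IsSimpleGroup (Matrix.ProjectiveSpecialLinearGroup (Fin 2) F) :=
    Matrix.ProjectiveSpecialLinearGroup.rank_two_simple (by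
      rw [Nat.card_eq_fintype_card, hF]; norm_num)
  haveI := Fintype.ofFinite (Matrix.ProjectiveSpecialLinearGroup (Fin 2) F)
  have hc : Nat.card (Matrix.ProjectiveSpecialLinearGroup (Fin 2) F) = 4080 := by
    have h : Nat.gcd 2 (Fintype.card F - 1) *
        Nat.card (Matrix.ProjectiveSpecialLinearGroup (Fin 2) F) =
        Fintype.card F * (Fintype.card F ^ 2 - 1) := by
      rw [SLCard.gcd_mul_card_PSL (by norm_num), SLCard.card_SL_two]
    rw [hF, show Nat.gcd 2 (16 - 1) = 1 from rfl] at h
    omega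
  obtain ⟨F₁, _, _, hF₁, ⟨e₁⟩⟩ := exists_pgl hG
  obtain ⟨F₂, _, _, hF₂, ⟨e₂⟩⟩ := exists_pgl hc
  obtain ⟨e₃⟩ := pgl_congr (FiniteField.ringEquivOfCardEq (K := F₁) (K' := F₂) (hF₁.trans hF₂.symm))
  exact ⟨(e₁.trans e₃).trans e₂.symm⟩

end CfsgLib.SmallOrders.Order4080
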