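import Cfsg.Agent.Lib.SmallOrders.ClassEquation
import Cfsg.Agent.Lib.SLCard
import Cfsg.Agent.S0727

/-!
# Simple groups of order `504`

The element orders are `1, 2, 3, 7, 9`, the `9` Sylow `2`-subgroups are elementary abelian with
trivial intersections, and the group acts sharply triply transitively on them.
-/

namespace CfsgLib.SmallOrders.Order504

open Cfsg MulAction
open scoped Pointwise

set_option autoImplicit false
set_option linter.unusedVariables false
set_option linter.style.haveILetI false
set_option linter.unusedSectionVars false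

universe u v

theorem degCheck_504 : degCheck 7 72 [(36, 2)] = true := by decide +kernel

theorem cent_504 : ∀ c ∈ involCents 7 (7 * 72), classSearch 7 72 2 8 [c] = true → c = 8 := by
  decide +kernel

theorem z_504 : search (cands 7 72 (7 * 72) 2 1)
    (fun as => degOk 7 72 (7 * 72) 2 2 as && zSearch as) (2 - 1) [] = false := by
  decide +kernel

variable {G : Type u} [Group G] [Fintype G]

/-- A `p`-element normalising a Sylow `p`-subgroup lies in it. -/
theorem mem_of_smul_eq {p : ℕ} [Fact p.Prime] {Q : Sylow p G} {g : G}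
    (hg : IsPGroup p (Subgroup.zpowers g)) (h : g • Q = Q) : g ∈ (Q : Subgroup G) := by
  have hmem : g ∈ Subgroup.normalizer ((Q : Subgroup G) : Set G) :=
    Sylow.smul_eq_iff_mem_normalizer.1 h
  have h1 : Subgroup.zpowers g ⊓ Subgroup.normalizer ((Q : Subgroup G) : Set G) =
      Subgroup.zpowers g ⊓ (Q : Subgroup G) := hg.inf_normalizer_sylow Q
  rw [inf_eq_left.2 (Subgroup.zpowers_le.2 hmem)] at h1
  exact inf_eq_left.1 h1.symm (Subgroup.mem_zpowers g)

theorem isPGroup_zpowers {p : ℕ} [Fact p.Prime] {g : G} (k : ℕ) (h : orderOf g = p ^ k) :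
    IsPGroup p (Subgroup.zpowers g) := IsPGroup.of_card (n := k) (by rw [Nat.card_zpowers, h])

/-- Counting non-identity elements of trivially intersecting Sylow subgroups. -/
theorem card_mul_le {p k : ℕ} [Fact p.Prime] {A : Finset G}
    (hcard : ∀ Q : Sylow p G, Nat.card Q = k)
    (hTI : ∀ Q R : Sylow p G, ∀ y ∈ (Q : Subgroup G), y ∈ (R : Subgroup G) → y ≠ 1 → Q = R)
    (hA : ∀ Q : Sylow p G, ∀ y ∈ (Q : Subgroup G), y ≠ 1 → y ∈ A) :
    Nat.card (Sylow p G) * (k - 1) ≤ A.card := by
  classical
  haveI : Fintype (Sylow p G) := Fintype.ofFinite _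
  have hdis : ((Finset.univ : Finset (Sylow p G)) : Set (Sylow p G)).PairwiseDisjoint
      (fun Q : Sylow p G => (Finset.univ.filter fun y : G => y ∈ (Q : Subgroup G) ∧ y ≠ 1)) := by
    intro Q _ R _ hQR
    refine Finset.disjoint_left.2 fun y hy hy' => hQR ?_
    rw [Finset.mem_filter] at hy hy'
    exact hTI Q R y hy.2.1 hy'.2.1 hy.2.2
  refine le_trans (le_of_eq ?_) (Finset.card_le_card (s := Finset.univ.biUnion
    (fun Q : Sylow p G => (Finset.univ.filter fun y : G => y ∈ (Q : Subgroup G) ∧ y ≠ 1))) ?_)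
  · rw [Finset.card_biUnion hdis, Finset.sum_congr rfl fun Q _ => show _ = k - 1 by
      rw [show (Finset.univ.filter fun y : G => y ∈ (Q : Subgroup G) ∧ y ≠ 1) =
          (Finset.univ.filter fun y : G => y ∈ (Q : Subgroup G)).erase 1 by
            ext y; simp [and_comm],
        Finset.card_erase_of_mem (by simp), ← Fintype.card_subtype, ← Nat.card_eq_fintype_card,
        show Nat.card {y : G // y ∈ (Q : Subgroup G)} = k from hcard Q]]
    rw [Finset.sum_const, Finset.card_univ, smul_eq_mul, Nat.card_eq_fintype_card]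
  · intro y hy
    rw [Finset.mem_biUnion] at hy
    obtain ⟨Q, -, hy⟩ := hy
    rw [Finset.mem_filter] at hy
    exact hA Q y hy.2.1 hy.2.2

/-- The action on the nine Sylow `2`-subgroups is sharply triply transitive. -/
theorem exists_pgl [IsSimpleGroup G] (hG : Nat.card G = 504) :
    ∃ (F : Type) (_ : Field F) (_ : Fintype F), Fintype.card F = 2 ^ 3 ∧
      Nonempty (G ≃* Matrix.ProjGenLinGroup (Fin 2) F) := by
  classical
  haveI h7 : Fact (Nat.Prime 7) := ⟨by norm_num⟩
  haveI h2 : Fact (Nat.Prime 2) := ⟨Nat.prime_two⟩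
  haveI h3 : Fact (Nat.Prime 3) := ⟨Nat.prime_three⟩
  have hN : Nat.card G = 7 * 72 := hG.trans (by norm_num)
  have hna := not_comm hG (by norm_num)
  obtain ⟨M, P, n, e, S, hM, hP, hC, hNe, hmem⟩ := mem_exceptions (p := 7) (m := 72)
    (exc := [(36, 2)]) (by norm_num) hN (by norm_num) (by norm_num) degCheck_504
  obtain ⟨rfl, rfl⟩ : n = 36 ∧ e = 2 := by simpa using hmem
  have hcC : Nat.card (Subgroup.centralizer ((P : Subgroup G) : Set G)) = 7 := by omega
  have hn7 : Nat.card (Sylow 7 G) = 36 := by
    have h : Nat.card (Subgroup.normalizer ((P : Subgroup G) : Set G)) * Nat.card (Sylow 7 G) =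
        Nat.card G := SmallOrder.card_normalizer_mul_card_sylow P
    rw [hNe, hcC, hG] at h
    omega
  obtain ⟨t, c, ht, hc, hcmem, hcs, hall⟩ := exists_classData (q := 8) (k := 3) hna hM (by norm_num)
    hP hN (by norm_num) hcC (dvd_refl 2) two_pos (by norm_num) hNe (by norm_num) (by norm_num) S
  have hc8 : c = 8 := cent_504 c hcmem hcs
  have hconj : ∀ z : G, orderOf z = 2 → IsConj t z :=
    hall.resolve_right (by rw [z_504]; exact Bool.false_ne_true)
  have hcl := CfsgLib.CharTheory.card_isConj_mul_card_centralizer t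
  rw [← hc, hc8, hG] at hcl
  have hinv : ∀ z : G, orderOf z = 2 → Nat.card (Subgroup.centralizer ({z} : Set G)) = 8 := by
    intro z hz
    have h := CfsgLib.CharTheory.card_isConj_mul_card_centralizer z
    rw [Nat.card_congr (Equiv.subtypeEquivRight fun y =>
      (⟨fun h => (hconj z hz).trans h, fun h => (hconj z hz).symm.trans h⟩ :
        IsConj z y ↔ IsConj t y)), hG] at h
    have : Nat.card {y : G // IsConj t y} = 63 := by omega
    rw [this] at h
    omega
  have hcardinv : (Finset.univ.filter fun g : G => orderOf g = 2).card = 63 := by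
    rw [← Fintype.card_subtype, ← Nat.card_eq_fintype_card]
    have : Nat.card {y : G // IsConj t y} = 63 := by omega
    rw [← this]
    refine Nat.card_congr (Equiv.subtypeEquivRight fun y => ⟨hconj y, fun h => ?_⟩)
    obtain ⟨s, hs⟩ := isConj_iff.1 h
    rw [← hs, show s * t * s⁻¹ = MulAut.conj s t from rfl, MulEquiv.orderOf_eq, ht]
  -- elements of order seven
  have hP7 : ∀ Q : Sylow 7 G, Nat.card Q = 7 := fun Q =>
    Q.card_eq_multiplicity.trans (P.card_eq_multiplicity.symm.trans hP)
  have hord7 : ∀ Q : Sylow 7 G, ∀ y ∈ (Q : Subgroup G), y ≠ 1 → orderOf y = 7 := fun Q y hy hy1 =>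
    orderOf_eq (hP7 Q) hy hy1
  have hTI7 : ∀ Q R : Sylow 7 G, ∀ y ∈ (Q : Subgroup G), y ∈ (R : Subgroup G) → y ≠ 1 → Q = R :=
    fun Q R y hy hy' hy1 => Sylow.ext
      ((zpowers_eq (hP7 Q) hy hy1).symm.trans (zpowers_eq (hP7 R) hy' hy1))
  have h216 : 216 ≤ (Finset.univ.filter fun g : G => orderOf g = 7).card := by
    have := card_mul_le (k := 7) (A := Finset.univ.filter fun g : G => orderOf g = 7) hP7 hTI7
      (fun Q y hy hy1 => by simp [hord7 Q y hy hy1])
    rwa [hn7] at this
  -- Sylow `3`-subgroups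
  have hC7 : ∀ y : G, y ≠ 1 → ¬ 7 ∣ orderOf y →
      ¬ 7 ∣ Nat.card (Subgroup.centralizer ({y} : Set G)) := by
    intro y hy1 hy7 h
    obtain ⟨w, hw⟩ := exists_prime_orderOf_dvd_card' 7 h
    have hwG : orderOf (w : G) = 7 := by rw [Subgroup.orderOf_coe, hw]
    obtain ⟨Q, hQ⟩ := (isPGroup_zpowers (p := 7) 1 (by rw [hwG, pow_one])).exists_le_sylow
    obtain ⟨s, hs⟩ := MulAction.exists_smul_eq G Q P
    have hwP : s * w * s⁻¹ ∈ (P : Subgroup G) := by
      rw [← hs]
      exact ⟨w, hQ (Subgroup.mem_zpowers _), rfl⟩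
    have hw1 : s * w * s⁻¹ ≠ 1 := by
      rw [Ne, conj_eq_one_iff]
      intro h1
      rw [h1, orderOf_one] at hwG
      omega
    have hyP : s * y * s⁻¹ ∈ (P : Subgroup G) := by
      refine mem_of_commute hP hcC hwP hw1 ?_
      rw [show s * y * s⁻¹ * (s * w * s⁻¹) = s * (y * w) * s⁻¹ by group,
        show s * w * s⁻¹ * (s * y * s⁻¹) = s * (w * y) * s⁻¹ by group,
        (Subgroup.mem_centralizer_singleton_iff.1 w.2 : (w : G) * y = y * w)]
    have := hord7 P _ hyP (by rwa [Ne, conj_eq_one_iff])
    rw [show s * y * s⁻¹ = MulAut.conj s y from rfl, MulEquiv.orderOf_eq] at this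
    exact hy7 (this ▸ dvd_rfl)
  have hP3 : ∀ Q : Sylow 3 G, Nat.card Q = 9 := fun Q =>
    SmallOrder.card_sylow_eq (k := 2) Q (by rw [hG]; norm_num) (by rw [hG]; norm_num)
  have hC3 : ∀ Q : Sylow 3 G, ∀ y ∈ (Q : Subgroup G), y ≠ 1 →
      (Q : Subgroup G) = Subgroup.centralizer ({y} : Set G) := by
    intro Q y hy hy1
    have hyo : orderOf y ∣ 3 ^ 2 := by
      have := Subgroup.orderOf_dvd_natCard (Q : Subgroup G) hy
      rwa [show Nat.card (Q : Subgroup G) = 9 from hP3 Q] at this
    obtain ⟨i, -, hi⟩ := (Nat.dvd_prime_pow Nat.prime_three).1 hyo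
    have hle : (Q : Subgroup G) ≤ Subgroup.centralizer ({y} : Set G) := by
      haveI : IsMulCommutative (Q : Subgroup G) :=
        IsPGroup.isMulCommutative_of_card_eq_prime_sq (p := 3) (hP3 Q)
      intro g hg
      exact Subgroup.mem_centralizer_singleton_iff.2
        (congrArg Subtype.val (mul_comm' (⟨g, hg⟩ : (Q : Subgroup G)) ⟨y, hy⟩))
    refine Subgroup.eq_of_le_of_card_ge hle ?_
    rw [show Nat.card (Q : Subgroup G) = 9 from hP3 Q]
    set d := Nat.card (Subgroup.centralizer ({y} : Set G)) with hd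
    have h504 : d ∣ 504 := hG ▸ Subgroup.card_subgroup_dvd_card _
    have hd7 : ¬ 7 ∣ d := hC7 y hy1 (by
      rw [hi]
      intro h
      exact absurd ((Nat.prime_dvd_prime_iff_eq (by norm_num) Nat.prime_three).1
        (Nat.Prime.dvd_of_dvd_pow (by norm_num) h)) (by norm_num))
    have hd2 : ¬ 2 ∣ d := by
      intro h
      obtain ⟨z, hz⟩ := exists_prime_orderOf_dvd_card' 2 h
      have hzG : orderOf (z : G) = 2 := by rw [Subgroup.orderOf_coe, hz]
      have hmem : y ∈ Subgroup.centralizer ({(z : G)} : Set G) :=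
        Subgroup.mem_centralizer_singleton_iff.2 (Subgroup.mem_centralizer_singleton_iff.1 z.2).symm
      have h8 := Subgroup.orderOf_dvd_natCard _ hmem
      rw [hinv _ hzG, hi] at h8
      have hi0 : i = 0 := by
        by_contra h0
        exact absurd ((dvd_pow_self 3 h0).trans h8) (by norm_num)
      rw [hi0, pow_zero, orderOf_eq_one_iff] at hi
      exact hy1 hi
    have hle' := Nat.le_of_dvd (by norm_num) h504
    have key : ∀ k < 505, k ∣ 504 → ¬ 7 ∣ k → ¬ 2 ∣ k → k ≤ 9 := by decide +kernel
    exact key d (by omega) h504 hd7 hd2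
  have hTI3 : ∀ Q R : Sylow 3 G, ∀ y ∈ (Q : Subgroup G), y ∈ (R : Subgroup G) → y ≠ 1 → Q = R :=
    fun Q R y hy hy' hy1 => Sylow.ext ((hC3 Q y hy hy1).trans (hC3 R y hy' hy1).symm)
  obtain ⟨Q₃⟩ : Nonempty (Sylow 3 G) := inferInstance
  have hn3 : Nat.card (Sylow 3 G) = 28 := by
    have hmem := SmallOrder.card_sylow_mem_filter Q₃ (hP3 Q₃) (n := 56) (by rw [hG]) (by norm_num)
    have hne1 := SmallOrder.card_sylow_ne_one Q₃ (by rw [hP3]; norm_num) (by rw [hG, hP3]; norm_num)
    have hidx := Q₃.card_eq_index_normalizer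
    set N := Subgroup.normalizer ((Q₃ : Subgroup G) : Set G) with hNdef
    have hlist : (Nat.divisors 56).filter (fun d => d % 3 = 1) = {1, 4, 7, 28} := by decide
    rw [hlist] at hmem
    simp only [Finset.mem_insert, Finset.mem_singleton] at hmem
    have hidx' : Nat.card (Sylow 3 G) = N.index := hidx
    rcases hmem with h | h | h | h
    · exact absurd h hne1
    · exfalso
      have hne : N ≠ ⊤ := fun htop => hne1 (by rw [hidx', htop, Subgroup.index_top])
      have := SmallOrder.card_dvd_factorial_index hne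
      rw [← hidx', h, hG] at this
      exact absurd this (by decide)
    · exfalso
      have hidx7 : Nat.card (G ⧸ N) = 7 := by rw [← Subgroup.index, ← hidx', h]
      haveI : Fintype (G ⧸ N) := Fintype.ofFinite _
      have hcardq : Fintype.card (G ⧸ N) = 7 := by rw [← Nat.card_eq_fintype_card, hidx7]
      let f := MulAction.toPermHom G (G ⧸ N)
      have hf : Function.Injective f := by
        rw [← MonoidHom.ker_eq_bot_iff]
        refine ((inferInstance : f.ker.Normal).eq_bot_or_eq_top).resolve_right fun htop => hne1 ?_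
        rw [← Subgroup.normalCore_eq_ker] at htop
        rw [hidx', top_le_iff.mp (htop.ge.trans N.normalCore_le), Subgroup.index_top]
      obtain ⟨x, hx, hx1⟩ : ∃ x ∈ (P : Subgroup G), x ≠ 1 := by
        refine ((Subgroup.bot_or_exists_ne_one (P : Subgroup G)).resolve_left fun hb => ?_)
        have h : Nat.card (P : Subgroup G) = 7 := hP
        rw [hb, Subgroup.card_bot] at h
        omega
      obtain ⟨t', ht', hinv'⟩ := exists_inverting (by norm_num) hP hcC (dvd_refl 2) hNe
      have hfx : orderOf (f x) = 7 := by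
        rw [orderOf_injective f hf, hord7 P x hx hx1]
      have hcyc : (f x).IsCycle := Equiv.Perm.isCycle_of_prime_order' (by rw [hfx]; norm_num)
        (by rw [hfx, hcardq]; norm_num)
      have hsupp : (f x).support = Finset.univ := by
        refine Finset.eq_univ_of_card _ ?_
        rw [← hcyc.orderOf, hfx, hcardq]
      have hmove : ∀ k : ℤ, ∀ i, (f x ^ k) i = i → f x ^ k = 1 := by
        intro k i hki
        refine Equiv.ext fun j => ?_
        obtain ⟨m, rfl⟩ := hcyc.exists_zpow_eq (x := i) (y := j)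
          (Equiv.Perm.mem_support.1 (by rw [hsupp]; exact Finset.mem_univ _))
          (Equiv.Perm.mem_support.1 (by rw [hsupp]; exact Finset.mem_univ _))
        rw [← Equiv.Perm.mul_apply, ← zpow_add, add_comm, zpow_add, Equiv.Perm.mul_apply, hki,
          Equiv.Perm.one_apply]
      have hft : orderOf (f t') = 2 := by rw [orderOf_injective f hf, ht']
      have hfix : ∀ i j, f t' i = i → f t' j = j → i = j := by
        intro i j hi hj
        obtain ⟨k, hk⟩ := hcyc.exists_zpow_eq (x := i) (y := j)
          (Equiv.Perm.mem_support.1 (by rw [hsupp]; exact Finset.mem_univ _))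
          (Equiv.Perm.mem_support.1 (by rw [hsupp]; exact Finset.mem_univ _))
        have hconjk : f t' * f x ^ k * f t' = f x ^ (-k) := by
          have h1 : f t' * f x * (f t')⁻¹ = (f x)⁻¹ := by
            have htt : t'⁻¹ = t' := inv_eq_of_mul_eq_one_right
              (by rw [← sq, ← ht', pow_orderOf_eq_one])
            rw [← map_inv f t', htt, ← map_mul, ← map_mul, hinv' x hx, map_inv]
          have htt : (f t')⁻¹ = f t' := inv_eq_of_mul_eq_one_right
            (by rw [← sq, ← hft, pow_orderOf_eq_one])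
          have h2 := conj_zpow (a := f t') (b := f x) (i := k)
          rw [h1, htt, inv_zpow, ← zpow_neg] at h2
          exact h2.symm
        have h3 := congrArg (fun σ : Equiv.Perm (G ⧸ N) => σ i) hconjk
        simp only [Equiv.Perm.mul_apply, hi, hk, hj] at h3
        have h4 : (f x ^ k * f x ^ k) i = i := by
          conv_lhs => rw [Equiv.Perm.mul_apply, hk, h3, ← Equiv.Perm.mul_apply, ← zpow_add,
            add_neg_cancel, zpow_zero, Equiv.Perm.one_apply]
        rw [← zpow_add] at h4
        have h5 := hmove _ i h4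
        have h6 : (7 : ℤ) ∣ k + k := by
          have := orderOf_dvd_iff_zpow_eq_one.2 h5
          rwa [hfx] at this
        have h7 : (7 : ℤ) ∣ k := by omega
        have h8 : f x ^ k = 1 := orderOf_dvd_iff_zpow_eq_one.1 (by rw [hfx]; exact h7)
        rw [← hk, h8, Equiv.Perm.one_apply]
      obtain ⟨m, hm⟩ := Equiv.Perm.cycleType_prime_order (σ := f t') (by rw [hft]; norm_num)
      have hsum := Equiv.Perm.sum_cycleType (f t')
      rw [hm, Multiset.sum_replicate, hft, smul_eq_mul] at hsum
      have hlo : 6 ≤ (f t').support.card := by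
        have h1 : ((f t').supportᶜ).card ≤ 1 := Finset.card_le_one.2 fun i hi j hj => by
          rw [Finset.mem_compl, Equiv.Perm.notMem_support] at hi hj
          exact hfix i j hi hj
        rw [Finset.card_compl, hcardq] at h1
        omega
      have hhi : (f t').support.card ≤ 7 := hcardq ▸ Finset.card_le_univ _
      have hm2 : m = 2 := by omega
      have hsign : Equiv.Perm.sign (f t') = -1 := by
        rw [Equiv.Perm.sign_of_cycleType, hm, Multiset.sum_replicate, Multiset.card_replicate, hft, hm2]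
        decide
      have := hom_trivial hna (Equiv.Perm.sign.comp f) t'
      rw [MonoidHom.comp_apply, hsign] at this
      exact absurd this (by decide)
    · exact h
  have h224 : 224 ≤ (Finset.univ.filter fun g : G => g ≠ 1 ∧ g ^ 9 = 1).card := by
    have := card_mul_le (k := 9) (A := Finset.univ.filter fun g : G => g ≠ 1 ∧ g ^ 9 = 1) hP3 hTI3
      (fun Q y hy hy1 => by
        rw [Finset.mem_filter]
        refine ⟨Finset.mem_univ _, hy1, orderOf_dvd_iff_pow_eq_one.1 ?_⟩
        rw [← hP3 Q]
        exact Subgroup.orderOf_dvd_natCard _ hy)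
    rwa [hn3] at this
  -- there are no other elements
  have htype : ∀ g : G, g = 1 ∨ orderOf g = 7 ∨ (g ≠ 1 ∧ g ^ 9 = 1) ∨ orderOf g = 2 := by
    set A := Finset.univ.filter fun g : G => orderOf g = 7
    set B := Finset.univ.filter fun g : G => g ≠ 1 ∧ g ^ 9 = 1
    set C := Finset.univ.filter fun g : G => orderOf g = 2
    have hAB : Disjoint A B := Finset.disjoint_left.2 fun g hg hg' => by
      rw [Finset.mem_filter] at hg hg'
      have := orderOf_dvd_iff_pow_eq_one.2 hg'.2.2
      rw [hg.2] at this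
      norm_num at this
    have hABC : Disjoint (A ∪ B) C := Finset.disjoint_left.2 fun g hg hg' => by
      rw [Finset.mem_union] at hg
      rw [Finset.mem_filter] at hg'
      rcases hg with hg | hg <;> rw [Finset.mem_filter] at hg
      · have := hg.2.symm.trans hg'.2; omega
      · have := orderOf_dvd_iff_pow_eq_one.2 hg.2.2
        rw [hg'.2] at this
        norm_num at this
    have h1 : Disjoint (A ∪ B ∪ C) {1} := Finset.disjoint_singleton_right.2 fun h => by
      simp only [A, B, C, Finset.mem_union, Finset.mem_filter, Finset.mem_univ, true_and,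
        orderOf_one, ne_eq, not_true_eq_false, false_and, or_false] at h
      omega
    have huniv : A ∪ B ∪ C ∪ {1} = Finset.univ := by
      refine Finset.eq_univ_of_card _ (le_antisymm (Finset.card_le_univ _) ?_)
      rw [Finset.card_union_of_disjoint h1, Finset.card_union_of_disjoint hABC,
        Finset.card_union_of_disjoint hAB, hcardinv, Finset.card_singleton,
        ← Nat.card_eq_fintype_card, hG]
      omega
    intro g
    have := Finset.eq_univ_iff_forall.1 huniv g
    simp only [A, B, C, Finset.mem_union, Finset.mem_filter, Finset.mem_univ, true_and,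
      Finset.mem_singleton] at this
    rcases this with ((h | h) | h) | h
    exacts [Or.inr (Or.inl h), Or.inr (Or.inr (Or.inl h)), Or.inr (Or.inr (Or.inr h)), Or.inl h]
  -- Sylow `2`-subgroups
  have hP2 : ∀ T : Sylow 2 G, Nat.card T = 8 := fun T =>
    SmallOrder.card_sylow_eq (k := 3) T (by rw [hG]; norm_num) (by rw [hG]; norm_num)
  have hexp : ∀ T : Sylow 2 G, ∀ y ∈ (T : Subgroup G), y ≠ 1 → orderOf y = 2 := by
    intro T y hy hy1
    have hd := Subgroup.orderOf_dvd_natCard _ hy
    rw [show Nat.card (T : Subgroup G) = 8 from hP2 T] at hd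
    rcases htype y with h | h | ⟨-, h⟩ | h
    · exact absurd h hy1
    · rw [h] at hd; norm_num at hd
    · have := Nat.dvd_gcd hd (orderOf_dvd_iff_pow_eq_one.2 h)
      norm_num at this
      exact absurd this hy1
    · exact h
  have hC2 : ∀ T : Sylow 2 G, ∀ y ∈ (T : Subgroup G), y ≠ 1 →
      (T : Subgroup G) = Subgroup.centralizer ({y} : Set G) := by
    intro T y hy hy1
    have hsq : ∀ a : (T : Subgroup G), a * a = 1 := fun a => by
      by_cases ha : (a : G) = 1
      · exact Subtype.ext (by simp [ha])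
      · refine Subtype.ext ?_
        have h' := pow_orderOf_eq_one (a : G)
        rwa [hexp T a a.2 ha, sq] at h'
    refine Subgroup.eq_of_le_of_card_ge (fun g hg => Subgroup.mem_centralizer_singleton_iff.2 ?_) ?_
    · have h := hsq (⟨g, hg⟩ * ⟨y, hy⟩)
      have e := congrArg Subtype.val h
      simp only [Subgroup.coe_mul, Subgroup.coe_one] at e
      have e1 : y * y = 1 := congrArg Subtype.val (hsq ⟨y, hy⟩)
      have e2 : g * g = 1 := congrArg Subtype.val (hsq ⟨g, hg⟩)
      calc g * y = (g * y)⁻¹ := (inv_eq_of_mul_eq_one_right e).symm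
        _ = y * g := by
          rw [mul_inv_rev, inv_eq_of_mul_eq_one_right e1, inv_eq_of_mul_eq_one_right e2]
    · rw [hinv y (hexp T y hy hy1)]; exact (hP2 T).ge
  have hTI2 : ∀ Q R : Sylow 2 G, ∀ y ∈ (Q : Subgroup G), y ∈ (R : Subgroup G) → y ≠ 1 → Q = R :=
    fun Q R y hy hy' hy1 => Sylow.ext ((hC2 Q y hy hy1).trans (hC2 R y hy' hy1).symm)
  have hn2 : Nat.card (Sylow 2 G) = 9 := by
    obtain ⟨T⟩ : Nonempty (Sylow 2 G) := inferInstance
    have hup := card_mul_le (k := 8) (A := Finset.univ.filter fun g : G => orderOf g = 2) hP2 hTI2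
      (fun Q y hy hy1 => by simp [hexp Q y hy hy1])
    rw [hcardinv] at hup
    haveI : Fintype (Sylow 2 G) := Fintype.ofFinite _
    have hlo : 63 ≤ Nat.card (Sylow 2 G) * 7 := by
      rw [← hcardinv]
      refine le_trans (Finset.card_le_card (t := Finset.univ.biUnion fun Q : Sylow 2 G =>
        Finset.univ.filter fun y : G => y ∈ (Q : Subgroup G) ∧ y ≠ 1) fun g hg => ?_)
        (le_trans (Finset.card_biUnion_le) ?_)
      · rw [Finset.mem_filter] at hg
        obtain ⟨Q, hQ⟩ := (isPGroup_zpowers (p := 2) 1 (by rw [hg.2, pow_one])).exists_le_sylow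
        rw [Finset.mem_biUnion]
        refine ⟨Q, Finset.mem_univ _, ?_⟩
        simp only [Finset.mem_filter, Finset.mem_univ, true_and]
        refine ⟨hQ (Subgroup.mem_zpowers g), fun h => ?_⟩
        have h2' := hg.2
        rw [h, orderOf_one] at h2'
        omega
      · rw [Finset.sum_congr rfl fun Q _ => show _ = 7 by
          rw [show (Finset.univ.filter fun y : G => y ∈ (Q : Subgroup G) ∧ y ≠ 1) =
              (Finset.univ.filter fun y : G => y ∈ (Q : Subgroup G)).erase 1 by
                ext y; simp [and_comm],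
            Finset.card_erase_of_mem (by simp), ← Fintype.card_subtype, ← Nat.card_eq_fintype_card,
            show Nat.card {y : G // y ∈ (Q : Subgroup G)} = 8 from hP2 Q],
          Finset.sum_const, Finset.card_univ, smul_eq_mul, Nat.card_eq_fintype_card]
    omega
  -- the action
  haveI : Fintype (Sylow 2 G) := Fintype.ofFinite _
  have hcardΩ : Fintype.card (Sylow 2 G) = 9 := by rw [← Nat.card_eq_fintype_card, hn2]
  let φ := MulAction.toPermHom G (Sylow 2 G)
  have hφ : Function.Injective φ := by
    rw [← MonoidHom.ker_eq_bot_iff]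
    refine ((inferInstance : φ.ker.Normal).eq_bot_or_eq_top).resolve_right fun htop => ?_
    have hone : Nat.card (Sylow 2 G) ≤ 1 := Finite.card_le_one_iff_subsingleton.2 ⟨fun A B => by
      obtain ⟨g, rfl⟩ := MulAction.exists_smul_eq G A B
      exact (DFunLike.congr_fun (MonoidHom.mem_ker.1 (htop ▸ Subgroup.mem_top g : g ∈ φ.ker)) A).symm⟩
    omega
  have hfree : ∀ (g : G) (A B C : Sylow 2 G), A ≠ B → A ≠ C → B ≠ C → g • A = A → g • B = B →
      g • C = C → g = 1 := by
    intro g A B C hAB hAC hBC hA hB hC'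
    by_contra hg1
    have hno : ∀ z : G, orderOf z = 2 → z • A = A → z • B = B → False := fun z hz hzA hzB => by
      have hpg := isPGroup_zpowers (p := 2) 1 (by rw [hz, pow_one])
      refine hAB (hTI2 A B z (mem_of_smul_eq hpg hzA) (mem_of_smul_eq hpg hzB) fun h => ?_)
      rw [h, orderOf_one] at hz
      omega
    have hgN : g ∈ Subgroup.normalizer ((A : Subgroup G) : Set G) :=
      Sylow.smul_eq_iff_mem_normalizer.1 hA
    have hcN : Nat.card (Subgroup.normalizer ((A : Subgroup G) : Set G)) = 56 := by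
      have h : Nat.card (Subgroup.normalizer ((A : Subgroup G) : Set G)) * Nat.card (Sylow 2 G) =
          Nat.card G := SmallOrder.card_normalizer_mul_card_sylow A
      rw [hn2, hG] at h
      omega
    have hd : orderOf g ∣ 56 := hcN ▸ Subgroup.orderOf_dvd_natCard _ hgN
    have hg7 : orderOf g = 7 := by
      rcases htype g with h | h | ⟨-, h⟩ | h
      · exact absurd h hg1
      · exact h
      · have := Nat.dvd_gcd hd (orderOf_dvd_iff_pow_eq_one.2 h)
        norm_num at this
        exact absurd this hg1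
      · exact (hno g h hA hB).elim
    have hmod := (isPGroup_zpowers (p := 7) 1 (by rw [hg7, pow_one])).card_modEq_card_fixedPoints
      (Sylow 2 G)
    set Fx := MulAction.fixedPoints (Subgroup.zpowers g) (Sylow 2 G) with hFx
    rw [hn2] at hmod
    have hfixed : ∀ D : Sylow 2 G, g • D = D → D ∈ Fx := fun D hD => by
      rintro ⟨y, k, rfl⟩
      exact mem_stabilizer_iff.1 (zpow_mem (mem_stabilizer_iff.2 hD : g ∈ stabilizer G D) k)
    have h3le : 3 ≤ Nat.card Fx := by
      rw [Nat.card_eq_fintype_card, ← Set.toFinset_card]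
      refine le_trans (le_of_eq ?_) (Finset.card_le_card (s := {A, B, C}) ?_)
      · rw [Finset.card_insert_of_notMem (by simp [hAB, hAC]), Finset.card_pair hBC]
      · intro D hD
        simp only [Finset.mem_insert, Finset.mem_singleton] at hD
        rw [Set.mem_toFinset]
        rcases hD with rfl | rfl | rfl
        exacts [hfixed _ hA, hfixed _ hB, hfixed _ hC']
    have hle9 : Nat.card Fx ≤ 9 := hn2 ▸ Finite.card_subtype_le _
    have h9 : Nat.card Fx = 9 := by
      have : 9 % 7 = Nat.card Fx % 7 := hmod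
      omega
    have hall' : ∀ D : Sylow 2 G, D ∈ Fx := by
      intro D
      have : Fx.toFinset = Finset.univ := Finset.eq_univ_of_card _ (by
        rw [Set.toFinset_card, ← Nat.card_eq_fintype_card, h9, hcardΩ])
      exact Set.mem_toFinset.1 (this ▸ Finset.mem_univ D)
    refine hg1 (hφ ?_)
    rw [map_one]
    exact Equiv.ext fun D => hall' D ⟨g, Subgroup.mem_zpowers g⟩
  have hsharp : ∀ (g : G) (x : Fin 3 ↪ Sylow 2 G), g • x = x → g = 1 := fun g x hgx =>
    hfree g (x 0) (x 1) (x 2) (fun h => by simpa using x.injective h)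
      (fun h => by simpa using x.injective h) (fun h => by simpa using x.injective h)
      (DFunLike.congr_fun hgx 0) (DFunLike.congr_fun hgx 1) (DFunLike.congr_fun hgx 2)
  have hsmul : ∀ (g : G) (x : Fin 3 ↪ Sylow 2 G),
      (⟨φ g, g, rfl⟩ : φ.range) • x = g • x := fun g x => by ext i; rfl
  haveI h3' : MulAction.IsMultiplyPretransitive φ.range (Sylow 2 G) 3 := by
    refine ⟨fun x y => ?_⟩
    have hbij : Function.Bijective (fun g : G => g • x) := by
      refine (Nat.bijective_iff_injective_and_card _).2 ⟨fun a b hab => ?_, ?_⟩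
      · have := hsharp (b⁻¹ * a) x (by rw [mul_smul, show a • x = b • x from hab, inv_smul_smul])
        exact (inv_mul_eq_one.1 this).symm
      · rw [hG, Nat.card_eq_fintype_card, Fintype.card_embedding_eq, hcardΩ, Fintype.card_fin]
        decide
    obtain ⟨g, hg⟩ := hbij.2 y
    exact ⟨⟨φ g, g, rfl⟩, (hsmul g x).trans hg⟩
  have hst : ∀ x : Fin 3 ↪ Sylow 2 G, MulAction.stabilizer φ.range x = ⊥ := by
    intro x
    rw [eq_bot_iff]
    rintro ⟨_, g, rfl⟩ hg
    have := hsharp g x ((hsmul g x).symm.trans hg)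
    subst this
    exact Subgroup.mem_bot.2 (Subtype.ext (map_one φ))
  obtain ⟨F, iF, iF', hFc, ⟨e⟩⟩ := Cfsg.Agent.S0727.result (f := 3) (by norm_num)
    (hcardΩ.trans (by norm_num)) φ.range h3' hst
  exact ⟨F, iF, iF', hFc, ⟨(MonoidHom.ofInjective hφ).trans e⟩⟩

/-- Projective general linear groups over isomorphic fields are isomorphic. -/
theorem pgl_congr {K L : Type*} [Field K] [Field L] (e : K ≃+* L) :
    Nonempty (Matrix.ProjGenLinGroup (Fin 2) K ≃* Matrix.ProjGenLinGroup (Fin 2) L) := by
  let φ : GL (Fin 2) K ≃* GL (Fin 2) L := Units.mapEquiv e.mapMatrix.toMulEquiv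
  refine ⟨QuotientGroup.congr _ _ φ ?_⟩
  ext x
  simp only [Subgroup.mem_map, Subgroup.mem_center_iff]
  constructor
  · rintro ⟨a, ha, rfl⟩ b
    obtain ⟨c, rfl⟩ := φ.surjective b
    show φ c * φ a = φ a * φ c
    rw [← map_mul, ← map_mul, ha c]
  · intro h
    obtain ⟨a, rfl⟩ := φ.surjective x
    refine ⟨a, fun b => φ.injective ?_, rfl⟩
    rw [map_mul, map_mul]
    exact h (φ b)

/-- A simple group of order `504` is `PSL(2, 8)`. -/
theorem nonempty_mulEquiv_psl [IsSimpleGroup G] (hG : Nat.card G = 504) {F : Type v} [Field F]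
    [Fintype F] (hF : Fintype.card F = 8) :
    Nonempty (G ≃* Matrix.ProjectiveSpecialLinearGroup (Fin 2) F) := by
  haveI : IsSimpleGroup (Matrix.ProjectiveSpecialLinearGroup (Fin 2) F) :=
    Matrix.ProjectiveSpecialLinearGroup.rank_two_simple (by
      rw [Nat.card_eq_fintype_card, hF]; norm_num)
  haveI := Fintype.ofFinite (Matrix.ProjectiveSpecialLinearGroup (Fin 2) F)
  have hc : Nat.card (Matrix.ProjectiveSpecialLinearGroup (Fin 2) F) = 504 := by
    have h : Nat.gcd 2 (Fintype.card F - 1) *
        Nat.card (Matrix.ProjectiveSpecialLinearGroup (Fin 2) F) =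
        Fintype.card F * (Fintype.card F ^ 2 - 1) := by
      rw [SLCard.gcd_mul_card_PSL (by norm_num), SLCard.card_SL_two]
    rw [hF, show Nat.gcd 2 (8 - 1) = 1 from rfl] at h
    omega
  obtain ⟨F₁, _, _, hF₁, ⟨e₁⟩⟩ := exists_pgl hG
  obtain ⟨F₂, _, _, hF₂, ⟨e₂⟩⟩ := exists_pgl hc
  obtain ⟨e₃⟩ := pgl_congr (FiniteField.ringEquivOfCardEq (K := F₁) (K' := F₂) (hF₁.trans hF₂.symm))
  exact ⟨(e₁.trans e₃).trans e₂.symm⟩

end CfsgLib.SmallOrders.Order504
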