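import Cfsg.Agent.Lib.SmallOrder

/-!
# Groups of order 48 that can be involution centralisers in a simple group of order 5616
-/

namespace CfsgLib.SmallOrders.Order5616

set_option autoImplicit false
set_option linter.unusedVariables false
set_option linter.style.haveILetI false

open CfsgLib

variable {C : Type*} [Group C] [Finite C]

/-- A subset absorbing the products of pairs outside it has at least half the elements. -/
theorem card_le_twice {Y X : Finset C} (hXY : X ⊆ Y) (hinv : ∀ a ∈ Y, a ∉ X → a⁻¹ ∈ Y ∧ a⁻¹ ∉ X)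
    (hmul : ∀ a ∈ Y, ∀ b ∈ Y, a ∉ X → b ∉ X → a * b ∈ X) : Y.card ≤ 2 * X.card := by
  classical
  by_cases h : Y ⊆ X
  · have := Finset.card_le_card h; omega
  obtain ⟨r, hr, hrX⟩ := Finset.not_subset.1 h
  have hsub : Y ⊆ X ∪ X.image (fun x => r * x) := by
    intro a ha
    by_cases haX : a ∈ X
    · exact Finset.mem_union_left _ haX
    obtain ⟨h1, h2⟩ := hinv r hr hrX
    exact Finset.mem_union_right _ (Finset.mem_image.2
      ⟨r⁻¹ * a, hmul _ h1 _ ha h2 haX, mul_inv_cancel_left r a⟩)
  calc Y.card ≤ (X ∪ X.image fun x => r * x).card := Finset.card_le_card hsub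
    _ ≤ X.card + (X.image fun x => r * x).card := Finset.card_union_le _ _
    _ ≤ _ := by have := Finset.card_image_le (s := X) (f := fun x => r * x); omega

/-- A finite set closed under a fixed-point-free involution has even cardinality. -/
theorem even_of_mul {A : Finset C} {τ : C} (hττ : τ * τ = 1) (hτ : τ ≠ 1)
    (hA : ∀ a ∈ A, a * τ ∈ A) : Even A.card := by
  classical
  have h : ∑ _a ∈ A, (1 : ZMod 2) = 0 :=
    Finset.sum_involution (fun a _ => a * τ) (fun a _ => by decide)
      (fun a _ _ h => hτ (mul_left_cancel (h.trans (mul_one a).symm)))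
      (fun a ha => hA a ha) (fun a _ => by rw [mul_assoc, hττ, mul_one])
  rw [Finset.sum_const, nsmul_eq_mul, mul_one, ZMod.natCast_eq_zero_iff_even] at h
  exact h

/-- An element of order three commutes with or is inverted by whatever normalises its subgroup. -/
theorem conj_eq_or_inv {z x : C} (hz : orderOf z = 3) (h : x ∈ Subgroup.zpowers z) (hx : orderOf x = 3) :
    x = z ∨ x = z⁻¹ := by
  obtain ⟨k, rfl⟩ := h
  have hk := zpow_mod_orderOf z k
  rw [hz] at hk
  have h3 : z ^ (3 : ℤ) = 1 := by
    rw [show (3 : ℤ) = ((3 : ℕ) : ℤ) from rfl, zpow_natCast, ← hz, pow_orderOf_eq_one]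
  have : k % (3 : ℤ) = 0 ∨ k % (3 : ℤ) = 1 ∨ k % (3 : ℤ) = 2 := by omega
  dsimp only at hx ⊢
  rw [← hk] at hx ⊢
  push_cast at hx ⊢
  rcases this with e | e | e <;> rw [e] at hx ⊢
  · simp at hx
  · exact Or.inl (zpow_one z)
  · refine Or.inr (eq_inv_of_mul_eq_one_left ?_)
    rw [← zpow_add_one]; exact h3

/-- Permutations of four points with square one that fix no point, or all. -/
theorem perm_fpf : (Finset.univ.filter fun σ : Equiv.Perm (Fin 4) =>
    σ * σ = 1 ∧ (σ = 1 ∨ ∀ i, σ i ≠ i)).card = 4 := by decide

theorem perm_three_two : ∀ σ τ : Equiv.Perm (Fin 4),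
    (σ * σ * σ = 1 ∧ σ ≠ 1 ∧ τ * τ = 1 ∧ τ * σ = σ * τ) → τ = 1 := by decide

/-- The conditions on a centraliser. -/
structure CentHyp (τ : C) : Prop where
  card : Nat.card C = 48
  order : orderOf τ = 2
  central : ∀ g : C, τ * g = g * τ
  count : Nat.card {g : C // g * g = 1} = 9 ∨ Nat.card {g : C // g * g = 1} = 10 ∨
    Nat.card {g : C // g * g = 1} = 14 ∨ Nat.card {g : C // g * g = 1} = 18
  wlow : 22 ≤ Nat.card {g : C // 2 ∣ orderOf g ∧ g ^ (orderOf g / 2) = τ}
  wne : Nat.card {g : C // 2 ∣ orderOf g ∧ g ^ (orderOf g / 2) = τ} ≠ 33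

variable {τ : C}

theorem CentHyp.sq (H : CentHyp τ) : τ * τ = 1 := by rw [← pow_two, ← H.order, pow_orderOf_eq_one]

theorem CentHyp.ne_one (H : CentHyp τ) : τ ≠ 1 := fun h => by
  have := H.order
  rw [h, orderOf_one] at this
  omega

theorem pow_sixteen {S : Subgroup C} (hS : Nat.card S = 16) {y : C} (hy : y ∈ S) : y ^ 16 = 1 :=
  orderOf_dvd_iff_pow_eq_one.1 (hS ▸ Subgroup.orderOf_dvd_natCard S hy)

theorem even_of_pow_sixteen {y : C} (h : y ^ 16 = 1) (hy : y ≠ 1) : 2 ∣ orderOf y := by
  obtain ⟨k, -, hk⟩ := (Nat.dvd_prime_pow Nat.prime_two).1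
    (show orderOf y ∣ 2 ^ 4 from orderOf_dvd_of_pow_eq_one h)
  rw [hk]
  exact dvd_pow_self 2 fun e => hy (orderOf_eq_one_iff.1 (by rw [hk, e, pow_zero]))

/-- There is no normal subgroup of order three. -/
theorem CentHyp.not_normal (H : CentHyp τ) {z : C} (hz : orderOf z = 3)
    (hn : ∀ g : C, g * z * g⁻¹ = z ∨ g * z * g⁻¹ = z⁻¹) : False := by
  classical
  haveI : Fintype C := Fintype.ofFinite C
  haveI : Fact (Nat.Prime 2) := ⟨Nat.prime_two⟩
  obtain ⟨S⟩ : Nonempty (Sylow 2 C) := inferInstance
  have hS : Nat.card (S : Subgroup C) = 16 :=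
    (SmallOrder.card_sylow_eq (k := 4) S (by rw [H.card]; norm_num) (by rw [H.card]; norm_num)).trans (by norm_num)
  have hττ := H.sq
  have hτ1 := H.ne_one
  have hτz : τ * z = z * τ := H.central z
  -- τ lies in S
  have hτS : τ ∈ (S : Subgroup C) := by
    obtain ⟨Q, hQ⟩ := (IsPGroup.of_card (n := 1) (by rw [Nat.card_zpowers, H.order, pow_one]) :
      IsPGroup 2 (Subgroup.zpowers τ)).exists_le_sylow
    obtain ⟨g, hg⟩ := MulAction.exists_smul_eq C Q S
    have : g * τ * g⁻¹ ∈ (S : Subgroup C) := by
      rw [← hg]; exact ⟨τ, hQ (Subgroup.mem_zpowers _), rfl⟩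
    rwa [← H.central g, mul_inv_cancel_right] at this
  -- the decomposition
  let Φ : Fin 3 × (S : Subgroup C) → C := fun p => z ^ (p.1 : ℕ) * (p.2 : C)
  have hΦ : Function.Bijective Φ := by
    rw [Nat.bijective_iff_injective_and_card]
    refine ⟨?_, by rw [Nat.card_prod, Nat.card_eq_fintype_card, Fintype.card_fin, H.card,
      show Nat.card (S : Subgroup C) = 16 from hS]⟩
    rintro ⟨i, y⟩ ⟨j, y'⟩ e
    have e1 : (z ^ (j : ℕ))⁻¹ * z ^ (i : ℕ) = (y' : C) * (y : C)⁻¹ := by
      rw [inv_mul_eq_iff_eq_mul, ← mul_assoc, eq_mul_inv_iff_mul_eq]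
      exact e
    set d := (y' : C) * (y : C)⁻¹
    have hd : d ^ 16 = 1 := pow_sixteen hS (mul_mem y'.2 (inv_mem y.2))
    have hd3 : d ^ 3 = 1 := by
      rw [← e1]
      have hzp : z ^ 3 = 1 := by rw [← hz, pow_orderOf_eq_one]
      rw [(((Commute.refl z).pow_pow _ _).inv_left).mul_pow, inv_pow, ← pow_mul, ← pow_mul,
        mul_comm (j : ℕ) 3, mul_comm (i : ℕ) 3, pow_mul, pow_mul, hzp]
      simp
    have hd1 : d = 1 := by
      have h15 : d ^ 16 = d := by rw [show (16 : ℕ) = 3 * 5 + 1 from rfl, pow_succ, pow_mul, hd3, one_pow, one_mul]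
      rw [hd] at h15
      exact h15.symm
    have hy : (y : C) = y' := (mul_inv_eq_one.1 hd1).symm
    rw [hd1, inv_mul_eq_one] at e1
    have := pow_inj_mod.1 e1
    rw [hz] at this
    exact Prod.ext (show i = j from Fin.ext (by omega)) (Subtype.ext hy)
  set R := Finset.univ.filter fun y : C => y ∈ (S : Subgroup C) ∧ y * z = z * y with hR
  set A := R.filter fun y : C => y * y = 1 with hA
  set B := Finset.univ.filter fun y : C => y ∈ (S : Subgroup C) ∧ ¬ y * z = z * y ∧ y * y = 1 with hB
  have hinvert : ∀ y : C, ¬ y * z = z * y → y * z * y⁻¹ = z⁻¹ := fun y hy =>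
    (hn y).resolve_left fun e => hy (mul_inv_eq_iff_eq_mul.1 e)
  have hzp : z ^ 3 = 1 := by rw [← hz, pow_orderOf_eq_one]
  have hsqC : ∀ (y : C) (i : ℕ), y * z = z * y → (z ^ i * y) * (z ^ i * y) = z ^ (i + i) * (y * y) := by
    intro y i hy
    rw [pow_add, mul_assoc, ← mul_assoc y, ((show Commute y z from hy).pow_right i).eq]
    group
  have hsqI : ∀ (y : C) (i : ℕ), ¬ y * z = z * y → (z ^ i * y) * (z ^ i * y) = y * y := by
    intro y i hy
    have : y * z ^ i * y⁻¹ = (z ^ i)⁻¹ := by rw [← conj_pow, hinvert y hy, inv_pow]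
    rw [mul_assoc, ← mul_assoc y, show y * z ^ i = (z ^ i)⁻¹ * y by rw [← this]; group]
    group
  have hz2 : ∀ i : Fin 3, z ^ ((i : ℕ) + i) = 1 → i = 0 := fun i hi => by
    have := orderOf_dvd_of_pow_eq_one hi
    rw [hz] at this
    have := i.2
    exact Fin.ext (by simp; omega)
  have h16 : ∀ y : C, y ∈ (S : Subgroup C) → y ^ 16 = 1 := fun y hy => pow_sixteen hS hy
  -- the elements of square one
  have hcount : Nat.card {g : C // g * g = 1} = A.card + 3 * B.card := by
    rw [← Nat.card_congr ((Equiv.ofBijective Φ hΦ).subtypeEquiv (p := fun p => Φ p * Φ p = 1) fun p => Iff.rfl),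
      Nat.card_eq_fintype_card, Fintype.card_subtype]
    have e : (Finset.univ.filter fun p : Fin 3 × (S : Subgroup C) => Φ p * Φ p = 1).map
        ⟨fun p => (p.1, (p.2 : C)), fun p q e => Prod.ext (Prod.mk.injEq .. ▸ e).1
          (Subtype.ext (Prod.mk.injEq .. ▸ e).2)⟩ = ({(0 : Fin 3)} : Finset _) ×ˢ A ∪ Finset.univ ×ˢ B := by
      ext ⟨i, y⟩
      simp only [Finset.mem_map, Finset.mem_filter, Finset.mem_univ, true_and, Function.Embedding.coeFn_mk,
        Prod.mk.injEq, Finset.mem_union, Finset.mem_product, Finset.mem_singleton, hA, hB, hR, Φ]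
      constructor
      · rintro ⟨⟨j, w⟩, hw, rfl, rfl⟩
        by_cases hc : (w : C) * z = z * w
        · left
          rw [hsqC _ _ hc] at hw
          have hy : ((w : C) * w) = 1 := by
            have h1 : ((w : C) * w) ^ 3 = 1 := by
              rw [eq_inv_of_mul_eq_one_right hw, inv_pow, ← pow_mul, mul_comm, pow_mul, hzp, one_pow, inv_one]
            have h2 : ((w : C) * w) ^ 16 = 1 := h16 _ (mul_mem w.2 w.2)
            rw [show (16 : ℕ) = 3 * 5 + 1 from rfl, pow_succ, pow_mul, h1, one_pow, one_mul] at h2
            exact h2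
          rw [hy, mul_one] at hw
          exact ⟨hz2 j hw, ⟨w.2, hc⟩, hy⟩
        · right
          rw [hsqI _ _ hc] at hw
          exact ⟨w.2, hc, hw⟩
      · rintro (⟨rfl, ⟨hy, hc⟩, hyy⟩ | ⟨hy, hc, hyy⟩)
        · exact ⟨((0 : Fin 3), ⟨y, hy⟩), by simp [hyy], rfl⟩
        · exact ⟨(i, ⟨y, hy⟩), by rw [hsqI _ _ hc, hyy], rfl⟩
    have := congrArg Finset.card e
    rw [Finset.card_map, Finset.card_union_of_disjoint, Finset.card_product, Finset.card_product,
      Finset.card_singleton, Finset.card_univ, Fintype.card_fin, one_mul] at this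
    · exact this
    · rw [Finset.disjoint_left]
      rintro ⟨i, y⟩ h1 h2
      simp only [hA, hB, hR, Finset.mem_product, Finset.mem_filter] at h1 h2
      exact h2.2.2.2.1 h1.2.1.2.2
  have hτA : τ ∈ A := by simp [hA, hR, hτS, hτz, hττ]
  have h1A : (1 : C) ∈ A := by simp [hA, hR]
  have hAev : Even A.card := even_of_mul hττ hτ1 fun a ha => by
    simp only [hA, hR, Finset.mem_filter, Finset.mem_univ, true_and] at ha ⊢
    exact ⟨⟨mul_mem ha.1.1 hτS, (Commute.mul_left (show Commute a z from ha.1.2) hτz).eq⟩,
      by rw [mul_assoc a, ← mul_assoc τ, H.central a, mul_assoc a τ, hττ, mul_one, ha.2]⟩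
  have hBev : Even B.card := even_of_mul hττ hτ1 fun a ha => by
    simp only [hB, Finset.mem_filter, Finset.mem_univ, true_and] at ha ⊢
    refine ⟨mul_mem ha.1 hτS, fun e => ha.2.1 ?_,
      by rw [mul_assoc a, ← mul_assoc τ, H.central a, mul_assoc a τ, hττ, mul_one, ha.2.2]⟩
    have := (Commute.mul_left (show Commute (a * τ) z from e) hτz).eq
    rwa [mul_assoc a τ τ, hττ, mul_one] at this
  have hA2 : 2 ≤ A.card := Finset.one_lt_card.2 ⟨1, h1A, τ, hτA, hτ1.symm⟩
  have hSF : (Finset.univ.filter fun y : C => y ∈ (S : Subgroup C)).card = 16 := by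
    rw [← hS, show Nat.card (S : Subgroup C) = Nat.card {y : C // y ∈ (S : Subgroup C)} from rfl,
      Nat.card_eq_fintype_card, Fintype.card_subtype]
  -- the elements whose involution is τ
  set Wset := Finset.univ.filter fun g : C => 2 ∣ orderOf g ∧ g ^ (orderOf g / 2) = τ with hW
  have hWc : Nat.card {g : C // 2 ∣ orderOf g ∧ g ^ (orderOf g / 2) = τ} = Wset.card := by
    rw [Nat.card_eq_fintype_card, Fintype.card_subtype]
  set Q := Finset.univ.filter fun y : C => y ∈ (S : Subgroup C) ∧ (y * y = 1 → y = τ) with hQ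
  have hQc : Q.card + A.card + B.card = 17 := by
    have hd : Disjoint A B := by
      rw [Finset.disjoint_left]
      intro y h1 h2
      simp only [hA, hB, hR, Finset.mem_filter] at h1 h2
      exact h2.2.2.1 h1.1.2.2
    have hAB : (Finset.univ.filter fun y : C => y ∈ (S : Subgroup C) ∧ y * y = 1) = A ∪ B := by
      ext y
      simp only [hA, hB, hR, Finset.mem_filter, Finset.mem_univ, true_and, Finset.mem_union]
      tauto
    have hQ' : Q = insert τ ((Finset.univ.filter fun y : C => y ∈ (S : Subgroup C)) \
        (Finset.univ.filter fun y : C => y ∈ (S : Subgroup C) ∧ y * y = 1)) := by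
      ext y
      simp only [hQ, Finset.mem_filter, Finset.mem_univ, true_and, Finset.mem_insert, Finset.mem_sdiff]
      constructor
      · rintro ⟨h1, h2⟩
        by_cases h3 : y * y = 1
        · exact Or.inl (h2 h3)
        · exact Or.inr ⟨h1, fun e => h3 e.2⟩
      · rintro (rfl | ⟨h1, h2⟩)
        · exact ⟨hτS, fun _ => rfl⟩
        · exact ⟨h1, fun e => absurd ⟨h1, e⟩ h2⟩
    rw [hQ', Finset.card_insert_of_notMem (by simp [hτS, hττ]), Finset.card_sdiff_of_subset
      (fun y hy => by
        simp only [Finset.mem_filter, Finset.mem_univ, true_and] at hy ⊢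
        exact hy.1), hSF, hAB,
      Finset.card_union_of_disjoint hd]
    have : A.card + B.card ≤ 16 := by
      rw [← Finset.card_union_of_disjoint hd, ← hAB, ← hSF]
      exact Finset.card_le_card fun y hy => by
        simp only [Finset.mem_filter, Finset.mem_univ, true_and] at hy ⊢
        exact hy.1
    omega
  have hWQ : Wset ⊆ ((Finset.univ : Finset (Fin 3)) ×ˢ Q).image fun p => z ^ (p.1 : ℕ) * p.2 := by
    intro g hg
    simp only [hW, Finset.mem_filter, Finset.mem_univ, true_and] at hg
    obtain ⟨⟨i, y⟩, rfl⟩ := hΦ.2 g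
    refine Finset.mem_image.2 ⟨(i, (y : C)), Finset.mem_product.2 ⟨Finset.mem_univ _,
      Finset.mem_filter.2 ⟨Finset.mem_univ _, y.2, fun hy2 => ?_⟩⟩, rfl⟩
    change 2 ∣ orderOf (z ^ (i : ℕ) * (y : C)) ∧
      (z ^ (i : ℕ) * (y : C)) ^ (orderOf (z ^ (i : ℕ) * (y : C)) / 2) = τ at hg
    change (y : C) * (y : C) = 1 at hy2
    show (y : C) = τ
    set g := z ^ (i : ℕ) * (y : C) with hgdef
    have hg2 := hg.2
    by_cases hc : (y : C) * z = z * y
    · have hg6 : g ^ 6 = 1 := by
        rw [hgdef, (((show Commute (y : C) z from hc).pow_right i).symm).mul_pow, ← pow_mul,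
          show (i : ℕ) * 6 = 3 * (2 * i) by ring, pow_mul, hzp, one_pow, one_mul,
          show (6 : ℕ) = 2 * 3 from rfl, pow_mul, pow_two, hy2, one_pow]
      have hg3 : g ^ 3 = (y : C) := by
        rw [hgdef, (((show Commute (y : C) z from hc).pow_right i).symm).mul_pow, ← pow_mul, mul_comm (i : ℕ),
          pow_mul, hzp, one_pow, one_mul, pow_succ, pow_two, hy2, one_mul]
      have ho : orderOf g ∣ 6 := orderOf_dvd_of_pow_eq_one hg6
      have := Nat.le_of_dvd (by norm_num) ho
      obtain ⟨c, hc6⟩ := hg.1
      have hcc : c = 1 ∨ c = 3 := by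
        have : c ≤ 3 := by omega
        interval_cases c
        · exact absurd (show orderOf g = 0 by omega) (orderOf_pos g).ne'
        · exact Or.inl rfl
        · rw [hc6] at ho; norm_num at ho
        · exact Or.inr rfl
      rcases hcc with rfl | rfl
      · rw [hc6] at hg2
        norm_num at hg2
        have : (y : C) = g * g * g := by rw [← hg3, pow_succ, pow_two]
        rw [this, hg2, hττ, one_mul]
      · rw [hc6] at hg2
        norm_num at hg2
        rw [← hg3]; exact hg2
    · have hgg : g * g = 1 := by rw [hgdef, hsqI _ _ hc, hy2]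
      have ho : orderOf g = 2 := le_antisymm
        (Nat.le_of_dvd two_pos (orderOf_dvd_of_pow_eq_one (by rw [pow_two, hgg])))
        (Nat.le_of_dvd (orderOf_pos g) hg.1)
      rw [ho, show (2 : ℕ) / 2 = 1 from rfl, pow_one] at hg2
      exfalso
      refine hc ?_
      have h1 : (y : C) = (z ^ (i : ℕ))⁻¹ * τ := by rw [← hg2, hgdef, inv_mul_cancel_left]
      rw [h1]
      exact ((((Commute.refl z).pow_left _).inv_left).mul_left hτz).eq
  have hW1 : Wset.card ≤ 3 * Q.card := by
    refine (Finset.card_le_card hWQ).trans (Finset.card_image_le.trans ?_)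
    rw [Finset.card_product, Finset.card_univ, Fintype.card_fin]
  have hlow := H.wlow
  rw [hWc] at hlow
  have hne := H.wne
  rw [hWc] at hne
  have hcnt := H.count
  rw [hcount] at hcnt
  obtain ⟨na, hna⟩ := hAev
  obtain ⟨nb, hnb⟩ := hBev
  have hcases : (A.card = 2 ∧ B.card = 4) ∨ (A.card = 4 ∧ B.card = 2) := by omega
  -- products
  have hnc : ∀ a b : C, ¬ a * z = z * a → ¬ b * z = z * b → a * b * z = z * (a * b) := by
    intro a b ha hb
    rw [← mul_inv_eq_iff_eq_mul, mul_inv_rev, show a * b * z * (b⁻¹ * a⁻¹) = a * (b * z * b⁻¹) * a⁻¹ by group,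
      hinvert b hb, ← conj_inv, hinvert a ha, inv_inv]
  rcases hcases with ⟨hA', hB'⟩ | ⟨hA', hB'⟩
  · -- one involution centralising z
    have hAeq : A = {1, τ} := (Finset.eq_of_subset_of_card_le (by
      intro y hy
      simp only [Finset.mem_insert, Finset.mem_singleton] at hy
      rcases hy with rfl | rfl <;> assumption) (by rw [hA', Finset.card_pair hτ1.symm])).symm
    have hsub : ((Finset.univ : Finset (Fin 3)) ×ˢ Q).image (fun p => z ^ (p.1 : ℕ) * p.2) ⊆ Wset := by
      intro g hg
      obtain ⟨⟨i, y⟩, hp, rfl⟩ := Finset.mem_image.1 hg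
      simp only [hQ, Finset.mem_product, Finset.mem_univ, Finset.mem_filter, true_and] at hp
      obtain ⟨hy, hyq⟩ := hp
      set g := z ^ (i : ℕ) * y with hgdef
      have hy1 : y ≠ 1 := fun e => hτ1 (hyq (by rw [e, one_mul]) ▸ e)
      have heven : 2 ∣ orderOf g := by
        by_contra ho
        have hco : Nat.Coprime 16 (orderOf g) :=
          (Nat.Coprime.pow_left 4 ((Nat.prime_two.coprime_iff_not_dvd).2 ho))
        have hd : orderOf g ∣ 48 := H.card ▸ orderOf_dvd_natCard g
        have h3 : g ^ 3 = 1 := orderOf_dvd_iff_pow_eq_one.1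
          (Nat.Coprime.dvd_of_dvd_mul_left hco.symm (show orderOf g ∣ 16 * 3 from hd))
        by_cases hc : y * z = z * y
        · rw [hgdef, (((show Commute y z from hc).pow_right i).symm).mul_pow, ← pow_mul, mul_comm (i : ℕ),
            pow_mul, hzp, one_pow, one_mul] at h3
          have h2 : y ^ 16 = 1 := h16 y hy
          rw [show (16 : ℕ) = 3 * 5 + 1 from rfl, pow_succ, pow_mul, h3, one_pow, one_mul] at h2
          exact hy1 h2
        · have h32 : (g * g) ^ 3 = 1 := by rw [← pow_two, ← pow_mul, mul_comm, pow_mul, h3, one_pow]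
          rw [hgdef, hsqI _ _ hc] at h32
          have h2 : (y * y) ^ 16 = 1 := h16 _ (mul_mem hy hy)
          rw [show (16 : ℕ) = 3 * 5 + 1 from rfl, pow_succ, pow_mul, h32, one_pow, one_mul] at h2
          exact hc (hyq h2 ▸ hτz)
      set u := g ^ (orderOf g / 2) with hu
      have huu : u * u = 1 := by
        rw [hu, ← pow_add, show orderOf g / 2 + orderOf g / 2 = orderOf g by omega, pow_orderOf_eq_one]
      have hu1 : u ≠ 1 := by
        intro e
        have h0 := orderOf_pos g
        have := Nat.le_of_dvd (by omega) (orderOf_dvd_of_pow_eq_one (hu ▸ e))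
        omega
      obtain ⟨⟨j, w⟩, hjw⟩ := hΦ.2 u
      have huz : u * z = z * u := by
        by_cases hc : y * z = z * y
        · have hgz : Commute g z :=
            ((Commute.refl z).pow_left _).mul_left (show Commute y z from hc)
          exact (hgz.pow_left _).eq
        · have h4 : 2 ∣ orderOf g / 2 := by
            by_contra h4
            have h48 : orderOf g ∣ 48 := H.card ▸ orderOf_dvd_natCard g
            have hg6 : g ^ 6 = 1 := by
              refine orderOf_dvd_iff_pow_eq_one.1 ?_
              have : ∀ o ≤ 48, o ∣ 48 → 2 ∣ o → ¬ 2 ∣ o / 2 → o ∣ 6 := by decide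
              exact this _ (Nat.le_of_dvd (by norm_num) h48) h48 heven h4
            rw [show (6 : ℕ) = 2 * 3 from rfl, pow_mul, pow_two, hgdef, hsqI _ _ hc] at hg6
            have h2 : (y * y) ^ 16 = 1 := h16 _ (mul_mem hy hy)
            rw [show (16 : ℕ) = 3 * 5 + 1 from rfl, pow_succ, pow_mul, hg6, one_pow, one_mul] at h2
            exact hc (hyq h2 ▸ hτz)
          obtain ⟨m, hm⟩ := h4
          rw [hu, hm, pow_mul, pow_two, hgdef, hsqI _ _ hc]
          have hyy : Commute (y * y) z := hnc y y hc hc
          exact (hyy.pow_left m).eq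
      have hwz : (w : C) * z = z * w := by
        have h0 : (w : C) = (z ^ (j : ℕ))⁻¹ * u := by rw [← hjw]; simp [Φ]
        rw [h0]
        exact ((((Commute.refl z).pow_left _).inv_left).mul_left (show Commute u z from huz)).eq
      simp only [Φ] at hjw
      have hh := huu
      rw [← hjw, hsqC _ _ hwz] at hh
      have hw2 : (w : C) * w = 1 := by
        have h1 : ((w : C) * w) ^ 3 = 1 := by
          rw [eq_inv_of_mul_eq_one_right hh, inv_pow, ← pow_mul, mul_comm, pow_mul, hzp, one_pow, inv_one]
        have h2 : ((w : C) * w) ^ 16 = 1 := h16 _ (mul_mem w.2 w.2)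
        rw [show (16 : ℕ) = 3 * 5 + 1 from rfl, pow_succ, pow_mul, h1, one_pow, one_mul] at h2
        exact h2
      rw [hw2, mul_one] at hh
      have hj := hz2 j hh
      have hwA : (w : C) ∈ A := by simp [hA, hR, w.2, hwz, hw2]
      simp only [hW, Finset.mem_filter, Finset.mem_univ, true_and]
      refine ⟨heven, ?_⟩
      rw [hAeq, Finset.mem_insert, Finset.mem_singleton] at hwA
      rw [hj, Fin.val_zero, pow_zero, one_mul] at hjw
      rcases hwA with e | e
      · exact absurd (hjw ▸ e) hu1
      · exact hu ▸ hjw ▸ e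
    have hcard := Finset.card_le_card hsub
    rw [Finset.card_image_of_injOn, Finset.card_product, Finset.card_univ, Fintype.card_fin] at hcard
    · omega
    · rintro ⟨i, y⟩ hy ⟨j, y'⟩ hy' e
      simp only [Finset.coe_product, Set.mem_prod, hQ, Finset.coe_filter, Finset.mem_univ, true_and,
        Set.mem_setOf_eq] at hy hy'
      have := hΦ.1 (a₁ := (i, ⟨y, hy.2.1⟩)) (a₂ := (j, ⟨y', hy'.2.1⟩)) e
      simp only [Prod.mk.injEq, Subtype.mk.injEq] at this
      exact Prod.ext this.1 this.2
  · -- three involutions centralising z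
    have memA : ∀ y : C, y ∈ A ↔ (y ∈ (S : Subgroup C) ∧ y * z = z * y) ∧ y * y = 1 := fun y => by
      simp [hA, hR]
    have memB : ∀ y : C, y ∈ B ↔ y ∈ (S : Subgroup C) ∧ ¬ y * z = z * y ∧ y * y = 1 := fun y => by
      simp [hB]
    obtain ⟨s, hs⟩ : B.Nonempty := Finset.card_pos.1 (by omega)
    obtain ⟨hsS, hsz, hss⟩ := (memB s).1 hs
    have hne : s * τ ≠ s := fun e => hτ1 (mul_left_cancel (e.trans (mul_one s).symm))
    have hBeq : B = {s, s * τ} := (Finset.eq_of_subset_of_card_le (by
      intro y hy
      simp only [Finset.mem_insert, Finset.mem_singleton] at hy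
      rcases hy with rfl | rfl
      · exact hs
      · refine (memB _).2 ⟨mul_mem hsS hτS, fun e => hsz ?_,
          by rw [mul_assoc s, ← mul_assoc τ, H.central s, mul_assoc s τ, hττ, mul_one, hss]⟩
        have := (Commute.mul_left (show Commute (s * τ) z from e) hτz).eq
        rwa [mul_assoc s τ τ, hττ, mul_one] at this)
      (by rw [hB', Finset.card_pair hne.symm])).symm
    obtain ⟨v, hv, hv1, hvτ⟩ : ∃ v ∈ A, v ≠ 1 ∧ v ≠ τ := by
      obtain ⟨v, hv⟩ := (Finset.card_pos (s := (A.erase 1).erase τ)).1 (by
        rw [Finset.card_erase_of_mem (Finset.mem_erase.2 ⟨hτ1, hτA⟩), Finset.card_erase_of_mem h1A]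
        omega)
      simp only [Finset.mem_erase] at hv
      exact ⟨v, hv.2.2, hv.2.1, hv.1⟩
    obtain ⟨⟨hvS, hvz⟩, hvv⟩ := (memA v).1 hv
    have hAeq : A = {1, τ, v, v * τ} := (Finset.eq_of_subset_of_card_le (by
      intro y hy
      simp only [Finset.mem_insert, Finset.mem_singleton] at hy
      rcases hy with rfl | rfl | rfl | rfl
      · exact h1A
      · exact hτA
      · exact hv
      · exact (memA _).2 ⟨⟨mul_mem hvS hτS, (Commute.mul_left (show Commute v z from hvz) hτz).eq⟩,
          by rw [mul_assoc v, ← mul_assoc τ, H.central v, mul_assoc v τ, hττ, mul_one, hvv]⟩) (by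
      rw [hA']
      refine le_of_eq (Finset.card_eq_of_equiv_fin ?_).symm
      exact (Fintype.equivFinOfCardEq (by
        rw [Fintype.card_coe, Finset.card_insert_of_notMem, Finset.card_insert_of_notMem,
          Finset.card_pair fun e => hτ1 (mul_left_cancel ((mul_one v).trans e)).symm]
        · simp only [Finset.mem_insert, Finset.mem_singleton, not_or]
          exact ⟨hvτ.symm, fun e => hv1 (mul_right_cancel ((one_mul τ).trans e)).symm⟩
        · simp only [Finset.mem_insert, Finset.mem_singleton, not_or]
          exact ⟨hτ1.symm, hv1.symm, fun e => hvτ (mul_right_cancel (e.symm.trans hττ.symm))⟩)))).symm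
    -- no element of A outside ⟨τ⟩ commutes with s
    have hmove : ∀ a ∈ A, s * a = a * s → a = 1 ∨ a = τ := by
      intro a ha hsa
      obtain ⟨⟨haS, haz⟩, haa⟩ := (memA a).1 ha
      have hmem : s * a ∈ B := by
        refine (memB _).2 ⟨mul_mem hsS haS, fun e => hsz ?_, ?_⟩
        · have := (Commute.mul_left (show Commute (s * a) z from e) (show Commute a z from haz)).eq
          rwa [mul_assoc s a a, haa, mul_one] at this
        · rw [mul_assoc s a, ← mul_assoc a, ← hsa, mul_assoc s a a, haa, mul_one, hss]
      rw [hBeq, Finset.mem_insert, Finset.mem_singleton] at hmem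
      rcases hmem with e | e
      · exact Or.inl (mul_left_cancel (e.trans (mul_one s).symm))
      · exact Or.inr (mul_left_cancel e)
    have hconjA : ∀ (x : C), x ∈ (S : Subgroup C) → x * v * x⁻¹ = v ∨ x * v * x⁻¹ = v * τ := by
      intro x hx
      have hmem : x * v * x⁻¹ ∈ A := by
        refine (memA _).2 ⟨⟨mul_mem (mul_mem hx hvS) (inv_mem hx), ?_⟩, by rw [conj_mul, hvv]; group⟩
        by_cases hc : x * z = z * x
        · exact (((show Commute x z from hc).mul_left (show Commute v z from hvz)).mul_left (show Commute x z from hc).inv_left).eq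
        · have hx' : ¬ x⁻¹ * z = z * x⁻¹ := fun e => hc (by
            have := ((show Commute x⁻¹ z from e).inv_left).eq
            rwa [inv_inv] at this)
          refine hnc (x * v) x⁻¹ (fun e => hc ?_) hx'
          have := (Commute.mul_left (show Commute (x * v) z from e) (show Commute v z from hvz)).eq
          rwa [mul_assoc x v v, hvv, mul_one] at this
      rw [hAeq] at hmem
      simp only [Finset.mem_insert, Finset.mem_singleton] at hmem
      rcases hmem with e | e | e | e
      · exact absurd (conj_eq_one_iff.1 e) hv1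
      · exfalso
        apply hvτ
        have : v = x⁻¹ * τ * x := by rw [← e]; group
        rw [this, mul_assoc, H.central x, inv_mul_cancel_left]
      · exact Or.inl e
      · exact Or.inr e
    have hsv : s * v * s⁻¹ = v * τ := by
      refine (hconjA s hsS).resolve_left fun e => ?_
      rcases hmove v hv (mul_inv_eq_iff_eq_mul.1 e) with e' | e'
      · exact hv1 e'
      · exact hvτ e'
    -- an element commuting with s
    set F := R.filter fun y : C => y * s = s * y with hF
    have h1 : (Finset.univ.filter fun y : C => y ∈ (S : Subgroup C)).card ≤ 2 * R.card := by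
      refine card_le_twice (fun y hy => ?_) (fun a ha haR => ?_) (fun a ha b hb haR hbR => ?_)
      · simp only [hR, Finset.mem_filter, Finset.mem_univ, true_and] at hy ⊢
        exact hy.1
      · simp only [hR, Finset.mem_filter, Finset.mem_univ, true_and, not_and] at ha haR ⊢
        refine ⟨inv_mem ha, fun _ e => haR ha ?_⟩
        have := ((show Commute a⁻¹ z from e).inv_left).eq
        rwa [inv_inv] at this
      · simp only [hR, Finset.mem_filter, Finset.mem_univ, true_and, not_and] at ha hb haR hbR ⊢
        exact ⟨mul_mem ha hb, hnc a b (haR ha) (hbR hb)⟩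
    have hsconj : ∀ x ∈ R, x * s * x⁻¹ = s ∨ x * s * x⁻¹ = s * τ := by
      intro x hx
      simp only [hR, Finset.mem_filter, Finset.mem_univ, true_and] at hx
      have hmem : x * s * x⁻¹ ∈ B := by
        refine (memB _).2 ⟨mul_mem (mul_mem hx.1 hsS) (inv_mem hx.1), fun e => hsz ?_,
          by rw [conj_mul, hss]; group⟩
        have := (((show Commute x z from hx.2).inv_left.mul_left (show Commute (x * s * x⁻¹) z from e)).mul_left
          (show Commute x z from hx.2)).eq
        rwa [show x⁻¹ * (x * s * x⁻¹) * x = s by group] at this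
      simpa [hBeq] using hmem
    have h2 : R.card ≤ 2 * F.card := by
      refine card_le_twice (Finset.filter_subset _ _) (fun a ha haF => ?_) (fun a ha b hb haF hbF => ?_)
      · have haR := ha
        simp only [hF, hR, Finset.mem_filter, Finset.mem_univ, true_and, not_and] at ha haF ⊢
        refine ⟨⟨inv_mem ha.1, (show Commute a z from ha.2).inv_left.eq⟩, fun _ e => haF ha ?_⟩
        have := ((show Commute a⁻¹ s from e).inv_left).eq
        rwa [inv_inv] at this
      · have ha' := (hsconj a ha).resolve_left fun e => haF (Finset.mem_filter.2 ⟨ha, mul_inv_eq_iff_eq_mul.1 e⟩)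
        have hb' := (hsconj b hb).resolve_left fun e => hbF (Finset.mem_filter.2 ⟨hb, mul_inv_eq_iff_eq_mul.1 e⟩)
        refine Finset.mem_filter.2 ⟨?_, ?_⟩
        · simp only [hR, Finset.mem_filter, Finset.mem_univ, true_and] at ha hb ⊢
          exact ⟨mul_mem ha.1 hb.1, (Commute.mul_left (show Commute a z from ha.2) (show Commute b z from hb.2)).eq⟩
        · rw [← mul_inv_eq_iff_eq_mul, mul_inv_rev, show a * b * s * (b⁻¹ * a⁻¹) = a * (b * s * b⁻¹) * a⁻¹ by group,
            hb', show a * (s * τ) * a⁻¹ = a * s * a⁻¹ * (a * τ * a⁻¹) by group, ha',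
            show a * τ * a⁻¹ = τ by rw [← H.central a, mul_inv_cancel_right], mul_assoc, hττ, mul_one]
    obtain ⟨y₀, hy₀F, hy₀⟩ : ∃ y ∈ F, y * y ≠ 1 := by
      by_contra hall
      push Not at hall
      have hsub : F ⊆ {1, τ} := fun y hy => by
        have hyy := hall y hy
        simp only [hF, hR, Finset.mem_filter, Finset.mem_univ, true_and] at hy
        have := hmove y ((memA y).2 ⟨hy.1, hyy⟩) hy.2.symm
        simpa using this
      have := Finset.card_le_card hsub
      have := Finset.card_le_two (a := (1 : C)) (b := τ)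
      omega
    simp only [hF, hR, Finset.mem_filter, Finset.mem_univ, true_and] at hy₀F
    obtain ⟨⟨hy₀S, hy₀z⟩, hy₀s⟩ := hy₀F
    obtain ⟨y, hyS, hyz, hys, hy1, hy2⟩ : ∃ y : C, y ∈ (S : Subgroup C) ∧ y * z = z * y ∧
        y * s = s * y ∧ y * y ≠ 1 ∧ (y * y) * (y * y) = 1 := by
      by_cases h4 : (y₀ * y₀) * (y₀ * y₀) = 1
      · exact ⟨y₀, hy₀S, hy₀z, hy₀s, hy₀, h4⟩
      refine ⟨y₀ * y₀, mul_mem hy₀S hy₀S, (Commute.mul_left (show Commute y₀ z from hy₀z) hy₀z).eq,
        (Commute.mul_left (show Commute y₀ s from hy₀s) hy₀s).eq, h4, ?_⟩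
      have h16' : y₀ ^ 16 = 1 := h16 y₀ hy₀S
      have ho : orderOf y₀ ∣ 16 := orderOf_dvd_of_pow_eq_one h16'
      have hlt : orderOf y₀ ≠ 16 := by
        intro e
        have heq : Subgroup.zpowers y₀ = (S : Subgroup C) := Subgroup.eq_of_le_of_card_ge
          (Subgroup.zpowers_le.2 hy₀S) (by rw [Nat.card_zpowers, e]; exact hS.le)
        have hsmem : s ∈ Subgroup.zpowers y₀ := heq ▸ hsS
        obtain ⟨k, hk⟩ := hsmem
        exact hsz (hk ▸ ((show Commute y₀ z from hy₀z).zpow_left k).eq)
      have h8 : orderOf y₀ ∣ 8 := by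
        have : ∀ o ≤ 16, o ∣ 16 → o ≠ 16 → o ∣ 8 := by decide
        exact this _ (Nat.le_of_dvd (by norm_num) ho) ho hlt
      have := orderOf_dvd_iff_pow_eq_one.1 h8
      simpa [pow_succ, mul_assoc] using this
    have hyy : y * y = τ := by
      refine (hmove (y * y) ((memA _).2 ⟨⟨mul_mem hyS hyS, (Commute.mul_left (show Commute y z from hyz) hyz).eq⟩, hy2⟩)
        (Commute.mul_left (show Commute y s from hys) hys).eq.symm).resolve_left hy1
    have hyA : ∀ a ∈ A, y ≠ a := fun a ha e => hy1 (e ▸ ((memA a).1 ha).2)
    rcases hconjA y hyS with hyv | hyv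
    · -- s y v is a new involution
      have hyv' : y * v = v * y := mul_inv_eq_iff_eq_mul.1 hyv
      have hsv' : s * v = v * τ * s := mul_inv_eq_iff_eq_mul.1 hsv
      have hmem : s * (y * v) ∈ B := by
        refine (memB _).2 ⟨mul_mem hsS (mul_mem hyS hvS), fun e => hsz ?_, ?_⟩
        · have hyvz : Commute (y * v) z := Commute.mul_left hyz hvz
          have := (Commute.mul_left (show Commute (s * (y * v)) z from e) hyvz.inv_left).eq
          rwa [mul_assoc s, mul_inv_cancel, mul_one] at this
        · calc s * (y * v) * (s * (y * v)) = s * y * (v * s) * y * v := by group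
            _ = y * s * (v * s) * y * v := by rw [hys]
            _ = y * (s * v) * s * y * v := by group
            _ = y * (v * τ * s) * s * y * v := by rw [hsv']
            _ = y * v * τ * (s * s) * y * v := by group
            _ = y * v * (τ * y) * v := by rw [hss]; group
            _ = y * (v * y) * τ * v := by rw [H.central y]; group
            _ = y * y * v * (τ * v) := by rw [← hyv']; group
            _ = 1 := by rw [hyy, mul_assoc τ v, ← mul_assoc v τ v, ← H.central v, mul_assoc τ v v, hvv, mul_one, hττ]
      rw [hBeq, Finset.mem_insert, Finset.mem_singleton] at hmem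
      rcases hmem with e | e
      · have e' : y * v = 1 := mul_left_cancel (e.trans (mul_one s).symm)
        exact hyA v hv (by rw [eq_inv_of_mul_eq_one_left e', inv_eq_of_mul_eq_one_right hvv])
      · have e' : y * v = τ := mul_left_cancel e
        refine hyA (v * τ) (by rw [hAeq]; simp) ?_
        rw [← H.central v, ← e', mul_assoc, hvv, mul_one]
    · -- y v is an involution centralising z
      have hyv' : y * v = v * τ * y := mul_inv_eq_iff_eq_mul.1 hyv
      have hmem : y * v ∈ A := by
        refine (memA _).2 ⟨⟨mul_mem hyS hvS, (Commute.mul_left (show Commute y z from hyz) hvz).eq⟩, ?_⟩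
        calc y * v * (y * v) = v * τ * y * (y * v) := by rw [← hyv']
          _ = v * τ * (y * y) * v := by group
          _ = v * (τ * τ) * v := by rw [hyy]; group
          _ = 1 := by rw [hττ, mul_one, hvv]
      rw [hAeq] at hmem
      simp only [Finset.mem_insert, Finset.mem_singleton] at hmem
      rcases hmem with e | e | e | e
      · exact hyA v hv (by rw [eq_inv_of_mul_eq_one_left e, inv_eq_of_mul_eq_one_right hvv])
      · refine hyA (v * τ) (by rw [hAeq]; simp) ?_
        rw [← H.central v, ← e, mul_assoc, hvv, mul_one]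
      · exact hyA 1 h1A (mul_eq_right.1 e)
      · exact hyA τ hτA (by
          have := congrArg (· * v) e
          simp only [mul_assoc] at this
          rw [hvv, mul_one, H.central v, ← mul_assoc, hvv, one_mul] at this
          exact this)

/-- The centraliser of an element of order three has order six, and an involution inverts it. -/
theorem CentHyp.main (H : CentHyp τ) {z : C} (hz : orderOf z = 3) :
    Nat.card (Subgroup.centralizer ({z} : Set C)) = 6 ∧
      ∃ s : C, orderOf s = 2 ∧ s ≠ τ ∧ s * z * s⁻¹ = z⁻¹ := by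
  classical
  haveI : Fintype C := Fintype.ofFinite C
  haveI h3 : Fact (Nat.Prime 3) := ⟨Nat.prime_three⟩
  haveI h2 : Fact (Nat.Prime 2) := ⟨Nat.prime_two⟩
  have hττ := H.sq
  have hτ1 := H.ne_one
  obtain ⟨P, hP⟩ := (IsPGroup.of_card (n := 1) (by rw [Nat.card_zpowers, hz, pow_one]) :
    IsPGroup 3 (Subgroup.zpowers z)).exists_le_sylow
  have hP3 : Nat.card P = 3 ^ 1 := SmallOrder.card_sylow_eq P (by rw [H.card]; norm_num) (by rw [H.card]; norm_num)
  have hPz : Subgroup.zpowers z = (P : Subgroup C) := Subgroup.eq_of_le_of_card_ge hP (by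
    rw [Nat.card_zpowers, hz]; exact hP3.le)
  have hnorm : ∀ g : C, g ∈ Subgroup.normalizer ((P : Subgroup C) : Set C) →
      g * z * g⁻¹ = z ∨ g * z * g⁻¹ = z⁻¹ := fun g hg => by
    refine conj_eq_or_inv hz ?_ (by rw [← MulAut.conj_apply, MulEquiv.orderOf_eq, hz])
    rw [hPz]
    exact (Subgroup.mem_normalizer_iff.1 hg z).1 (hPz ▸ Subgroup.mem_zpowers z)
  have hN := SmallOrder.card_normalizer_mul_card_sylow P
  change Nat.card (Subgroup.normalizer ((P : Subgroup C) : Set C)) * _ = _ at hN
  rw [H.card] at hN
  have hn := SmallOrder.card_sylow_mem_filter P (n := 16) hP3 (by rw [H.card]; norm_num) (by norm_num)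
  rw [show (Nat.divisors 16).filter (fun d => d % 3 = 1) = {1, 4, 16} by decide] at hn
  simp only [Finset.mem_insert, Finset.mem_singleton] at hn
  have hτN : τ ∈ Subgroup.normalizer ((P : Subgroup C) : Set C) :=
    Subgroup.mem_normalizer_iff.2 fun x => by rw [H.central x, mul_inv_cancel_right]
  rcases hn with hn | hn | hn
  · exfalso
    refine H.not_normal hz fun g => hnorm g ?_
    have htop : Subgroup.normalizer ((P : Subgroup C) : Set C) = ⊤ := Subgroup.eq_top_of_card_eq _ (by
      rw [H.card]; rw [hn, mul_one] at hN; exact hN)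
    rw [htop]; exact Subgroup.mem_top g
  swap
  · exfalso
    have := Subgroup.orderOf_dvd_natCard _ hτN
    rw [H.order, show Nat.card (Subgroup.normalizer ((P : Subgroup C) : Set C)) = 3 by
      rw [hn] at hN; omega] at this
    norm_num at this
  rw [hn] at hN
  have hN12 : Nat.card (Subgroup.normalizer ((P : Subgroup C) : Set C)) = 12 := by omega
  set D := Subgroup.centralizer ({z} : Set C) with hD
  have hDN : D ≤ Subgroup.normalizer ((P : Subgroup C) : Set C) := by
    rw [← hPz]
    intro g hg
    have hgc : Commute g z := Subgroup.mem_centralizer_singleton_iff.1 hg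
    refine Subgroup.mem_normalizer_iff.2 fun x => ⟨?_, fun hx => ?_⟩
    · rintro ⟨k, rfl⟩
      exact ⟨k, by show z ^ k = g * z ^ k * g⁻¹; rw [(hgc.zpow_right k).eq, mul_inv_cancel_right]⟩
    · obtain ⟨k, hk⟩ := hx
      refine ⟨k, ?_⟩
      show z ^ k = x
      have : x = g⁻¹ * z ^ k * g := by rw [show z ^ k = g * x * g⁻¹ from hk]; group
      rw [this, mul_assoc, ← (hgc.zpow_right k).eq, inv_mul_cancel_left]
  have hD12 : Nat.card D ∣ 12 := hN12 ▸ Subgroup.card_dvd_of_le hDN
  have hD6 : 6 ∣ Nat.card D := Nat.Coprime.mul_dvd_of_dvd_of_dvd (m := 2) (n := 3) (by norm_num)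
    (H.order ▸ Subgroup.orderOf_dvd_natCard _ (Subgroup.mem_centralizer_singleton_iff.2 (H.central z)))
    (hz ▸ Subgroup.orderOf_dvd_natCard _ (Subgroup.mem_centralizer_singleton_iff.2 rfl))
  -- the action on the four subgroups of order three
  obtain ⟨e⟩ : Nonempty (Sylow 3 C ≃ Fin 4) := ⟨(Finite.equivFinOfCardEq hn)⟩
  let φ : C →* Equiv.Perm (Fin 4) :=
    { toFun := fun g => (e.symm.trans (MulAction.toPerm g)).trans e
      map_one' := by ext i; simp
      map_mul' := fun g h => by ext i; simp [Equiv.Perm.mul_apply, mul_smul] }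
  have hφ : ∀ (g : C) (Q : Sylow 3 C), φ g (e Q) = e (g • Q) := fun g Q => by simp [φ]
  have hkerN : ∀ g ∈ φ.ker, ∀ Q : Sylow 3 C, g ∈ Subgroup.normalizer ((Q : Subgroup C) : Set C) := by
    intro g hg Q
    have := hφ g Q
    rw [MonoidHom.mem_ker.1 hg, Equiv.Perm.one_apply, e.injective.eq_iff] at this
    exact Sylow.smul_eq_iff_mem_normalizer.1 this.symm
  obtain ⟨Q, hQ⟩ : ∃ Q : Sylow 3 C, Q ≠ P := by
    by_contra hall
    push Not at hall
    haveI : Subsingleton (Sylow 3 C) := ⟨fun a b => (hall a).trans (hall b).symm⟩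
    rw [Nat.card_unique] at hn
    norm_num at hn
  have hker3 : ∀ g : C, g ^ 3 = 1 → g ∈ φ.ker → g = 1 := by
    intro g hg hgK
    by_contra hg1
    have hgo : orderOf g = 3 := orderOf_eq_prime hg hg1
    have key : ∀ T : Sylow 3 C, Subgroup.zpowers g = (T : Subgroup C) := by
      intro T
      have hsub : IsPGroup 3 (Subgroup.zpowers g) := IsPGroup.of_card (n := 1) (by rw [Nat.card_zpowers, hgo, pow_one])
      have hle : Subgroup.zpowers g ≤ (T : Subgroup C) := by
        have := hsub.inf_normalizer_sylow T
        change _ ⊓ Subgroup.normalizer ((T : Subgroup C) : Set C) = _ at this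
        rw [inf_eq_left.2 (Subgroup.zpowers_le.2 (hkerN g hgK T))] at this
        exact this.le.trans inf_le_right
      exact Subgroup.eq_of_le_of_card_ge hle (by
        rw [Nat.card_zpowers, hgo]
        exact ((SmallOrder.card_sylow_eq (k := 1) T (by rw [H.card]; norm_num)
          (by rw [H.card]; norm_num)).trans (pow_one 3)).le)
    exact hQ (Sylow.ext ((key Q).symm.trans (key P)))
  have hkerD : φ.ker ≤ D := by
    intro g hg
    refine Subgroup.mem_centralizer_singleton_iff.2 ?_
    rcases hnorm g (hkerN g hg P) with e' | e'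
    · exact mul_inv_eq_iff_eq_mul.1 e'
    exfalso
    have hmem : g * z * g⁻¹ * z⁻¹ ∈ φ.ker := by
      rw [mul_assoc, mul_assoc]
      exact mul_mem hg (by rw [← mul_assoc]; exact φ.normal_ker.conj_mem _ (inv_mem hg) z)
    rw [e'] at hmem
    have hz3 : z ^ 3 = 1 := by rw [← hz, pow_orderOf_eq_one]
    have h1 := hker3 (z⁻¹ * z⁻¹) (by
      rw [← pow_two, ← pow_mul, inv_pow, show 2 * 3 = 3 * 2 from rfl, pow_mul, hz3, one_pow, inv_one]) hmem
    have : z ^ 2 = 1 := by rw [← inv_inj, inv_one, ← inv_pow, pow_two, h1]
    have := orderOf_dvd_of_pow_eq_one this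
    rw [hz] at this
    norm_num at this
  have hker4 : Nat.card φ.ker ∣ 4 := by
    have h12 : Nat.card φ.ker ∣ 12 := (Subgroup.card_dvd_of_le hkerD).trans hD12
    refine Nat.Coprime.dvd_of_dvd_mul_right (k := Nat.card φ.ker) (n := 3) ?_ (show Nat.card φ.ker ∣ 4 * 3 from h12)
    refine ((Nat.prime_three.coprime_iff_not_dvd).2 fun hd => ?_).symm
    obtain ⟨g, hg⟩ := exists_prime_orderOf_dvd_card' 3 hd
    have h1 := hker3 g (by
      have := pow_orderOf_eq_one g
      rw [hg] at this
      exact congrArg Subtype.val this) g.2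
    rw [show g = 1 from Subtype.ext h1, orderOf_one] at hg
    norm_num at hg
  have hDcases : Nat.card D = 6 ∨ Nat.card D = 12 := by
    have : ∀ d ≤ 12, d ∣ 12 → 6 ∣ d → d = 6 ∨ d = 12 := by decide
    exact this _ (Nat.le_of_dvd (by norm_num) hD12) hD12 hD6
  rcases hDcases with hD' | hD'
  · refine ⟨hD', ?_⟩
    by_contra hno
    push Not at hno
    have hker2 : Nat.card φ.ker ∣ 2 := by
      have h6 : Nat.card φ.ker ∣ 6 := hD' ▸ Subgroup.card_dvd_of_le hkerD
      have := Nat.dvd_gcd hker4 h6
      rwa [show Nat.gcd 4 6 = 2 by decide] at this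
    have hfpf : ∀ g : C, g * g = 1 → φ g = 1 ∨ ∀ i, φ g i ≠ i := by
      intro g hg
      by_cases hgτ : g = 1 ∨ g = τ
      · left
        rcases hgτ with e' | e'
        · rw [e']; exact map_one φ
        · rw [e']
          ext i
          obtain ⟨T, rfl⟩ := e.surjective i
          rw [hφ, Equiv.Perm.one_apply, (Sylow.smul_eq_iff_mem_normalizer.2
            (Subgroup.mem_normalizer_iff.2 fun x => by rw [H.central x, mul_inv_cancel_right]) : τ • T = T)]
      right
      push Not at hgτ
      intro i hi
      obtain ⟨T, rfl⟩ := e.surjective i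
      rw [hφ, e.injective.eq_iff] at hi
      obtain ⟨c, rfl⟩ := MulAction.exists_smul_eq C P T
      set g' := c⁻¹ * g * c with hg'
      have hg'P : g' • P = P := by rw [hg', mul_smul, mul_smul, hi, inv_smul_smul]
      have hg'g : g' * g' = 1 := by
        rw [hg', show c⁻¹ * g * c * (c⁻¹ * g * c) = c⁻¹ * (g * g) * c by group, hg, mul_one, inv_mul_cancel]
      have hg'ne : g' ≠ 1 := fun e' => hgτ.1 (by
        have : g = c * g' * c⁻¹ := by rw [hg']; group
        rw [this, e', mul_one, mul_inv_cancel])
      have hg'τ : g' ≠ τ := fun e' => hgτ.2 (by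
        have : g = c * g' * c⁻¹ := by rw [hg']; group
        rw [this, e', ← H.central c, mul_inv_cancel_right])
      have ho : orderOf g' = 2 := orderOf_eq_prime (by rw [pow_two, hg'g]) hg'ne
      rcases hnorm g' (Sylow.smul_eq_iff_mem_normalizer.1 hg'P) with e' | e'
      · -- a second involution in the centraliser
        have hgD : g' ∈ D := Subgroup.mem_centralizer_singleton_iff.2 (mul_inv_eq_iff_eq_mul.1 e')
        let V : Subgroup C :=
          { carrier := {x | x = 1 ∨ x = τ ∨ x = g' ∨ x = g' * τ}
            one_mem' := Or.inl rfl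
            mul_mem' := by
              have hgt : τ * g' = g' * τ := H.central g'
              have p1 : g' * τ * τ = g' := by rw [mul_assoc, hττ, mul_one]
              have p2 : τ * (g' * τ) = g' := by rw [← mul_assoc, hgt, p1]
              have p3 : g' * (g' * τ) = τ := by rw [← mul_assoc, hg'g, one_mul]
              have p4 : g' * τ * g' = τ := by rw [mul_assoc, hgt, p3]
              have p5 : g' * τ * (g' * τ) = 1 := by rw [mul_assoc, p2, hg'g]
              intro a b ha hb
              rcases ha with ha | ha | ha | ha <;> rcases hb with hb | hb | hb | hb <;> rw [ha, hb] <;>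
                simp [hττ, hgt, hg'g, p1, p2, p3, p4, p5]
            inv_mem' := by
              intro a ha
              rcases ha with ha | ha | ha | ha <;> rw [ha]
              · exact Or.inl inv_one
              · exact Or.inr (Or.inl (inv_eq_of_mul_eq_one_right hττ))
              · exact Or.inr (Or.inr (Or.inl (inv_eq_of_mul_eq_one_right hg'g)))
              · refine Or.inr (Or.inr (Or.inr ?_))
                rw [mul_inv_rev, inv_eq_of_mul_eq_one_right hττ, inv_eq_of_mul_eq_one_right hg'g, H.central g'] }
        have hVD : V ≤ D := by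
          intro x hx
          rcases hx with hx | hx | hx | hx <;> rw [hx]
          · exact one_mem _
          · exact Subgroup.mem_centralizer_singleton_iff.2 (H.central z)
          · exact hgD
          · exact mul_mem hgD (Subgroup.mem_centralizer_singleton_iff.2 (H.central z))
        have hV4 : Nat.card V = 4 := by
          have e4 : (Finset.univ.filter fun x : C => x ∈ V) = {1, τ, g', g' * τ} := by
            ext x
            simp [V]
          rw [show Nat.card V = Nat.card {x : C // x ∈ V} from rfl, Nat.card_eq_fintype_card,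
            Fintype.card_subtype, e4, Finset.card_insert_of_notMem, Finset.card_insert_of_notMem,
            Finset.card_pair fun e'' => hτ1 (mul_left_cancel ((mul_one g').trans e'')).symm]
          · simp only [Finset.mem_insert, Finset.mem_singleton, not_or]
            exact ⟨hg'τ.symm, fun e'' => hg'ne (mul_right_cancel ((one_mul τ).trans e'')).symm⟩
          · simp only [Finset.mem_insert, Finset.mem_singleton, not_or]
            exact ⟨hτ1.symm, hg'ne.symm, fun e'' => hg'τ (mul_right_cancel (e''.symm.trans hττ.symm))⟩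
        have := Subgroup.card_dvd_of_le hVD
        rw [hV4, hD'] at this
        norm_num at this
      · exact hno g' ho hg'τ e'
    -- count the elements of square one
    set T := Finset.univ.filter fun g : C => g * g = 1 with hT
    have hle : T.card ≤ 2 * 4 := by
      refine le_trans (Finset.card_le_mul_card_image (f := fun g => φ g) T 2 fun σ hσ => ?_)
        (Nat.mul_le_mul_left 2 ?_)
      · obtain ⟨g₀, -, rfl⟩ := Finset.mem_image.1 hσ
        refine le_trans (Finset.card_le_card_of_injOn (fun g => g₀⁻¹ * g) (t := Finset.univ.filter fun k : C =>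
          k ∈ φ.ker) (fun g hg => ?_) fun a _ b _ h => mul_left_cancel h) ?_
        · simp only [Finset.coe_filter, Set.mem_setOf_eq, Finset.mem_univ, true_and] at hg ⊢
          rw [MonoidHom.mem_ker, map_mul, map_inv, hg.2, inv_mul_cancel]
        · rw [← Fintype.card_subtype, ← Nat.card_eq_fintype_card]
          exact Nat.le_of_dvd two_pos hker2
      · refine le_of_le_of_eq (Finset.card_le_card fun σ hσ => ?_) perm_fpf
        obtain ⟨g, hg, rfl⟩ := Finset.mem_image.1 hσ
        simp only [hT, Finset.mem_filter, Finset.mem_univ, true_and] at hg ⊢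
        exact ⟨by rw [← map_mul, hg, map_one], hfpf g hg⟩
    have hc := H.count
    rw [Nat.card_eq_fintype_card, Fintype.card_subtype] at hc
    change T.card = _ ∨ T.card = _ ∨ T.card = _ ∨ T.card = _ at hc
    omega
  · exfalso
    have hDeq : D = Subgroup.normalizer ((P : Subgroup C) : Set C) :=
      Subgroup.eq_of_le_of_card_ge hDN (by rw [hD', hN12])
    have hNC : Subgroup.normalizer ((P : Subgroup C) : Set C) ≤ Subgroup.centralizer ((P : Subgroup C) : Set C) := by
      rw [← hDeq, ← hPz]
      intro g hg x hx
      obtain ⟨k, rfl⟩ := hx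
      exact ((show Commute g z from Subgroup.mem_centralizer_singleton_iff.1 hg).zpow_right k).symm.eq
    set K := (MonoidHom.transferSylow P hNC).ker with hK
    have hK16 : Nat.card K = 16 := by
      have := (MonoidHom.ker_transferSylow_isComplement' P hNC).card_mul
      change Nat.card K * Nat.card P = _ at this
      rw [hP3, H.card] at this
      omega
    have hmemK : ∀ g : C, g ^ 16 = 1 → g ∈ K := by
      intro g hg
      rw [hK, MonoidHom.mem_ker]
      have h1 : (MonoidHom.transferSylow P hNC g) ^ 16 = 1 := by rw [← map_pow, hg, map_one]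
      have h2 := pow_card_eq_one' (x := MonoidHom.transferSylow P hNC g)
      rw [show Nat.card ↥(P : Subgroup C) = 3 ^ 1 from hP3, pow_one] at h2
      rwa [show (16 : ℕ) = 3 * 5 + 1 from rfl, pow_succ, pow_mul, h2, one_pow, one_mul] at h1
    -- the kernel of the action has order four
    have hk4 : Nat.card φ.ker = 4 := by
      obtain ⟨V⟩ : Nonempty (Sylow 2 D) := inferInstance
      have hV : Nat.card V = 2 ^ 2 := SmallOrder.card_sylow_eq V (by rw [hD']; norm_num) (by rw [hD']; norm_num)
      have hle : (V : Subgroup D).map D.subtype ≤ φ.ker := by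
        rintro _ ⟨w, hw, rfl⟩
        rw [MonoidHom.mem_ker]
        have hw4 : (w : C) ^ 4 = 1 := by
          have := orderOf_dvd_iff_pow_eq_one.1 (hV ▸ Subgroup.orderOf_dvd_natCard _ hw)
          simpa using congrArg Subtype.val this
        have hz' : φ z ≠ 1 := fun h => by
          have := hker3 z (by rw [← hz, pow_orderOf_eq_one]) h
          rw [this, orderOf_one] at hz
          norm_num at hz
        have hz3 : φ z * φ z * φ z = 1 := by
          rw [← map_mul, ← map_mul, show z * z * z = z ^ 3 by rw [pow_succ, pow_two], ← hz, pow_orderOf_eq_one,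
            map_one]
        have hcomm : (w : C) * z = z * w := Subgroup.mem_centralizer_singleton_iff.1 w.2
        have hsq : φ ((w : C) * w) = 1 := perm_three_two (φ z) (φ ((w : C) * w)) ⟨hz3, hz',
          (by rw [← map_mul, show (w : C) * w * ((w : C) * w) = (w : C) ^ 4 by simp [pow_succ, mul_assoc],
            hw4, map_one]),
          (by rw [← map_mul, ← map_mul, (Commute.mul_left (show Commute (w : C) z from hcomm) hcomm).eq])⟩
        exact perm_three_two (φ z) (φ (w : C)) ⟨hz3, hz', (by rw [← map_mul, hsq]),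
          (by rw [← map_mul, ← map_mul, hcomm])⟩
      have h4 := Subgroup.card_dvd_of_le hle
      rw [Subgroup.card_subtype, show Nat.card (V : Subgroup D) = 2 ^ 2 from hV] at h4
      exact Nat.dvd_antisymm hker4 h4
    -- it is central
    have hcen : ∀ k ∈ φ.ker, ∀ g : C, k * g = g * k := by
      intro k hk g
      have hT : ∀ w : C, w ^ 3 = 1 → k * w = w * k := by
        intro w hw
        by_cases hw1 : w = 1
        · rw [hw1, mul_one, one_mul]
        have hwo : orderOf w = 3 := orderOf_eq_prime hw hw1
        obtain ⟨T, hT⟩ := (IsPGroup.of_card (n := 1) (by rw [Nat.card_zpowers, hwo, pow_one]) :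
          IsPGroup 3 (Subgroup.zpowers w)).exists_le_sylow
        obtain ⟨c, hc⟩ := MulAction.exists_smul_eq C P T
        have hwc : c⁻¹ * w * c ∈ Subgroup.zpowers z := by
          rw [hPz]
          have hwT : w ∈ (T : Subgroup C) := hT (Subgroup.mem_zpowers w)
          rw [← hc] at hwT
          obtain ⟨u, hu, hu'⟩ := hwT
          have hu'' : w = c * u * c⁻¹ := hu'.symm
          rw [hu'', show c⁻¹ * (c * u * c⁻¹) * c = u by group]
          exact hu
        obtain ⟨j, hj⟩ := hwc
        have hk' : c⁻¹ * k * c ∈ D := by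
          have := φ.normal_ker.conj_mem _ hk c⁻¹
          rw [inv_inv] at this
          exact hkerD this
        have hcz := ((show Commute (c⁻¹ * k * c) z from Subgroup.mem_centralizer_singleton_iff.1 hk').zpow_right j).eq
        rw [show z ^ j = c⁻¹ * w * c from hj] at hcz
        calc k * w = c * ((c⁻¹ * k * c) * (c⁻¹ * w * c)) * c⁻¹ := by group
          _ = c * ((c⁻¹ * w * c) * (c⁻¹ * k * c)) * c⁻¹ := by rw [hcz]
          _ = w * k := by group
      set X := Subgroup.centralizer ({k} : Set C) with hX
      have hPX : ∀ T : Sylow 3 C, (T : Subgroup C) ≤ X := fun T w hw =>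
        Subgroup.mem_centralizer_singleton_iff.2 (hT w (by
          have := orderOf_dvd_iff_pow_eq_one.1 ((SmallOrder.card_sylow_eq (k := 1) T (by rw [H.card]; norm_num)
            (by rw [H.card]; norm_num)) ▸ Subgroup.orderOf_dvd_natCard _ hw)
          simpa using this)).symm
      have hXN : Subgroup.normalizer ((P : Subgroup C) : Set C) ≤ X := by
        have hkX : φ.ker ≤ X := by
          haveI : IsMulCommutative φ.ker := by
            haveI : Fact (Nat.Prime 2) := ⟨Nat.prime_two⟩
            exact IsPGroup.isMulCommutative_of_card_eq_prime_sq (p := 2) (by rw [hk4]; norm_num)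
          intro a ha
          refine Subgroup.mem_centralizer_singleton_iff.2 ?_
          exact congrArg Subtype.val (mul_comm' (⟨a, ha⟩ : φ.ker) ⟨k, hk⟩)
        have hj : 12 ≤ Nat.card ↥(φ.ker ⊔ (P : Subgroup C)) := by
          refine Nat.le_of_dvd Nat.card_pos ?_
          have h4 := Subgroup.card_dvd_of_le (le_sup_left : φ.ker ≤ φ.ker ⊔ (P : Subgroup C))
          have h3 := Subgroup.card_dvd_of_le (le_sup_right : (P : Subgroup C) ≤ φ.ker ⊔ (P : Subgroup C))
          rw [hk4] at h4
          rw [show Nat.card (P : Subgroup C) = 3 ^ 1 from hP3] at h3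
          exact Nat.Coprime.mul_dvd_of_dvd_of_dvd (m := 4) (n := 3) (by norm_num) h4 h3
        have hle : φ.ker ⊔ (P : Subgroup C) ≤ Subgroup.normalizer ((P : Subgroup C) : Set C) :=
          sup_le (fun a ha => hkerN a ha P) Subgroup.le_normalizer
        rw [← Subgroup.eq_of_le_of_card_ge hle (by rw [hN12]; exact hj)]
        exact sup_le hkX (hPX P)
      have hdvd : 12 ∣ Nat.card X := hN12 ▸ Subgroup.card_dvd_of_le hXN
      obtain ⟨PX, hPXle⟩ := (IsPGroup.of_card (n := 1) (show Nat.card ((P : Subgroup C).subgroupOf X) = 3 ^ 1 by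
        rw [Nat.card_congr (Subgroup.subgroupOfEquivOfLe (hPX P)).toEquiv]; exact hP3)).exists_le_sylow
      have h4 : 4 ≤ Nat.card (Sylow 3 X) := by
        rw [← hn]
        exact Nat.card_le_card_of_injective (fun T => T.subtype (hPX T)) fun a b h => Sylow.subtype_injective h
      have hX48 : X = ⊤ := by
        refine Subgroup.eq_top_of_card_eq _ ?_
        have hX48' : Nat.card X ∣ 48 := H.card ▸ X.card_subgroup_dvd_card
        have hXS := SmallOrder.card_normalizer_mul_card_sylow PX
        change Nat.card (Subgroup.normalizer ((PX : Subgroup X) : Set X)) * _ = _ at hXS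
        have h12 : 12 ≤ Nat.card (Subgroup.normalizer ((PX : Subgroup X) : Set X)) := by
          have hPXeq : (P : Subgroup C).subgroupOf X = (PX : Subgroup X) :=
            Subgroup.eq_of_le_of_card_ge hPXle (by
              rw [Nat.card_congr (Subgroup.subgroupOfEquivOfLe (hPX P)).toEquiv,
                show Nat.card (P : Subgroup C) = 3 ^ 1 from hP3]
              exact (SmallOrder.card_sylow_eq PX (by
                rw [pow_one]; exact (by norm_num : 3 ∣ 12).trans hdvd) (fun h9 => by
                  have := h9.trans hX48'; norm_num at this)).le)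
          rw [← hN12]
          refine Nat.card_le_card_of_injective
            (fun a : Subgroup.normalizer ((P : Subgroup C) : Set C) =>
              (⟨⟨(a : C), hXN a.2⟩, by
                rw [← hPXeq, Subgroup.mem_normalizer_iff]
                intro x
                simp only [Subgroup.mem_subgroupOf, Subgroup.coe_mul, Subgroup.coe_inv]
                exact Subgroup.mem_normalizer_iff.1 a.2 _⟩ :
                Subgroup.normalizer ((PX : Subgroup X) : Set X))) fun a b h => ?_
          exact Subtype.ext (congrArg (fun t : Subgroup.normalizer ((PX : Subgroup X) : Set X) => ((t : X) : C)) h)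
        rw [H.card]
        have := Nat.le_of_dvd (by norm_num) hX48'
        have := Nat.mul_le_mul h12 h4
        omega
      exact (Subgroup.mem_centralizer_singleton_iff.1 (hX48 ▸ Subgroup.mem_top g : g ∈ X)).symm
    -- elements of square one lie in K
    set T := Finset.univ.filter fun g : C => g * g = 1 with hT
    have hTc : Nat.card {g : C // g * g = 1} = T.card := by rw [Nat.card_eq_fintype_card, Fintype.card_subtype]
    have hT9 : 9 ≤ T.card := by have := H.count; omega
    by_cases hexp : ∀ k ∈ φ.ker, k * k = 1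
    · -- a four group
      set Wset := Finset.univ.filter fun g : C => 2 ∣ orderOf g ∧ g ^ (orderOf g / 2) = τ with hW
      set O := Finset.univ.filter fun g : C => g ^ 3 = 1 with hO
      set Y := Finset.univ.filter fun g : C => g ∈ K ∧ ¬ g * g = 1 with hY
      have hO9 : O.card ≤ 9 := by
        have hsub : O ⊆ insert 1 ((Finset.univ : Finset (Sylow 3 C)).biUnion fun T =>
            (Finset.univ.filter fun g : C => g ∈ (T : Subgroup C)).erase 1) := by
          intro g hg
          simp only [hO, Finset.mem_filter, Finset.mem_univ, true_and] at hg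
          by_cases hg1 : g = 1
          · exact Finset.mem_insert.2 (Or.inl hg1)
          obtain ⟨T, hT'⟩ := (IsPGroup.of_card (n := 1) (by
            rw [Nat.card_zpowers, orderOf_eq_prime hg hg1, pow_one]) :
            IsPGroup 3 (Subgroup.zpowers g)).exists_le_sylow
          refine Finset.mem_insert.2 (Or.inr (Finset.mem_biUnion.2 ⟨T, Finset.mem_univ _, ?_⟩))
          simp [hg1, hT' (Subgroup.mem_zpowers g)]
        refine (Finset.card_le_card hsub).trans ((Finset.card_insert_le _ _).trans ?_)
        refine Nat.add_le_add_right (Finset.card_biUnion_le.trans (le_of_eq ?_)) 1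
        rw [Finset.sum_congr rfl fun T _ => show _ = 2 by
          rw [Finset.card_erase_of_mem (by simp [one_mem]),
            show (Finset.univ.filter fun g : C => g ∈ (T : Subgroup C)).card = 3 by
              rw [← Fintype.card_subtype, ← Nat.card_eq_fintype_card]
              exact (SmallOrder.card_sylow_eq (k := 1) T (by rw [H.card]; norm_num)
                (by rw [H.card]; norm_num)).trans (by norm_num)],
          Finset.sum_const, Finset.card_univ, ← Nat.card_eq_fintype_card, hn]
        rfl
      have hY7 : Y.card ≤ 7 := by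
        have hd : Disjoint T Y := by
          rw [Finset.disjoint_left]
          intro g h1 h2
          simp only [hT, hY, Finset.mem_filter] at h1 h2
          exact h2.2.2 h1.2
        have hsub : T ∪ Y ⊆ Finset.univ.filter fun g : C => g ∈ K := by
          intro g hg
          simp only [hT, hY, Finset.mem_union, Finset.mem_filter, Finset.mem_univ, true_and] at hg ⊢
          rcases hg with hg | hg
          · exact hmemK g (by rw [show (16 : ℕ) = 2 * 8 from rfl, pow_mul, pow_two, hg, one_pow])
          · exact hg.1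
        have := Finset.card_le_card hsub
        have hKF : (Finset.univ.filter fun g : C => g ∈ K).card = 16 := by
          rw [← Fintype.card_subtype, ← Nat.card_eq_fintype_card]
          exact hK16
        rw [Finset.card_union_of_disjoint hd, hKF] at this
        omega
      have hsub : Wset ⊆ O.image (fun w => τ * w) ∪ Y := by
        intro g hg
        simp only [hW, Finset.mem_filter, Finset.mem_univ, true_and] at hg
        obtain ⟨hev, hpow⟩ := hg
        have h48 : orderOf g ∣ 48 := H.card ▸ orderOf_dvd_natCard g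
        by_cases h3 : 3 ∣ orderOf g
        · refine Finset.mem_union_left _ (Finset.mem_image.2 ⟨τ * g, ?_, by rw [← mul_assoc, hττ, one_mul]⟩)
          simp only [hO, Finset.mem_filter, Finset.mem_univ, true_and]
          set w := g ^ (orderOf g / 3) with hw
          have hwo : orderOf w = 3 := orderOf_pow_orderOf_div (orderOf_pos g).ne' h3
          have hgw : Commute g w := (Commute.refl g).pow_right _
          obtain ⟨T', hT'⟩ := (IsPGroup.of_card (n := 1) (by rw [Nat.card_zpowers, hwo, pow_one]) :
            IsPGroup 3 (Subgroup.zpowers w)).exists_le_sylow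
          obtain ⟨c, hc⟩ := MulAction.exists_smul_eq C P T'
          have hwP : c⁻¹ * w * c ∈ Subgroup.zpowers z := by
            rw [hPz]
            have hwT : w ∈ (T' : Subgroup C) := hT' (Subgroup.mem_zpowers w)
            rw [← hc] at hwT
            obtain ⟨u, hu, hu'⟩ := hwT
            have hu'' : w = c * u * c⁻¹ := hu'.symm
            rw [hu'', show c⁻¹ * (c * u * c⁻¹) * c = u by group]
            exact hu
          have hwo' : orderOf (c⁻¹ * w * c) = 3 := by
            rw [show c⁻¹ * w * c = MulAut.conj c⁻¹ w by simp, MulEquiv.orderOf_eq, hwo]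
          have hgD : c⁻¹ * g * c ∈ D := by
            refine Subgroup.mem_centralizer_singleton_iff.2 ?_
            have hcomm : Commute (c⁻¹ * g * c) (c⁻¹ * w * c) := by
              show c⁻¹ * g * c * (c⁻¹ * w * c) = c⁻¹ * w * c * (c⁻¹ * g * c)
              rw [show c⁻¹ * g * c * (c⁻¹ * w * c) = c⁻¹ * (g * w) * c by group, hgw.eq]; group
            rcases conj_eq_or_inv hz hwP hwo' with e' | e' <;> rw [e'] at hcomm
            · exact hcomm.eq
            · simpa using hcomm.inv_right.eq
          set g' := c⁻¹ * g * c with hg'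
          have hD6' : g' ^ 6 = 1 := by
            have hsupD : φ.ker ⊔ (P : Subgroup C) ≤ D := sup_le hkerD (by
              rw [← hPz]
              exact Subgroup.zpowers_le.2 (Subgroup.mem_centralizer_singleton_iff.2 rfl))
            have hjD : D ≤ φ.ker ⊔ (P : Subgroup C) := by
              have h4 := Subgroup.card_dvd_of_le (le_sup_left : φ.ker ≤ φ.ker ⊔ (P : Subgroup C))
              have h3' := Subgroup.card_dvd_of_le (le_sup_right : (P : Subgroup C) ≤ φ.ker ⊔ (P : Subgroup C))
              rw [hk4] at h4
              rw [show Nat.card (P : Subgroup C) = 3 ^ 1 from hP3] at h3'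
              rw [Subgroup.eq_of_le_of_card_ge hsupD (by
                rw [hD']
                exact Nat.le_of_dvd Nat.card_pos
                  (Nat.Coprime.mul_dvd_of_dvd_of_dvd (m := 4) (n := 3) (by norm_num) h4 h3'))]
            obtain ⟨a, ha, b, hb, hab⟩ := Subgroup.mem_sup_of_normal_left.1 (hjD hgD)
            rw [← hab, (show Commute a b from hcen a ha b).mul_pow, show (6 : ℕ) = 2 * 3 from rfl,
              pow_mul, pow_two, hexp a ha, one_pow, one_mul, mul_comm 2 3, pow_mul]
            have hb3 := pow_card_eq_one' (x := (⟨b, hb⟩ : (P : Subgroup C)))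
            rw [show Nat.card (P : Subgroup C) = 3 ^ 1 from hP3, pow_one] at hb3
            rw [show b ^ 3 = 1 from congrArg Subtype.val hb3, one_pow]
          have hg6 : g ^ 6 = 1 := by
            have : g = c * g' * c⁻¹ := by rw [hg']; group
            rw [this, conj_pow, hD6', mul_one, mul_inv_cancel]
          have ho6 : orderOf g = 6 := by
            have := orderOf_dvd_of_pow_eq_one hg6
            exact Nat.dvd_antisymm this (Nat.Coprime.mul_dvd_of_dvd_of_dvd (m := 2) (n := 3) (by norm_num) hev h3)
          rw [ho6, show (6 : ℕ) / 2 = 3 from rfl] at hpow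
          rw [(show Commute τ g from H.central g).mul_pow, hpow, pow_succ, pow_two, hττ, one_mul, hττ]
        · have h16 : orderOf g ∣ 16 :=
            (Nat.Coprime.dvd_of_dvd_mul_right ((Nat.prime_three.coprime_iff_not_dvd).2 h3).symm
              (show orderOf g ∣ 16 * 3 from h48))
          have hgK : g ∈ K := hmemK g (orderOf_dvd_iff_pow_eq_one.1 h16)
          by_cases hgg : g * g = 1
          · refine Finset.mem_union_left _ (Finset.mem_image.2 ⟨1, by simp [hO], ?_⟩)
            have ho : orderOf g = 2 := le_antisymm (Nat.le_of_dvd two_pos (orderOf_dvd_of_pow_eq_one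
              (by rw [pow_two, hgg]))) (Nat.le_of_dvd (orderOf_pos g) hev)
            rw [ho, show (2 : ℕ) / 2 = 1 from rfl, pow_one] at hpow
            rw [mul_one, hpow]
          · exact Finset.mem_union_right _ (by simp [hY, hgK, hgg])
      have := H.wlow
      rw [Nat.card_eq_fintype_card, Fintype.card_subtype] at this
      change 22 ≤ Wset.card at this
      have := (Finset.card_le_card hsub).trans (Finset.card_union_le _ _)
      have := Finset.card_image_le (s := O) (f := fun w => τ * w)
      omega
    · -- cyclic of order four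
      push Not at hexp
      obtain ⟨y, hy, hyy⟩ := hexp
      have hinv : ∀ k ∈ φ.ker, k * k = 1 → k = 1 ∨ k = y * y := by
        intro k hk hkk
        have hyo : orderOf y = 4 := by
          have hd : orderOf y ∣ 4 := hk4 ▸ Subgroup.orderOf_dvd_natCard _ hy
          have : ∀ o ≤ 4, o ∣ 4 → o ≠ 1 → o ≠ 2 → o = 4 := by decide
          refine this _ (Nat.le_of_dvd (by norm_num) hd) hd (fun e' => hyy ?_) (fun e' => hyy ?_)
          · rw [orderOf_eq_one_iff.1 e', one_mul]
          · rw [← pow_two, ← e', pow_orderOf_eq_one]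
        have hzy : Subgroup.zpowers y = φ.ker := Subgroup.eq_of_le_of_card_ge (Subgroup.zpowers_le.2 hy)
          (by rw [Nat.card_zpowers, hyo, hk4])
        obtain ⟨j, rfl⟩ := (hzy ▸ hk : k ∈ Subgroup.zpowers y)
        dsimp only at hkk ⊢
        rw [← zpow_add] at hkk
        have := orderOf_dvd_iff_zpow_eq_one.2 hkk
        rw [hyo] at this
        push_cast at this
        rw [← zpow_mod_orderOf y j, hyo]
        push_cast
        have : j % 4 = 0 ∨ j % 4 = 2 := by omega
        rcases this with e' | e' <;> rw [e']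
        · left; simp
        · right; rw [zpow_ofNat, pow_two]
      have hle : T.card ≤ 2 * 4 := by
        let f : K → K ⧸ φ.ker.subgroupOf K := QuotientGroup.mk
        have hkK : φ.ker ≤ K := fun a ha => hmemK a (by
          have := orderOf_dvd_iff_pow_eq_one.1 (hk4 ▸ Subgroup.orderOf_dvd_natCard _ ha)
          rw [show (16 : ℕ) = 4 * 4 from rfl, pow_mul, this, one_pow])
        haveI : Fintype (K ⧸ φ.ker.subgroupOf K) := Fintype.ofFinite _
        have hq : Fintype.card (K ⧸ φ.ker.subgroupOf K) = 4 := by
          have := Subgroup.card_eq_card_quotient_mul_card_subgroup (φ.ker.subgroupOf K)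
          rw [Nat.card_congr (Subgroup.subgroupOfEquivOfLe hkK).toEquiv, hk4, hK16,
            Nat.card_eq_fintype_card] at this
          omega
        set T' := Finset.univ.filter fun g : K => (g : C) * g = 1 with hT'
        have hTT : T.card ≤ T'.card := by
          have hsub : T ⊆ T'.image Subtype.val := by
            intro g hg
            simp only [hT, Finset.mem_filter, Finset.mem_univ, true_and] at hg
            exact Finset.mem_image.2 ⟨⟨g, hmemK g (by
              rw [show (16 : ℕ) = 2 * 8 from rfl, pow_mul, pow_two, hg, one_pow])⟩, by simp [hT', hg], rfl⟩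
          exact (Finset.card_le_card hsub).trans Finset.card_image_le
        refine hTT.trans (le_trans (Finset.card_le_mul_card_image (f := f) T' 2 fun q hq' => ?_)
          (Nat.mul_le_mul_left 2 ?_))
        · obtain ⟨g₀, hg₀, rfl⟩ := Finset.mem_image.1 hq'
          simp only [hT', Finset.mem_filter, Finset.mem_univ, true_and] at hg₀
          refine le_trans (Finset.card_le_card (t := {g₀, g₀ * ⟨y * y, mul_mem (hkK hy) (hkK hy)⟩}) fun g hg => ?_)
            Finset.card_le_two
          simp only [Finset.mem_filter, hT', Finset.mem_univ, true_and] at hg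
          have hmem : g₀⁻¹ * g ∈ φ.ker.subgroupOf K := QuotientGroup.eq.1 hg.2.symm
          rw [Subgroup.mem_subgroupOf, Subgroup.coe_mul, Subgroup.coe_inv] at hmem
          set k := (g₀ : C)⁻¹ * g with hkdef
          have hgk : (g : C) = g₀ * k := by rw [hkdef, mul_inv_cancel_left]
          have hkk : k * k = 1 := by
            have h1 := hg.1
            rw [hgk, mul_assoc, ← mul_assoc k, hcen k hmem, mul_assoc (g₀ : C) k k, ← mul_assoc, hg₀, one_mul] at h1
            exact h1
          rw [Finset.mem_insert, Finset.mem_singleton]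
          rcases hinv k hmem hkk with e' | e'
          · left; exact Subtype.ext (by rw [hgk, e', mul_one])
          · right; exact Subtype.ext (by rw [Subgroup.coe_mul, hgk, e'])
        · exact (Finset.card_le_univ _).trans hq.le
      omega

end CfsgLib.SmallOrders.Order5616
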