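import Cfsg.Agent.Lib.SmallOrders.Order5616Chars
import Cfsg.Agent.Lib.SmallOrders.Order5616Cent
import Cfsg.Agent.Lib.L33Invol.Action
import Cfsg.Agent.Lib.HallWielandt

/-!
# The simple group of order 5616 is unique
-/

namespace CfsgLib.SmallOrders.Order5616

open CfsgLib CfsgLib.Blocks

set_option autoImplicit false
set_option linter.unusedVariables false
set_option linter.unusedSectionVars false
set_option linter.style.haveILetI false

universe u v

variable {G : Type u} [Group G]

/-- A group of order twenty seven has central commutators. -/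
theorem commutator_mem_center {P : Type*} [Group P] [Finite P] (hP : Nat.card P = 27) (a b : P) :
    a⁻¹ * b⁻¹ * a * b ∈ Subgroup.center P := by
  haveI : Fact (Nat.Prime 3) := ⟨Nat.prime_three⟩
  have hp : IsPGroup 3 P := IsPGroup.of_card (n := 3) (by rw [hP]; norm_num)
  haveI : Nontrivial P := by
    rw [← Finite.one_lt_card_iff_nontrivial, hP]; norm_num
  haveI := hp.center_nontrivial
  set Z := Subgroup.center P
  have hmul := Subgroup.card_eq_card_quotient_mul_card_subgroup Z
  have hZ1 : 1 < Nat.card Z := Finite.one_lt_card_iff_nontrivial.2 inferInstance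
  have hq : IsMulCommutative (P ⧸ Z) := by
    rw [hP] at hmul
    have hd : Nat.card (P ⧸ Z) ∣ 27 := Dvd.intro _ hmul.symm
    have hcases : ∀ d ≤ 27, d ∣ 27 → d = 1 ∨ d = 3 ∨ d = 9 ∨ d = 27 := by decide
    rcases hcases _ (Nat.le_of_dvd (by norm_num) hd) hd with e | e | e | e
    · haveI := (Nat.card_eq_one_iff_unique.1 e).1
      exact ⟨⟨fun x y => Subsingleton.elim _ _⟩⟩
    · haveI := isCyclic_of_prime_card (α := P ⧸ Z) (p := 3) e
      exact IsCyclic.isMulCommutative
    · exact IsPGroup.isMulCommutative_of_card_eq_prime_sq (p := 3) (by rw [e]; norm_num)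
    · rw [e] at hmul; omega
  refine (QuotientGroup.eq_one_iff _).1 ?_
  show QuotientGroup.mk' Z (a⁻¹ * b⁻¹ * a * b) = 1
  rw [map_mul, map_mul, map_mul, map_inv, map_inv,
    mul_assoc ((QuotientGroup.mk' Z a)⁻¹ * (QuotientGroup.mk' Z b)⁻¹), mul_comm' (QuotientGroup.mk' Z a)]
  group

variable [Finite G]

/-- The number of Sylow three-subgroups is at most fifty two. -/
theorem sylow_three_le [IsSimpleGroup G] (h : Nat.card G = 5616) (P : Sylow 3 G) :
    Nat.card (Sylow 3 G) ≤ 52 := by
  haveI : Fact (Nat.Prime 3) := ⟨Nat.prime_three⟩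
  have hP : Nat.card P = 27 :=
    (SmallOrder.card_sylow_eq (k := 3) P (by rw [h]; norm_num) (by rw [h]; norm_num)).trans (by norm_num)
  have hn := SmallOrder.card_sylow_mem_filter P (n := 208) hP (by rw [h]) (by norm_num)
  rw [show (Nat.divisors 208).filter (fun d => d % 3 = 1) = {1, 4, 13, 16, 52, 208} by decide +kernel] at hn
  simp only [Finset.mem_insert, Finset.mem_singleton] at hn
  rcases hn with e | e | e | e | e | e <;> try omega
  exfalso
  have hN := SmallOrder.card_normalizer_mul_card_sylow P
  change Nat.card (Subgroup.normalizer ((P : Subgroup G) : Set G)) * _ = _ at hN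
  rw [e, h] at hN
  have hNP : Subgroup.normalizer ((P : Subgroup G) : Set G) = (P : Subgroup G) :=
    (Subgroup.eq_of_le_of_card_ge Subgroup.le_normalizer (by
      rw [show Nat.card (P : Subgroup G) = 27 from hP]; omega)).symm
  have hH := HallWielandt.pResidualOf_normalizer_eq P (Q := (P : Subgroup G))
    ⟨le_rfl, fun g hg => Subgroup.eq_of_le_of_card_ge hg (by
      rw [Subgroup.card_map_of_injective (MulAut.conj g).injective])⟩ (fun x hx z hz => by
      have hc := Subgroup.mem_center_iff.1 (commutator_mem_center hP (⟨x, hx⟩ : (P : Subgroup G)) ⟨z, hz⟩)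
        ⟨z, hz⟩
      have hc' : z * (x⁻¹ * z⁻¹ * x * z) = x⁻¹ * z⁻¹ * x * z * z := congrArg Subtype.val hc
      show (x⁻¹ * z⁻¹ * x * z)⁻¹ * z⁻¹ * (x⁻¹ * z⁻¹ * x * z) * z = 1
      rw [mul_assoc _ _ z, ← hc']
      group)
  rw [hNP] at hH
  have hbot : Cfsg.pResidualOf 3 (P : Subgroup G) = ⊥ := by
    rw [Cfsg.pResidualOf, CfsgLib.Transfer.pResidual_eq_bot_of_isPGroup
      (show IsPGroup 3 (P : Subgroup G) from P.2), Subgroup.map_bot]
  rw [hbot] at hH
  have hres : Cfsg.pResidual 3 G = ⊤ := by
    refine (IsSimpleGroup.eq_bot_or_eq_top_of_normal _ inferInstance).resolve_left fun hb => ?_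
    have h1 := CfsgLib.Transfer.sylow_sup_pResidual P
    rw [hb, sup_bot_eq] at h1
    have h2 : Nat.card (P : Subgroup G) = Nat.card G := by rw [h1, Subgroup.card_top]
    rw [show Nat.card (P : Subgroup G) = 27 from hP, h] at h2
    norm_num at h2
  rw [hres, top_inf_eq] at hH
  have h1 : Nat.card (P : Subgroup G) = 1 := by rw [← hH, Subgroup.card_bot]
  rw [show Nat.card (P : Subgroup G) = 27 from hP] at h1
  norm_num at h1

/-- An element of the power `n` lies in a Sylow subgroup. -/
theorem exists_sylow_mem {p k : ℕ} [Fact p.Prime] {g : G} (hg : g ^ p ^ k = 1) :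
    ∃ T : Sylow p G, g ∈ (T : Subgroup G) := by
  obtain ⟨i, -, hi⟩ := (Nat.dvd_prime_pow (Fact.out : p.Prime)).1 (orderOf_dvd_of_pow_eq_one hg)
  obtain ⟨T, hT⟩ := (IsPGroup.of_card (n := i) (by rw [Nat.card_zpowers, hi]) :
    IsPGroup p (Subgroup.zpowers g)).exists_le_sylow
  exact ⟨T, hT (Subgroup.mem_zpowers g)⟩

/-- The centraliser of an involution satisfies the conditions. -/
theorem centHyp [Fintype G] [IsSimpleGroup G] (D : CharData G) (h : Nat.card G = 5616) {t : G}
    (ht : orderOf t = 2) :
    CentHyp (⟨t, Subgroup.mem_centralizer_singleton_iff.2 rfl⟩ : Subgroup.centralizer ({t} : Set G)) := by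
  classical
  haveI h13 : Fact (Nat.Prime 13) := ⟨by norm_num⟩
  haveI h3 : Fact (Nat.Prime 3) := ⟨Nat.prime_three⟩
  obtain ⟨hC48, hpc⟩ := D.cent_card h ht
  set C := Subgroup.centralizer ({t} : Set G) with hC
  set τ : C := ⟨t, Subgroup.mem_centralizer_singleton_iff.2 rfl⟩ with hτ
  have htt : t * t = 1 := by rw [← sq, ← ht, pow_orderOf_eq_one]
  have ht1 : t ≠ 1 := fun e => by rw [e, orderOf_one] at ht; norm_num at ht
  have hinvol : ∀ a : G, a * a = 1 → a ≠ 1 → IsConj t a := fun a ha ha1 =>
    D.isConj h ht (orderOf_eq_prime (by rw [sq, ha]) ha1)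
  -- the involutions commuting with t
  have hcount : Nat.card {g : C // g * g = 1} = pairCount t t t + 2 := by
    have e : Nat.card {g : C // g * g = 1} = Nat.card {a : G // a * t = t * a ∧ a * a = 1} :=
      Nat.card_congr
        { toFun := fun g => ⟨g.1.1, Subgroup.mem_centralizer_singleton_iff.1 g.1.2, congrArg Subtype.val g.2⟩
          invFun := fun a => ⟨⟨a.1, Subgroup.mem_centralizer_singleton_iff.2 a.2.1⟩, Subtype.ext a.2.2⟩
          left_inv := fun g => rfl
          right_inv := fun a => rfl }
    rw [e, pairCount, Nat.card_eq_fintype_card, Nat.card_eq_fintype_card, Fintype.card_subtype,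
      Fintype.card_subtype]
    have hset : (Finset.univ.filter fun a : G => a * t = t * a ∧ a * a = 1) =
        insert 1 (insert t (Finset.univ.filter fun a : G => IsConj t a ∧ IsConj t (a⁻¹ * t))) := by
      ext a
      simp only [Finset.mem_filter, Finset.mem_univ, true_and, Finset.mem_insert]
      constructor
      · rintro ⟨hc, ha⟩
        by_cases ha1 : a = 1
        · exact Or.inl ha1
        by_cases hat : a = t
        · exact Or.inr (Or.inl hat)
        refine Or.inr (Or.inr ⟨hinvol a ha ha1, hinvol _ ?_ fun e' => hat (inv_mul_eq_one.1 e')⟩)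
        rw [inv_eq_of_mul_eq_one_right ha, mul_assoc, ← mul_assoc t, ← hc, mul_assoc a t t, htt, mul_one, ha]
      · rintro (rfl | rfl | ⟨h1, h2⟩)
        · simp
        · exact ⟨rfl, htt⟩
        obtain ⟨c, hc⟩ := isConj_iff.1 h1
        obtain ⟨d, hd⟩ := isConj_iff.1 h2
        have ha : a * a = 1 := by rw [← hc, conj_mul, htt]; group
        have hb : a⁻¹ * t * (a⁻¹ * t) = 1 := by rw [← hd, conj_mul, htt]; group
        rw [inv_eq_of_mul_eq_one_right ha] at hb
        refine ⟨?_, ha⟩
        have := eq_inv_of_mul_eq_one_left hb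
        rw [mul_inv_rev, inv_eq_of_mul_eq_one_right ha, inv_eq_of_mul_eq_one_right htt] at this
        exact this
    have hn1 : ∀ a : G, IsConj t a ∧ IsConj t (a⁻¹ * t) → a ≠ 1 ∧ a ≠ t := by
      rintro a ⟨h1, h2⟩
      refine ⟨fun e' => ?_, fun e' => ?_⟩
      · rw [e'] at h1; exact ht1 (isConj_one_left.1 h1)
      · rw [e', inv_mul_cancel] at h2; exact ht1 (isConj_one_left.1 h2)
    rw [hset, Finset.card_insert_of_notMem, Finset.card_insert_of_notMem]
    · intro hm; exact (hn1 t (Finset.mem_filter.1 hm).2).2 rfl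
    · intro hm
      rcases Finset.mem_insert.1 hm with e' | e'
      · exact ht1 e'.symm
      · exact (hn1 1 (Finset.mem_filter.1 e').2).1 rfl
  -- the fibres of the map to involutions
  let F : G → Finset G := fun s => Finset.univ.filter fun g : G => 2 ∣ orderOf g ∧ g ^ (orderOf g / 2) = s
  have hW : Nat.card {g : C // 2 ∣ orderOf g ∧ g ^ (orderOf g / 2) = τ} = (F t).card := by
    rw [← Fintype.card_subtype, ← Nat.card_eq_fintype_card]
    refine Nat.card_congr
      { toFun := fun g => ⟨g.1.1, by
          obtain ⟨h1, h2⟩ := g.2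
          rw [← Subgroup.orderOf_coe] at h1 h2
          exact ⟨h1, congrArg Subtype.val h2⟩⟩
        invFun := fun a => ⟨⟨a.1, Subgroup.mem_centralizer_singleton_iff.2 (by
          have := ((Commute.refl a.1).pow_right (orderOf a.1 / 2)).eq
          rwa [a.2.2] at this)⟩, by
          rw [Subgroup.orderOf_mk]
          exact ⟨a.2.1, Subtype.ext a.2.2⟩⟩
        left_inv := fun g => rfl
        right_inv := fun a => rfl }
  set T2 := Finset.univ.filter fun s : G => orderOf s = 2 with hT2
  have hconst : ∀ s ∈ T2, (F s).card = (F t).card := by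
    intro s hs
    obtain ⟨c, hc⟩ := isConj_iff.1 (D.isConj h ht (Finset.mem_filter.1 hs).2)
    refine (Finset.card_equiv (MulAut.conj c).toEquiv fun g => ?_).symm
    simp only [F, Finset.mem_filter, Finset.mem_univ, true_and, MulEquiv.toEquiv_eq_coe, MulEquiv.coe_toEquiv]
    rw [MulEquiv.orderOf_eq, ← map_pow, ← hc, ← MulAut.conj_apply (g := c) (h := t), EquivLike.apply_eq_iff_eq]
  have hT2c : T2.card = 117 := by
    have hcl : T2 = Finset.univ.filter fun s : G => s ∈ MulAction.orbit (ConjAct G) t := by
      ext s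
      simp only [hT2, Finset.mem_filter, Finset.mem_univ, true_and, ConjAct.mem_orbit_conjAct]
      refine ⟨fun hs => (D.isConj h ht hs).symm, fun hs => ?_⟩
      obtain ⟨c, hc⟩ := isConj_iff.1 hs.symm
      rw [← hc, ← MulAut.conj_apply, MulEquiv.orderOf_eq, ht]
    have h1 := MulAction.card_orbit_mul_card_stabilizer_eq_card_group (ConjAct G) t
    rw [← Nat.card_eq_fintype_card, ← Nat.card_eq_fintype_card, ← Nat.card_eq_fintype_card,
      ConjAct.stabilizer_eq_centralizer] at h1
    change _ * Nat.card C = Nat.card G at h1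
    rw [hC48, h] at h1
    rw [hcl, ← Fintype.card_subtype, ← Nat.card_eq_fintype_card]
    change Nat.card (MulAction.orbit (ConjAct G) t) = 117
    omega
  set E := Finset.univ.filter fun g : G => 2 ∣ orderOf g with hE
  have hEc : E.card = 117 * (F t).card := by
    rw [Finset.card_eq_sum_card_fiberwise (s := E) (t := T2) (f := fun g => g ^ (orderOf g / 2)),
      Finset.sum_congr rfl fun s hs => show _ = (F t).card by
        rw [← hconst s hs]
        simp only [F, hE, Finset.filter_filter],
      Finset.sum_const, hT2c, smul_eq_mul]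
    intro g hg
    simp only [hE, Finset.coe_filter, Set.mem_setOf_eq, Finset.mem_univ, true_and] at hg
    simp only [hT2, Finset.coe_filter, Set.mem_setOf_eq, Finset.mem_univ, true_and]
    obtain ⟨m, hm⟩ := hg
    have := orderOf_pos g
    rw [orderOf_pow_of_dvd (by omega) (Nat.div_dvd_of_dvd ⟨m, hm⟩), hm, Nat.mul_div_cancel_left _ two_pos]
    exact Nat.mul_div_cancel _ (by omega)
  -- the elements of order thirteen
  set A := Finset.univ.filter fun g : G => orderOf g = 13 with hA
  have hSyl : ∀ T : Sylow 13 G, Nat.card T = 13 := fun T =>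
    (SmallOrder.card_sylow_eq (k := 1) T (by rw [h]; norm_num) (by rw [h]; norm_num)).trans (by norm_num)
  have hn13 : Nat.card (Sylow 13 G) = 144 := by
    have := SmallOrder.card_normalizer_mul_card_sylow D.P
    change Nat.card (Subgroup.normalizer ((D.P : Subgroup G) : Set G)) * _ = _ at this
    rw [D.normP, h] at this
    omega
  have hAc : A.card = 1728 := by
    have hAeq : A = (Finset.univ : Finset (Sylow 13 G)).biUnion fun T =>
        (Finset.univ.filter fun g : G => g ∈ (T : Subgroup G)).erase 1 := by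
      ext g
      simp only [hA, Finset.mem_filter, Finset.mem_univ, true_and, Finset.mem_biUnion, Finset.mem_erase]
      constructor
      · intro hg
        obtain ⟨T, hT⟩ := exists_sylow_mem (p := 13) (k := 1) (g := g) (by
          rw [pow_one, ← hg, pow_orderOf_eq_one])
        exact ⟨T, fun e' => by rw [e', orderOf_one] at hg; norm_num at hg, hT⟩
      · rintro ⟨T, hg1, hT⟩
        have := Subgroup.orderOf_dvd_natCard _ hT
        rw [show Nat.card (T : Subgroup G) = 13 from hSyl T] at this
        exact ((Nat.dvd_prime h13.out).1 this).resolve_left fun e' => hg1 (orderOf_eq_one_iff.1 e')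
    rw [hAeq, Finset.card_biUnion, Finset.sum_congr rfl fun T _ => show _ = 12 by
      rw [Finset.card_erase_of_mem (by simp [one_mem]), ← Fintype.card_subtype, ← Nat.card_eq_fintype_card]
      rw [show Nat.card {x // x ∈ (T : Subgroup G)} = 13 from hSyl T],
      Finset.sum_const, Finset.card_univ, ← Nat.card_eq_fintype_card, hn13]
    · rfl
    intro T _ T' _ hne
    rw [Function.onFun, Finset.disjoint_left]
    intro g hg hg'
    simp only [Finset.mem_erase, Finset.mem_filter, Finset.mem_univ, true_and] at hg hg'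
    apply hne
    have e1 : ∀ S : Sylow 13 G, g ∈ (S : Subgroup G) → Subgroup.zpowers g = (S : Subgroup G) := fun S hS => by
      refine Subgroup.eq_of_le_of_card_ge (Subgroup.zpowers_le.2 hS) ?_
      have := Subgroup.orderOf_dvd_natCard _ hS
      rw [show Nat.card (S : Subgroup G) = 13 from hSyl S] at this ⊢
      rw [Nat.card_zpowers, ((Nat.dvd_prime h13.out).1 this).resolve_left fun e' =>
        hg.1 (orderOf_eq_one_iff.1 e')]
    exact Sylow.ext ((e1 T hg.2).symm.trans (e1 T' hg'.2))
  -- the elements of three-power order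
  set B := Finset.univ.filter fun g : G => g ≠ 1 ∧ g ^ 3 ^ 3 = 1 with hB
  let U : Sylow 3 G → Finset G := fun T => (Finset.univ.filter fun g : G => g ∈ (T : Subgroup G)).erase 1
  have hU : ∀ T : Sylow 3 G, (U T).card = 26 := fun T => by
    rw [Finset.card_erase_of_mem (by simp [one_mem]), ← Fintype.card_subtype, ← Nat.card_eq_fintype_card]
    rw [show Nat.card {x // x ∈ (T : Subgroup G)} = 27 from
      (SmallOrder.card_sylow_eq (k := 3) T (by rw [h]; norm_num) (by rw [h]; norm_num)).trans (by norm_num)]
  obtain ⟨P⟩ : Nonempty (Sylow 3 G) := inferInstance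
  have hBle : B.card ≤ 26 * 52 := by
    have hsub : B ⊆ (Finset.univ : Finset (Sylow 3 G)).biUnion U := by
      intro g hg
      simp only [hB, Finset.mem_filter, Finset.mem_univ, true_and] at hg
      obtain ⟨T, hT⟩ := exists_sylow_mem hg.2
      exact Finset.mem_biUnion.2 ⟨T, Finset.mem_univ _, by simp [U, hg.1, hT]⟩
    refine (Finset.card_le_card hsub).trans (Finset.card_biUnion_le.trans ?_)
    rw [Finset.sum_congr rfl fun T _ => hU T, Finset.sum_const, Finset.card_univ, ← Nat.card_eq_fintype_card,
      smul_eq_mul, mul_comm]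
    exact Nat.mul_le_mul_left 26 (sylow_three_le h P)
  have hUB : ∀ T : Sylow 3 G, U T ⊆ B := by
    intro T g hg
    simp only [U, Finset.mem_erase, Finset.mem_filter, Finset.mem_univ, true_and] at hg
    simp only [hB, Finset.mem_filter, Finset.mem_univ, true_and]
    refine ⟨hg.1, orderOf_dvd_iff_pow_eq_one.1 ?_⟩
    rw [← SmallOrder.card_sylow_eq (k := 3) T (by rw [h]; norm_num) (by rw [h]; norm_num)]
    exact Subgroup.orderOf_dvd_natCard _ hg.2
  -- the partition
  have hpart : E.card + A.card + B.card + 1 = 5616 := by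
    have hd1 : Disjoint E A := by
      rw [Finset.disjoint_left]
      intro g h1 h2
      simp only [hE, hA, Finset.mem_filter] at h1 h2
      rw [h2.2] at h1; norm_num at h1
    have hd2 : Disjoint (E ∪ A) B := by
      rw [Finset.disjoint_left]
      intro g h1 h2
      simp only [hE, hA, hB, Finset.mem_union, Finset.mem_filter, Finset.mem_univ, true_and] at h1 h2
      obtain ⟨i, -, hi⟩ := (Nat.dvd_prime_pow Nat.prime_three).1 (orderOf_dvd_of_pow_eq_one h2.2)
      rcases h1 with h1 | h1
      · rw [hi] at h1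
        have := Nat.prime_two.dvd_of_dvd_pow h1
        norm_num at this
      · have : 13 ∣ 3 ^ i := by rw [← hi, h1]
        have := h13.out.dvd_of_dvd_pow this
        norm_num at this
    have hall : insert 1 (E ∪ A ∪ B) = Finset.univ := by
      refine Finset.eq_univ_iff_forall.2 fun g => ?_
      simp only [hE, hA, hB, Finset.mem_insert, Finset.mem_union, Finset.mem_filter, Finset.mem_univ, true_and]
      by_cases hg1 : g = 1
      · exact Or.inl hg1
      right
      by_cases h2 : 2 ∣ orderOf g
      · exact Or.inl (Or.inl h2)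
      by_cases hd : 13 ∣ orderOf g
      · refine Or.inl (Or.inr ?_)
        have hx := orderOf_pow_orderOf_div (orderOf_pos g).ne' hd
        have := D.pow13 hx ((Commute.refl g).pow_right _).eq
        exact Nat.dvd_antisymm (orderOf_dvd_of_pow_eq_one this) hd
      refine Or.inr ⟨hg1, orderOf_dvd_iff_pow_eq_one.1 ?_⟩
      have ho : orderOf g ∣ 16 * (13 * 27) := by
        rw [show 16 * (13 * 27) = Nat.card G by rw [h]]; exact orderOf_dvd_natCard g
      have h16 : Nat.Coprime (orderOf g) 16 :=
        (Nat.Coprime.pow_right 4 ((Nat.prime_two.coprime_iff_not_dvd).2 h2).symm)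
      have h1' : Nat.Coprime (orderOf g) 13 := ((h13.out.coprime_iff_not_dvd).2 hd).symm
      exact h1'.dvd_of_dvd_mul_left (h16.dvd_of_dvd_mul_left ho)
    have := congrArg Finset.card hall
    rw [Finset.card_insert_of_notMem, Finset.card_union_of_disjoint hd2, Finset.card_union_of_disjoint hd1,
      Finset.card_univ, ← Nat.card_eq_fintype_card, h] at this
    · omega
    · simp [hE, hA, hB]
  refine
    { card := hC48
      order := by rw [hτ, Subgroup.orderOf_mk, ht]
      central := fun g => Subtype.ext (Subgroup.mem_centralizer_singleton_iff.1 g.2).symm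
      count := by rw [hcount]; omega
      wlow := by rw [hW]; omega
      wne := ?_ }
  rw [hW]
  intro h33
  have hB26 : B.card = 26 := by omega
  have heq : ∀ T : Sylow 3 G, U T = B := fun T => Finset.eq_of_subset_of_card_le (hUB T) (by rw [hB26, hU])
  haveI : Subsingleton (Sylow 3 G) := ⟨fun T T' => Sylow.ext (SetLike.ext fun g => by
    by_cases hg : g = 1
    · simp [hg, one_mem]
    have h1 := Finset.ext_iff.1 (heq T) g
    have h2 := Finset.ext_iff.1 (heq T') g
    simp only [U, Finset.mem_erase, Finset.mem_filter, Finset.mem_univ, true_and, ne_eq, hg,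
      not_false_eq_true] at h1 h2
    exact h1.trans h2.symm)⟩
  have hnorm : (P : Subgroup G).Normal := Sylow.normal_of_subsingleton P
  rcases hnorm.eq_bot_or_eq_top with e | e
  · have : Nat.card (P : Subgroup G) = 1 := by rw [e, Subgroup.card_bot]
    have := hU P
    rw [Finset.card_erase_of_mem (by simp [one_mem]), ← Fintype.card_subtype, ← Nat.card_eq_fintype_card] at this
    change Nat.card (P : Subgroup G) - 1 = 26 at this
    omega
  · have : Nat.card (P : Subgroup G) = Nat.card G := by rw [e, Subgroup.card_top]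
    rw [h, show Nat.card (P : Subgroup G) = 27 from
      (SmallOrder.card_sylow_eq (k := 3) P (by rw [h]; norm_num) (by rw [h]; norm_num)).trans (by norm_num)] at this
    norm_num at this

/-- A simple group of order 5616 is isomorphic to the three dimensional linear group over three elements. -/
theorem iso5616 [IsSimpleGroup G] (h : Nat.card G = 5616) : Nonempty (G ≃* L33Graph.SL33) := by
  classical
  haveI : Fintype G := Fintype.ofFinite G
  haveI h3 : Fact (Nat.Prime 3) := ⟨Nat.prime_three⟩
  obtain ⟨D⟩ := exists_charData h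
  refine L33Invol.Hyp.iso
    { simple := inferInstance
      card := h
      cent2 := fun i hi => (D.cent_card h hi).1
      cent23 := fun i z hi hz hiz => ?_
      conj3 := fun i z i' z' hi hz hiz hi' hz' hiz' => ?_
      inv3 := fun i z hi hz hiz => ?_ }
  · set zc : Subgroup.centralizer ({i} : Set G) :=
      ⟨z, Subgroup.mem_centralizer_singleton_iff.2 hiz.symm.eq⟩
    rw [← ((centHyp D h hi).main (z := zc) (by rw [Subgroup.orderOf_mk, hz])).1]
    refine Nat.card_congr
      { toFun := fun a => ⟨⟨a.1, a.2.1⟩, Subgroup.mem_centralizer_singleton_iff.2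
          (Subtype.ext (Subgroup.mem_centralizer_singleton_iff.1 a.2.2))⟩
        invFun := fun b => ⟨b.1.1, b.1.2, Subgroup.mem_centralizer_singleton_iff.2
          (congrArg Subtype.val (Subgroup.mem_centralizer_singleton_iff.1 b.2))⟩
        left_inv := fun a => rfl
        right_inv := fun b => rfl }
  · obtain ⟨g, hg⟩ := isConj_iff.1 (D.isConj h hi hi')
    set C := Subgroup.centralizer ({i'} : Set G) with hC
    have hmem : g * z * g⁻¹ ∈ C := Subgroup.mem_centralizer_singleton_iff.2 (by
      rw [← hg, conj_mul, conj_mul, hiz.eq])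
    set w : C := ⟨_, hmem⟩
    set w' : C := ⟨z', Subgroup.mem_centralizer_singleton_iff.2 hiz'.symm.eq⟩
    have hw : orderOf w = 3 := by rw [Subgroup.orderOf_mk, ← MulAut.conj_apply, MulEquiv.orderOf_eq, hz]
    have hw' : orderOf w' = 3 := by rw [Subgroup.orderOf_mk, hz']
    have H := centHyp D h hi'
    obtain ⟨-, s, hs2, hsne, hs⟩ := H.main hw'
    have hsylow : ∀ x : C, orderOf x = 3 → ∃ T : Sylow 3 C, (T : Subgroup C) = Subgroup.zpowers x := by
      intro x hx
      obtain ⟨T, hT⟩ := (IsPGroup.of_card (n := 1) (by rw [Nat.card_zpowers, hx, pow_one]) :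
        IsPGroup 3 (Subgroup.zpowers x)).exists_le_sylow
      refine ⟨T, (Subgroup.eq_of_le_of_card_ge hT ?_).symm⟩
      rw [Nat.card_zpowers, hx]
      exact ((SmallOrder.card_sylow_eq (k := 1) T (by rw [H.card]; norm_num)
        (by rw [H.card]; norm_num)).trans (pow_one 3)).le
    obtain ⟨T, hT⟩ := hsylow w hw
    obtain ⟨T', hT'⟩ := hsylow w' hw'
    obtain ⟨c, hc⟩ := MulAction.exists_smul_eq C T T'
    have hcw : c * w * c⁻¹ ∈ Subgroup.zpowers w' := by
      rw [← hT', ← hc, Sylow.coe_subgroup_smul]
      exact ⟨w, hT ▸ Subgroup.mem_zpowers w, rfl⟩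
    have hzw : IsConj z (g * z * g⁻¹) := isConj_iff.2 ⟨g, rfl⟩
    rcases conj_eq_or_inv hw' hcw (by rw [← MulAut.conj_apply, MulEquiv.orderOf_eq, hw]) with e | e
    · exact hzw.trans (isConj_iff.2 ⟨c, congrArg Subtype.val e⟩)
    · refine hzw.trans (isConj_iff.2 ⟨(s * c : C), ?_⟩)
      have : s * c * w * (s * c)⁻¹ = w' := by
        rw [mul_inv_rev, show s * c * w * (c⁻¹ * s⁻¹) = s * (c * w * c⁻¹) * s⁻¹ by group, e, ← conj_inv, hs,
          inv_inv]
      exact congrArg Subtype.val this
  · set zc : Subgroup.centralizer ({i} : Set G) :=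
      ⟨z, Subgroup.mem_centralizer_singleton_iff.2 hiz.symm.eq⟩
    obtain ⟨-, s, hs2, hsne, hs⟩ := (centHyp D h hi).main (z := zc) (by rw [Subgroup.orderOf_mk, hz])
    refine ⟨s, by rw [Subgroup.orderOf_coe, hs2], Subgroup.mem_centralizer_singleton_iff.1 s.2,
      fun e => hsne (Subtype.ext e), congrArg Subtype.val hs⟩

/-- Two simple groups of order 5616 are isomorphic. -/
theorem unique5616 {H : Type v} [Group H] [Finite H] [IsSimpleGroup G] [IsSimpleGroup H]
    (hG : Nat.card G = 5616) (hH : Nat.card H = 5616) : Nonempty (G ≃* H) :=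
  let ⟨e⟩ := iso5616 hG
  let ⟨f⟩ := iso5616 hH
  ⟨e.trans f.symm⟩

end CfsgLib.SmallOrders.Order5616
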