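import Cfsg.Agent.Lib.SmallOrders.RangeCheck
import Cfsg.Agent.Lib.Fusion.Hyperfocal
import Cfsg.Agent.Lib.Basic

/-!
# There is no simple group of order `58520`

The centralisers of the subgroups of orders `19` and `11` are forced to have orders `19` and `88`;
then no element of order `7` normalises a Sylow `2`-subgroup, so there is a normal `2`-complement.
-/

namespace CfsgLib.SmallOrders.Order58520

open Cfsg CfsgLib CfsgLib.SmallOrders
open scoped Pointwise commutatorElement

set_option autoImplicit false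
set_option linter.unusedVariables false
set_option linter.style.haveILetI false
set_option linter.unusedSectionVars false

universe u

/-- An element of prime order `q` normalising a subgroup with fewer than `q` elements centralises it. -/
theorem commute_of_small {G : Type u} [Group G] [Finite G] {q : ℕ} [hq : Fact q.Prime] {x : G}
    (hx : orderOf x = q) (Y : Subgroup G) (hn : ∀ y ∈ Y, x * y * x⁻¹ ∈ Y)
    (hlt : Nat.card Y < q) {y : G} (hy : y ∈ Y) : x * y = y * x := by
  classical
  haveI := Fintype.ofFinite Y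
  let a : Equiv.Perm Y := Equiv.ofBijective (fun z => ⟨x * z * x⁻¹, hn z z.2⟩)
    (Finite.injective_iff_bijective.1 fun z w h =>
      Subtype.ext (mul_left_cancel (mul_right_cancel (congrArg Subtype.val h))))
  have hpow : ∀ (k : ℕ) (z : Y), (((a ^ k) z : Y) : G) = x ^ k * z * (x ^ k)⁻¹ := by
    intro k
    induction k with
    | zero => intro z; simp
    | succ k ih =>
      intro z
      rw [pow_succ, Equiv.Perm.mul_apply, ih, pow_succ]
      show x ^ k * (x * z * x⁻¹) * (x ^ k)⁻¹ = _
      group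
  have hord : orderOf a ∣ q := orderOf_dvd_of_pow_eq_one (Equiv.ext fun z => Subtype.ext (by
    rw [hpow, ← hx, pow_orderOf_eq_one]; simp))
  rcases hq.out.eq_one_or_self_of_dvd _ hord with h | h
  · have h1 : a = 1 := orderOf_eq_one_iff.1 h
    have h2 : x * y * x⁻¹ = y := congrArg Subtype.val (Equiv.ext_iff.1 h1 ⟨y, hy⟩)
    calc x * y = x * y * x⁻¹ * x := by group
      _ = y * x := by rw [h2]
  · exfalso
    have hd : q ∣ Nat.card (Equiv.Perm Y) := h ▸ orderOf_dvd_natCard a
    rw [Nat.card_perm] at hd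
    have := hq.out.dvd_factorial.1 hd
    omega

/-- Centralisers of Sylow subgroups have the same order. -/
theorem card_centralizer_sylow {G : Type u} [Group G] [Finite G] {p : ℕ} [Fact p.Prime]
    (P Q : Sylow p G) : Nat.card (Subgroup.centralizer ((Q : Subgroup G) : Set G)) =
      Nat.card (Subgroup.centralizer ((P : Subgroup G) : Set G)) := by
  obtain ⟨g, rfl⟩ := MulAction.exists_smul_eq G P Q
  symm
  refine Nat.card_congr ((MulAut.conj g).toEquiv.subtypeEquiv fun c => ?_)
  simp only [Subgroup.mem_centralizer_iff, Sylow.coe_subgroup_smul]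
  constructor
  · rintro h _ ⟨d, hd, rfl⟩
    show g * d * g⁻¹ * (g * c * g⁻¹) = g * c * g⁻¹ * (g * d * g⁻¹)
    calc g * d * g⁻¹ * (g * c * g⁻¹) = g * (d * c) * g⁻¹ := by group
      _ = g * (c * d) * g⁻¹ := by rw [h d hd]
      _ = g * c * g⁻¹ * (g * d * g⁻¹) := by group
  · intro h d hd
    have h2 : g * d * g⁻¹ * (g * c * g⁻¹) = g * c * g⁻¹ * (g * d * g⁻¹) :=
      h _ ⟨d, hd, rfl⟩
    calc d * c = g⁻¹ * (g * d * g⁻¹ * (g * c * g⁻¹)) * g := by group
      _ = g⁻¹ * (g * c * g⁻¹ * (g * d * g⁻¹)) * g := by rw [h2]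
      _ = c * d := by group

/-- The order of the centraliser of an element generating a Sylow subgroup of prime order. -/
theorem dvd_card_of_commute {G : Type u} [Group G] [Finite G] {p : ℕ} [Fact p.Prime]
    (P : Sylow p G) (hP : Nat.card P = p) {x y : G} (hx : orderOf x = p) (h : x * y = y * x) :
    orderOf y ∣ Nat.card (Subgroup.centralizer ((P : Subgroup G) : Set G)) := by
  have hc : Nat.card (Subgroup.zpowers x) = p ^ (Nat.card G).factorization p := by
    rw [Nat.card_zpowers, hx, ← P.card_eq_multiplicity, hP]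
  set Q : Sylow p G := Sylow.ofCard (Subgroup.zpowers x) hc with hQ
  rw [← card_centralizer_sylow P Q]
  have hy : y ∈ Subgroup.centralizer ((Q : Subgroup G) : Set G) := by
    rw [Subgroup.mem_centralizer_iff]
    rintro _ ⟨k, rfl⟩
    exact ((show Commute x y from h).zpow_left k).eq
  rw [← Subgroup.orderOf_mk y hy]
  exact orderOf_dvd_natCard _

variable {G : Type u} [Group G] [Finite G] [IsSimpleGroup G]

set_option maxHeartbeats 800000 in
/-- With Sylow `2`-subgroups of order `8` and no `3`, some element of order `7` normalises one. -/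
theorem seven_dvd_normalizer (hG : ¬ IsMulCommutative G) (h8 : 8 ∣ Nat.card G)
    (h16 : ¬ 16 ∣ Nat.card G) (h3G : ¬ 3 ∣ Nat.card G) (S : Sylow 2 G) :
    7 ∣ Nat.card (Subgroup.normalizer ((S : Subgroup G) : Set G)) := by
  classical
  haveI : Fact (Nat.Prime 2) := ⟨Nat.prime_two⟩
  have h2 : Even (Nat.card G) := even_iff_two_dvd.2 ((by norm_num : 2 ∣ 8).trans h8)
  by_contra h7
  obtain ⟨k, hk⟩ := IsPGroup.iff_card.mp S.2
  have hk4 : k ≤ 3 := by
    by_contra hlt
    exact h16 ((pow_dvd_pow 2 (by omega : 4 ≤ k)).trans (hk ▸ (S : Subgroup G).card_subgroup_dvd_card))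
  have hnpc : Cfsg.HasNormalPComplement 2 G := by
    refine FusionSystem.hasNormalPComplement_of_centralizes S fun Q hQ g hg hgo => ?_
    obtain ⟨α, hα⟩ : ∃ α : MulAut ↥Q, ∀ a, (α a : G) = g * a * g⁻¹ :=
      ⟨{ toFun := fun a => ⟨g * a * g⁻¹, (Subgroup.mem_normalizer_iff.mp hg _).mp a.2⟩
         invFun := fun a => ⟨g⁻¹ * a * g, (Subgroup.mem_normalizer_iff''.mp hg _).mp a.2⟩
         left_inv := fun a => Subtype.ext (by simp [mul_assoc])
         right_inv := fun a => Subtype.ext (by simp [mul_assoc])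
         map_mul' := fun a b => Subtype.ext (by simp [mul_assoc]) }, fun a => rfl⟩
    by_cases h1 : α = 1
    · refine Subgroup.mem_centralizer_iff.mpr fun a ha => ?_
      have h3 := hα ⟨a, ha⟩
      rw [h1, MulAut.one_apply] at h3
      calc a * g = (g * a * g⁻¹) * g := by rw [← h3]
        _ = g * a := by group
    exfalso
    have hpow : ∀ (j : ℕ) (b : ↥Q), (((α ^ j) b) : G) = g ^ j * b * (g ^ j)⁻¹ := by
      intro j
      induction j with
      | zero => intro b; simp
      | succ j ih => intro b; rw [pow_succ, MulAut.mul_apply, ih, hα, pow_succ]; group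
    have hdvd : orderOf α ∣ orderOf g := by
      refine orderOf_dvd_of_pow_eq_one ?_
      ext b
      rw [hpow, pow_orderOf_eq_one]
      simp
    obtain ⟨r, hr, hrd⟩ := Nat.exists_prime_and_dvd (fun e => h1 (orderOf_eq_one_iff.mp e))
    haveI : Fact r.Prime := ⟨hr⟩
    have hr2 : r ≠ 2 := fun e => by
      subst e
      exact Nat.not_coprime_of_dvd_of_dvd (by norm_num) (hrd.trans hdvd) dvd_rfl hgo
    have hrG : r ∣ Nat.card G := (hrd.trans hdvd).trans (orderOf_dvd_natCard g)
    set β := α ^ (orderOf α / r) with hβ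
    have hβo : orderOf β = r := orderOf_pow_orderOf_div (orderOf_pos α).ne' hrd
    haveI : Fintype ↥Q := Fintype.ofFinite _
    set H : Subgroup (MulAut ↥Q) := Subgroup.zpowers β with hH
    have hHp : IsPGroup r ↥H := IsPGroup.of_card (n := 1) (by rw [Nat.card_zpowers, hβo, pow_one])
    have hmod := hHp.card_modEq_card_fixedPoints ↥Q
    set F : Subgroup ↥Q :=
      { carrier := MulAction.fixedPoints H ↥Q
        mul_mem' := fun {a b} ha hb h => by
          show (h : MulAut ↥Q) (a * b) = a * b
          rw [map_mul, show (h : MulAut ↥Q) a = a from ha h, show (h : MulAut ↥Q) b = b from hb h]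
        one_mem' := fun h => map_one (h : MulAut ↥Q)
        inv_mem' := fun {a} ha h => by
          show (h : MulAut ↥Q) a⁻¹ = a⁻¹
          rw [map_inv, show (h : MulAut ↥Q) a = a from ha h] } with hF
    have hFc : Nat.card ↥F = Nat.card (MulAction.fixedPoints H ↥Q) := rfl
    rw [← hFc] at hmod
    obtain ⟨i, hi⟩ := IsPGroup.iff_card.mp (S.2.to_le hQ)
    obtain ⟨j, hj⟩ := IsPGroup.iff_card.mp ((S.2.to_le hQ).to_subgroup F)
    have hik : i ≤ k := (Nat.pow_dvd_pow_iff_le_right (le_refl 2)).mp (hi ▸ hk ▸ Subgroup.card_dvd_of_le hQ)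
    have hji : j < i := by
      rcases lt_or_ge j i with h | h
      · exact h
      exfalso
      have htop : F = ⊤ := Subgroup.eq_top_of_card_eq _ (le_antisymm (Subgroup.card_le_card_group F)
        (by rw [hi, hj]; exact Nat.pow_le_pow_right (by norm_num) h))
      have hβ1 : β = 1 := MulEquiv.ext fun a => (htop.ge (Subgroup.mem_top a) : a ∈ F) ⟨β, Subgroup.mem_zpowers β⟩
      rw [hβ1, orderOf_one] at hβo
      exact hr.ne_one hβo.symm
    rw [hi, hj] at hmod
    have hd : r ∣ 2 ^ i - 2 ^ j := (Nat.modEq_iff_dvd' (Nat.pow_le_pow_right (by norm_num) hji.le)).mp hmod.symm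
    have h4 : 2 ≤ i → 4 ∣ Nat.card G := fun h => (pow_dvd_pow 2 h).trans (hi ▸ Q.card_subgroup_dvd_card)
    have h8 : 3 ≤ i → 8 ∣ Nat.card G := fun h => (pow_dvd_pow 2 h).trans (hi ▸ Q.card_subgroup_dvd_card)
    have hi3 : i ≤ 3 := hik.trans hk4
    have h37 : (r = 3 ∧ 2 ≤ i) ∨ (r = 7 ∧ 3 ≤ i) := by
      interval_cases i <;> interval_cases j <;> simp only [Nat.reducePow, Nat.reduceSub] at hd <;>
        (have := Nat.le_of_dvd (by norm_num) hd; have := hr.two_le; interval_cases r <;> simp_all (config := {decide := true}))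
    rcases h37 with ⟨rfl, h⟩ | ⟨rfl, h⟩
    · exact h3G hrG
    · have hQS : Q = (S : Subgroup G) := Subgroup.eq_of_le_of_card_ge hQ (by
        rw [hk, hi]; exact Nat.pow_le_pow_right (by norm_num) (by omega))
      exact h7 (((hrd.trans hdvd).trans (by
        rw [← Subgroup.orderOf_mk g (hQS ▸ hg : g ∈ Subgroup.normalizer ((S : Subgroup G) : Set G))]
        exact orderOf_dvd_natCard _)))
  obtain ⟨P, N, hN, hNP⟩ := hnpc
  haveI := hN
  rcases hN.eq_bot_or_eq_top with h | h
  · subst h
    have hPtop : (P : Subgroup G) = ⊤ := by simpa using hNP.isCompl.sup_eq_top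
    have hG2 : IsPGroup 2 G := (hPtop ▸ P.2 : IsPGroup 2 ↥(⊤ : Subgroup G)).of_equiv Subgroup.topEquiv
    haveI := hG2.isNilpotent
    exact hG ⟨⟨fun a b => by
      rcases (inferInstance : (Subgroup.center G).Normal).eq_bot_or_eq_top with hc | hc
      · haveI : Nontrivial G := IsSimpleGroup.toNontrivial
        haveI := hG2.center_nontrivial
        exact absurd hc (Subgroup.nontrivial_iff_ne_bot _ |>.mp inferInstance)
      · exact (Subgroup.mem_center_iff.mp (hc.ge (Subgroup.mem_top b)) a)⟩⟩
  · subst h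
    have hP1 : (P : Subgroup G) = ⊥ := by simpa using hNP.isCompl.inf_eq_bot
    have h3 := P.dvd_card_of_dvd_card (even_iff_two_dvd.mp h2)
    rw [hP1, Subgroup.card_bot] at h3
    norm_num at h3


set_option maxHeartbeats 1000000 in
theorem false_58520 (hG : ¬ IsMulCommutative G) (hN : Nat.card G = 58520) : False := by
  classical
  haveI := Fintype.ofFinite G
  haveI : Fact (Nat.Prime 19) := ⟨by norm_num⟩
  haveI : Fact (Nat.Prime 11) := ⟨by norm_num⟩
  haveI : Fact (Nat.Prime 7) := ⟨by norm_num⟩
  haveI : Fact (Nat.Prime 5) := ⟨by norm_num⟩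
  haveI : Fact (Nat.Prime 2) := ⟨by norm_num⟩
  obtain ⟨-, P, n, e, -, -, hP, hC, hNC, hex⟩ := mem_exceptions (G := G) (p := 19) (m := 3080)
    (exc := [(20, 2), (77, 2), (1540, 2)]) (by norm_num) hN (by norm_num) (by norm_num)
    (by decide +kernel)
  obtain ⟨-, R, n', e', -, -, hR, hC', hNC', hex'⟩ := mem_exceptions (G := G) (p := 11) (m := 5320)
    (exc := [(56, 5), (133, 5)]) (by norm_num) hN (by norm_num) (by norm_num) (by decide +kernel)
  set CP := Subgroup.centralizer ((P : Subgroup G) : Set G) with hCP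
  set CR := Subgroup.centralizer ((R : Subgroup G) : Set G) with hCR
  have hPC : (P : Subgroup G) ≤ CP := by
    haveI : IsCyclic (P : Subgroup G) := isCyclic_of_prime_card hP
    exact (P : Subgroup G).le_centralizer
  have hRC : (R : Subgroup G) ≤ CR := by
    haveI : IsCyclic (R : Subgroup G) := isCyclic_of_prime_card hR
    exact (R : Subgroup G).le_centralizer
  -- a subgroup centralising a Sylow subgroup of prime order centralises its conjugates
  simp only [List.mem_cons, List.not_mem_nil, or_false, Prod.mk.injEq] at hex hex'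
  -- elements of orders nineteen and eleven do not commute
  have hC19 : Nat.card CP = 19 := by
    rcases hex with ⟨rfl, rfl⟩ | ⟨rfl, rfl⟩ | ⟨rfl, rfl⟩
    · exfalso
      have hc : Nat.card CP = 1463 := by omega
      obtain ⟨x, hx⟩ := exists_prime_orderOf_dvd_card' (G := CP) 11 (by rw [hc]; norm_num)
      obtain ⟨Y⟩ : Nonempty (Sylow 7 CP) := inferInstance
      have hY : Nat.card Y = 7 := by
        have := SmallOrder.card_sylow_eq (k := 1) Y (by rw [hc]; norm_num) (by rw [hc]; norm_num)
        simpa using this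
      have hm := SmallOrder.card_sylow_mem_filter Y hY (n := 209) (by rw [hc]) (by norm_num)
      have h1 : Nat.card (Sylow 7 CP) = 1 := by
        rw [Finset.mem_filter, Nat.mem_divisors] at hm
        exact (show ∀ d < 210, d ∣ 209 → d % 7 = 1 → d = 1 by decide +kernel) _
          (Nat.lt_succ_of_le (Nat.le_of_dvd (by norm_num) hm.1.1)) hm.1.1 hm.2
      haveI := (Nat.card_eq_one_iff_unique.1 h1).1
      haveI : (Y : Subgroup CP).Normal := Sylow.normal_of_subsingleton Y
      obtain ⟨y, hy⟩ := exists_prime_orderOf_dvd_card' (G := (Y : Subgroup CP)) 7 (by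
        rw [show Nat.card (Y : Subgroup CP) = 7 from hY])
      have hcomm := commute_of_small (q := 11) hx (Y : Subgroup CP) (fun z hz => Subgroup.Normal.conj_mem inferInstance z hz x)
        (by rw [show Nat.card (Y : Subgroup CP) = 7 from hY]; norm_num) y.2
      have h7 := dvd_card_of_commute R hR (x := (x : G)) (y := ((y : CP) : G))
        (by rw [Subgroup.orderOf_coe]; exact hx) (congrArg Subtype.val hcomm)
      rw [Subgroup.orderOf_coe, Subgroup.orderOf_coe, hy] at h7
      rw [← hCR] at h7
      obtain ⟨c, hc7⟩ := h7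
      rcases hex' with ⟨rfl, rfl⟩ | ⟨rfl, rfl⟩ <;> omega
    · exfalso
      have hc : Nat.card CP = 380 := by omega
      obtain ⟨x, hx⟩ := exists_prime_orderOf_dvd_card' (G := CP) 5 (by rw [hc]; norm_num)
      obtain ⟨-, Q, n5, e5, -, -, hQ, hC5, hNC5, hex5⟩ := mem_exceptions (G := G) (p := 5) (m := 11704)
        (exc := [(11, 2), (11, 4), (76, 2), (266, 2), (266, 4), (836, 2), (2926, 2), (2926, 4)])
        (by norm_num) hN (by norm_num) (by norm_num) (by decide +kernel)
      obtain ⟨z, hz⟩ := exists_prime_orderOf_dvd_card' (G := (P : Subgroup G)) 19 (by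
        rw [show Nat.card (P : Subgroup G) = 19 from hP])
      have h19 := dvd_card_of_commute Q hQ (x := (x : G)) (y := (z : G))
        (by rw [Subgroup.orderOf_coe]; exact hx) (Subgroup.mem_centralizer_iff.1 x.2 z z.2).symm
      rw [Subgroup.orderOf_coe, hz] at h19
      obtain ⟨c, hc19⟩ := h19
      have h5320 : Nat.card (Subgroup.normalizer ((Q : Subgroup G) : Set G)) = 5320 := by
        simp only [List.mem_cons, List.not_mem_nil, or_false, Prod.mk.injEq] at hex5
        rcases hex5 with ⟨rfl, rfl⟩ | ⟨rfl, rfl⟩ | ⟨rfl, rfl⟩ | ⟨rfl, rfl⟩ | ⟨rfl, rfl⟩ | ⟨rfl, rfl⟩ |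
          ⟨rfl, rfl⟩ | ⟨rfl, rfl⟩ <;> omega
      have hidx := Subgroup.card_mul_index (Subgroup.normalizer ((Q : Subgroup G) : Set G))
      rw [h5320, hN] at hidx
      have h11 : (Subgroup.normalizer ((Q : Subgroup G) : Set G)).index = 11 := by omega
      have hd := SmallOrder.card_dvd_factorial_index
        (H := Subgroup.normalizer ((Q : Subgroup G) : Set G)) (fun e => by
          rw [e, Subgroup.index_top] at h11; omega)
      rw [h11, hN] at hd
      norm_num [Nat.factorial] at hd
    · omega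
  obtain ⟨r, hr⟩ := exists_prime_orderOf_dvd_card' (G := (R : Subgroup G)) 11 (by
    rw [show Nat.card (R : Subgroup G) = 11 from hR])
  have hCR88 : Nat.card CR = 88 := by
    rcases hex' with ⟨rfl, rfl⟩ | ⟨rfl, rfl⟩
    · exfalso
      obtain ⟨z, hz⟩ := exists_prime_orderOf_dvd_card' (G := CR) 19 (by
        rw [show Nat.card CR = 209 by omega]; norm_num)
      have h := dvd_card_of_commute P hP (x := (z : G)) (y := (r : G))
        (by rw [Subgroup.orderOf_coe]; exact hz) (Subgroup.mem_centralizer_iff.1 z.2 r r.2).symm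
      rw [Subgroup.orderOf_coe, hr, ← hCP, hC19] at h
      norm_num at h
    · omega
  have hNR : Nat.card (Subgroup.normalizer ((R : Subgroup G) : Set G)) = 440 := by
    rcases hex' with ⟨rfl, rfl⟩ | ⟨rfl, rfl⟩ <;> omega
  obtain ⟨T⟩ : Nonempty (Sylow 2 CR) := inferInstance
  have hT : Nat.card ((T : Subgroup CR).map CR.subtype) = 2 ^ 3 := by
    rw [Subgroup.card_subtype, SmallOrder.card_sylow_eq (k := 3) T (by rw [hCR88]; norm_num)
      (by rw [hCR88]; norm_num)]
  have hfac : (Nat.card G).factorization 2 = 3 := by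
    obtain ⟨S₀⟩ : Nonempty (Sylow 2 G) := inferInstance
    have h := S₀.card_eq_multiplicity
    rw [SmallOrder.card_sylow_eq (k := 3) S₀ (by rw [hN]; norm_num) (by rw [hN]; norm_num)] at h
    exact (Nat.pow_right_injective le_rfl h).symm
  set S : Sylow 2 G := Sylow.ofCard ((T : Subgroup CR).map CR.subtype) (by rw [hfac]; exact hT) with hS
  have hSC : (S : Subgroup G) ≤ CR := Subgroup.map_subtype_le _
  have hS8 : Nat.card (S : Subgroup G) = 8 := hT.trans (by norm_num)
  set K := Subgroup.normalizer ((S : Subgroup G) : Set G) with hK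
  have h7K : 7 ∣ Nat.card K := seven_dvd_normalizer hG (by rw [hN]; norm_num) (by rw [hN]; norm_num)
    (by rw [hN]; norm_num) S
  have hK19 : ¬ 19 ∣ Nat.card K := by
    intro h
    obtain ⟨z, hz⟩ := exists_prime_orderOf_dvd_card' (G := K) 19 h
    obtain ⟨s, hs⟩ := exists_prime_orderOf_dvd_card' (G := (S : Subgroup G)) 2 (by rw [hS8]; norm_num)
    have hcomm := commute_of_small (q := 19) (x := (z : G)) (by rw [Subgroup.orderOf_coe]; exact hz)
      (S : Subgroup G) (fun y hy => (Subgroup.mem_normalizer_iff.1 z.2 y).1 hy)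
      (by rw [hS8]; norm_num) s.2
    have h := dvd_card_of_commute P hP (x := (z : G)) (y := (s : G))
      (by rw [Subgroup.orderOf_coe]; exact hz) hcomm
    rw [Subgroup.orderOf_coe, hs, ← hCP, hC19] at h
    norm_num at h
  have hRK : (R : Subgroup G) ≤ K := fun a ha => Subgroup.centralizer_le_normalizer _
    (Subgroup.mem_centralizer_iff.2 fun b hb =>
      ((Subgroup.mem_centralizer_iff.1 (hSC hb)) a ha).symm)
  set RK := R.subtype hRK with hRKdef
  have hRK11 : Nat.card RK = 11 := by
    show Nat.card ((R : Subgroup G).subgroupOf K) = 11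
    rw [Nat.card_congr (Subgroup.subgroupOfEquivOfLe hRK).toEquiv]
    exact hR
  obtain ⟨k, hk⟩ : 11 ∣ Nat.card K := hR ▸ Subgroup.card_dvd_of_le hRK
  have hk280 : k ∣ 280 := by
    have h : Nat.card K ∣ 3080 * 19 :=
      (Subgroup.card_subgroup_dvd_card K).trans (by rw [hN])
    have h' : Nat.card K ∣ 3080 := (Nat.Coprime.dvd_of_dvd_mul_right
      ((Nat.Prime.coprime_iff_not_dvd (by norm_num)).2 hK19).symm h)
    rw [hk, show 3080 = 11 * 280 by norm_num] at h'
    exact Nat.dvd_of_mul_dvd_mul_left (by norm_num) h'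
  have hm := SmallOrder.card_sylow_mem_filter RK hRK11 hk (by norm_num)
  rw [Finset.mem_filter, Nat.mem_divisors] at hm
  have hn : Nat.card (Sylow 11 K) = 1 ∨ Nat.card (Sylow 11 K) = 56 :=
    (show ∀ d < 281, d ∣ 280 → d % 11 = 1 → d = 1 ∨ d = 56 by decide +kernel) _
      (Nat.lt_succ_of_le (Nat.le_of_dvd (by norm_num) (hm.1.1.trans hk280))) (hm.1.1.trans hk280) hm.2
  have hmul := SmallOrder.card_normalizer_mul_card_sylow RK
  rcases hn with hn | hn
  · haveI := (Nat.card_eq_one_iff_unique.1 hn).1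
    haveI hnor : (RK : Subgroup K).Normal := Sylow.normal_of_subsingleton RK
    have hKN : K ≤ Subgroup.normalizer ((R : Subgroup G) : Set G) := by
      intro g hg
      refine Subgroup.mem_normalizer_iff.2 fun a => ⟨fun ha => ?_, fun ha => ?_⟩
      · exact hnor.conj_mem ⟨a, hRK ha⟩ ha ⟨g, hg⟩
      · have h := hnor.conj_mem ⟨_, hRK ha⟩ ha (⟨g, hg⟩⁻¹ : K)
        have h' : g⁻¹ * (g * a * g⁻¹) * g⁻¹⁻¹ ∈ (R : Subgroup G) := h
        rwa [show g⁻¹ * (g * a * g⁻¹) * g⁻¹⁻¹ = a by group] at h'
    have := h7K.trans (Subgroup.card_dvd_of_le hKN)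
    rw [hNR] at this
    norm_num at this
  · have hSN : (S : Subgroup G).subgroupOf K ≤
        Subgroup.normalizer ((RK : Subgroup K) : Set K) := fun s hs =>
      Subgroup.centralizer_le_normalizer _ (Subgroup.mem_centralizer_iff.2 fun b hb =>
        Subtype.ext ((Subgroup.mem_centralizer_iff.1 (hSC hs)) (b : G) hb))
    have h8 := Subgroup.card_dvd_of_le hSN
    rw [Nat.card_congr (Subgroup.subgroupOfEquivOfLe Subgroup.le_normalizer).toEquiv, hS8] at h8
    have h16 : 16 ∣ Nat.card K := by
      rw [← hmul, hn]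
      exact (show 16 ∣ 8 * 56 by norm_num).trans (mul_dvd_mul h8 dvd_rfl)
    have := h16.trans (Subgroup.card_subgroup_dvd_card K)
    rw [hN] at this
    norm_num at this

end CfsgLib.SmallOrders.Order58520
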