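import Cfsg.Agent.Lib.SmallOrders.Order58520

/-!
# Groups of order dividing `175560`

Every group of order a proper divisor of `175560` divisible by `19`, and every non-simple group of
that order, has a normal Sylow `19`-subgroup.
-/

namespace CfsgLib.SmallOrders.Order175560

open Cfsg CfsgLib.SmallOrders CfsgLib.SmallOrders.Order58520

set_option autoImplicit false
set_option linter.unusedVariables false
set_option linter.style.haveILetI false
set_option linter.unusedSectionVars false

universe u

/-- The proper divisors of `175560` divisible by `19`, with certificates. -/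
def table : List (ℕ × ℕ) :=
  [(19, 64076011), (38, 608008211), (57, 608012211), (76, 608008221), (95, 608020211), (114, 2), (133, 608028211), (152, 608008231), (190, 2), (209, 608044211), (228, 76014), (266, 2), (285, 12013), (380, 2), (399, 12013), (418, 2), (456, 76014), (532, 2), (570, 2), (627, 12013), (665, 20013), (760, 2), (798, 2), (836, 2), (1045, 20013), (1064, 28014), (1140, 20014), (1254, 2), (1330, 2), (1463, 28013), (1596, 76014), (1672, 2), (1995, 12013), (2090, 2), (2280, 20005), (2508, 44014), (2660, 2), (2926, 2), (3135, 12013), (3192, 76014), (3990, 2), (4180, 2), (4389, 12013), (5016, 44014), (5320, 76005), (5852, 2), (6270, 2), (7315, 20013), (7980, 20005), (8360, 2), (8778, 2), (11704, 28005), (12540, 44014), (14630, 2), (15960, 76005), (17556, 28005), (21945, 12013), (25080, 44014), (29260, 2), (35112, 28005), (43890, 2), (58520, 0), (87780, 76005)]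

theorem table_ok : (table.all fun c => certOk [58520] c.1 (decodeCert c.2)) = true := by
  decide +kernel

theorem table_complete : ((List.range 4621).all fun j => decide (9240 % (j + 0) ≠ 0) ||
    (table.map Prod.fst).contains (19 * j)) = true := by decide +kernel

theorem mem_table {d : ℕ} (h : d ∣ 175560) (h19 : 19 ∣ d) (hlt : d < 175560) :
    ∃ c, (d, c) ∈ table := by
  obtain ⟨j, rfl⟩ := h19
  have hj : j ∣ 9240 := Nat.dvd_of_mul_dvd_mul_left (show 0 < 19 by norm_num) (by norm_num; exact h)
  have hle : j < 4621 := by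
    obtain ⟨t, ht⟩ := hj
    rcases t with _ | _ | t
    · simp at ht
    · omega
    · nlinarith
  have := List.all_eq_true.1 table_complete j (List.mem_range.2 hle)
  simp only [add_zero, Bool.or_eq_true, decide_eq_true_eq, List.contains_iff_mem, List.mem_map] at this
  rcases this with h' | ⟨c, hc, e⟩
  · exact absurd (Nat.mod_eq_zero_of_dvd hj) h'
  · exact ⟨c.2, e ▸ hc⟩

variable {G : Type u} [Group G] [Finite G] [Fact (Nat.Prime 19)]

theorem normal_of_card (K : Subgroup G) [hKn : K.Normal] (hK : Nat.card K = 19)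
    (h19 : ¬ 19 ^ 2 ∣ Nat.card G) (P : Sylow 19 G) : (P : Subgroup G).Normal := by
  have hP : Nat.card P = 19 := by
    have := SmallOrder.card_sylow_eq (k := 1) P (by
      rw [pow_one, ← hK]; exact K.card_subgroup_dvd_card) h19
    simpa using this
  obtain ⟨Q, hQ⟩ := (IsPGroup.of_card (p := 19) (n := 1) (by rw [hK, pow_one])).exists_le_sylow
  obtain ⟨g, rfl⟩ := MulAction.exists_smul_eq G P Q
  have hle : K ≤ (P : Subgroup G) := fun k hk => by
    obtain ⟨d, hd, e⟩ : g * k * g⁻¹ ∈ ((g • P : Sylow 19 G) : Subgroup G) := hQ (hKn.conj_mem k hk g)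
    have e' : g * d * g⁻¹ = g * k * g⁻¹ := e
    rwa [← mul_left_cancel (mul_right_cancel e')]
  rw [← Subgroup.eq_of_le_of_card_ge hle (by rw [show Nat.card (P : Subgroup G) = 19 from hP, hK])]
  exact hKn

/-- The inductive step for a group with a proper normal subgroup. -/
theorem step (hd : Nat.card G ∣ 175560) (h19 : 19 ∣ Nat.card G)
    (IH : ∀ (H : Type u) [Group H] [Finite H], Nat.card H < Nat.card G → Nat.card H ∣ 175560 →
      19 ∣ Nat.card H → ∀ P : Sylow 19 H, (P : Subgroup H).Normal)
    (N : Subgroup G) [hN : N.Normal] (hbot : N ≠ ⊥) (htop : N ≠ ⊤) (P : Sylow 19 G) :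
    (P : Subgroup G).Normal := by
  classical
  have hp : Nat.Prime 19 := by norm_num
  have h361 : ¬ 19 ^ 2 ∣ Nat.card G := fun h => absurd (h.trans hd) (by norm_num)
  have hP : Nat.card (P : Subgroup G) = 19 := by
    have := SmallOrder.card_sylow_eq (k := 1) P (by rwa [pow_one]) h361
    simpa using this
  have hNlt : Nat.card N < Nat.card G := lt_of_le_of_ne (Subgroup.card_le_card_group N)
    fun e => htop (Subgroup.eq_top_of_card_eq _ e)
  by_cases hN19 : 19 ∣ Nat.card N
  · obtain ⟨Q⟩ : Nonempty (Sylow 19 N) := inferInstance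
    haveI := IH N hNlt (N.card_subgroup_dvd_card.trans hd) hN19 Q
    haveI := Q.characteristic_of_normal ‹_›
    refine normal_of_card ((Q : Subgroup N).map N.subtype) ?_ h361 P
    rw [Subgroup.card_subtype]
    have := SmallOrder.card_sylow_eq (k := 1) Q (by rwa [pow_one])
      (fun h => h361 (h.trans N.card_subgroup_dvd_card))
    simpa using this
  set f := QuotientGroup.mk' N with hf
  have hq : Nat.card G = Nat.card (G ⧸ N) * Nat.card N := Subgroup.card_eq_card_quotient_mul_card_subgroup N
  have hN1 : 1 < Nat.card N := N.one_lt_card_iff_ne_bot.2 hbot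
  have hq19 : 19 ∣ Nat.card (G ⧸ N) := (hp.dvd_mul.1 (hq ▸ h19)).resolve_right hN19
  have hqlt : Nat.card (G ⧸ N) < Nat.card G := by
    have := Nat.card_pos (α := G ⧸ N)
    rw [hq]
    exact lt_mul_of_one_lt_right this hN1
  have hqd : Nat.card (G ⧸ N) ∣ 175560 := (Dvd.intro _ hq.symm).trans hd
  obtain ⟨Q⟩ : Nonempty (Sylow 19 (G ⧸ N)) := inferInstance
  haveI := IH (G ⧸ N) hqlt hqd hq19 Q
  have hQ : Nat.card (Q : Subgroup (G ⧸ N)) = 19 := by
    have := SmallOrder.card_sylow_eq (k := 1) Q (by rwa [pow_one])
      (fun h => absurd (h.trans hqd) (by norm_num))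
    simpa using this
  set M := (Q : Subgroup (G ⧸ N)).comap f with hM
  haveI hMn : M.Normal := Subgroup.Normal.comap inferInstance f
  have hMcard : Nat.card M = 19 * Nat.card N := by
    have h1 := Subgroup.card_mul_index M
    rw [hM, Subgroup.index_comap_of_surjective _ (QuotientGroup.mk'_surjective N)] at h1
    have h2 := Subgroup.card_mul_index (Q : Subgroup (G ⧸ N))
    rw [hQ] at h2
    have h3 : Nat.card M * (Q : Subgroup (G ⧸ N)).index =
        (19 * Nat.card N) * (Q : Subgroup (G ⧸ N)).index := by
      rw [hM, h1, hq, ← h2]; ring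
    exact Nat.eq_of_mul_eq_mul_right (Nat.pos_of_ne_zero Subgroup.index_ne_zero_of_finite) h3
  by_cases hMtop : M = ⊤
  · -- the Sylow subgroup is central
    have hG19 : Nat.card G = 19 * Nat.card N := by rw [← hMcard, hMtop, Subgroup.card_top]
    set C := Subgroup.centralizer ((P : Subgroup G) : Set G) with hC
    have hNC : Nat.card N ∣ Nat.card C := by
      refine Nat.dvd_iff_prime_pow_dvd_dvd _ _ |>.2 fun r k hr hrk => ?_
      haveI : Fact r.Prime := ⟨hr⟩
      rcases Nat.eq_zero_or_pos k with rfl | hk
      · simp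
      obtain ⟨R⟩ : Nonempty (Sylow r N) := inferInstance
      set K := Subgroup.normalizer ((((R : Subgroup N).map N.subtype : Subgroup G)) : Set G) with hK
      have hKmap : K.map f = ⊤ := by
        rw [eq_top_iff]
        rintro x -
        obtain ⟨g, rfl⟩ := QuotientGroup.mk'_surjective N x
        have hg : g ∈ K ⊔ N := (Sylow.normalizer_sup_eq_top R).ge (Subgroup.mem_top g)
        obtain ⟨a, ha, b, hb, rfl⟩ := Subgroup.mem_sup_of_normal_right.1 hg
        refine ⟨a, ha, ?_⟩
        rw [map_mul, (QuotientGroup.eq_one_iff b).2 hb |> fun (h : f b = 1) => h, mul_one]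
      have h19K : 19 ∣ Nat.card K := by
        refine hq19.trans ?_
        have := Subgroup.card_map_dvd K f
        rwa [hKmap, Subgroup.card_top] at this
      obtain ⟨z, hz⟩ := exists_prime_orderOf_dvd_card' (G := K) 19 h19K
      have hR : Nat.card ((R : Subgroup N).map N.subtype) = r ^ (Nat.card N).factorization r := by
        rw [Subgroup.card_subtype]; exact R.card_eq_multiplicity
      set a := (Nat.card N).factorization r with ha
      have hka : k ≤ a := (hr.pow_dvd_iff_le_factorization Nat.card_pos.ne').1 hrk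
      have ha175 : r ^ a ∣ 175560 :=
        (Nat.ordProj_dvd _ _).trans (N.card_subgroup_dvd_card.trans hd)
      have hr19 : r ≠ 19 := by
        rintro rfl
        exact hN19 ((dvd_pow_self _ hk.ne').trans hrk)
      have hlt : r ^ a < 19 := by
        have hd' : r ^ a ∣ 9240 := by
          have hc : (r ^ a).Coprime 19 :=
            ((Nat.coprime_primes hr hp).2 hr19).pow_left _
          exact hc.dvd_of_dvd_mul_right (show r ^ a ∣ 9240 * 19 by norm_num; exact ha175)
        have hrd : r ∣ 9240 := (dvd_pow_self r (by omega)).trans hd'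
        have hrmem : r = 2 ∨ r = 3 ∨ r = 5 ∨ r = 7 ∨ r = 11 := by
          rw [show (9240 : ℕ) = 2 * 2 * 2 * 3 * 5 * 7 * 11 by norm_num] at hrd
          simp only [hr.dvd_mul] at hrd
          have h2 := fun q (hq : Nat.Prime q) (h : r ∣ q) => (Nat.prime_dvd_prime_iff_eq hr hq).1 h
          rcases hrd with (((((h | h) | h) | h) | h) | h) | h
          exacts [Or.inl (h2 2 Nat.prime_two h), Or.inl (h2 2 Nat.prime_two h),
            Or.inl (h2 2 Nat.prime_two h), Or.inr (Or.inl (h2 3 Nat.prime_three h)),
            Or.inr (Or.inr (Or.inl (h2 5 Nat.prime_five h))),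
            Or.inr (Or.inr (Or.inr (Or.inl (h2 7 (by norm_num) h)))),
            Or.inr (Or.inr (Or.inr (Or.inr (h2 11 (by norm_num) h))))]
        by_contra h
        push Not at h
        have ha4 : a < 14 := by
          have h1 : 2 ^ a ≤ r ^ a := Nat.pow_le_pow_left hr.two_le _
          have h2 := Nat.le_of_dvd (by norm_num) hd'
          by_contra h'
          have h3 : 2 ^ 14 ≤ 2 ^ a := Nat.pow_le_pow_right (by norm_num) (by omega)
          omega
        rcases hrmem with rfl | rfl | rfl | rfl | rfl <;> interval_cases a <;> first | (norm_num at h; done) | (norm_num at hd')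
      have hzR : ∀ y ∈ (R : Subgroup N).map N.subtype, (z : G) * y = y * z := fun y hy =>
        commute_of_small (q := 19) (by rw [Subgroup.orderOf_coe]; exact hz) _
          (fun w hw => (Subgroup.mem_normalizer_iff.1 z.2 w).1 hw) (by rw [hR]; exact hlt) hy
      have hc : Nat.card (Subgroup.zpowers (z : G)) = 19 ^ (Nat.card G).factorization 19 := by
        rw [Nat.card_zpowers, Subgroup.orderOf_coe, hz, ← P.card_eq_multiplicity, hP]
      rw [hC, ← card_centralizer_sylow P (Sylow.ofCard (Subgroup.zpowers (z : G)) hc)]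
      refine (Nat.pow_dvd_pow r hka).trans (hR ▸ Subgroup.card_dvd_of_le ?_)
      intro y hy
      rw [Subgroup.mem_centralizer_iff]
      rintro _ ⟨j, rfl⟩
      exact ((show Commute (z : G) y from hzR y hy).zpow_left j).eq
    haveI : IsCyclic (P : Subgroup G) := isCyclic_of_prime_card hP
    have hPC : (P : Subgroup G) ≤ C := (P : Subgroup G).le_centralizer
    have h19C : 19 ∣ Nat.card C := hP ▸ Subgroup.card_dvd_of_le hPC
    have hCtop : C = ⊤ := Subgroup.eq_top_of_card_eq _ (Nat.dvd_antisymm C.card_subgroup_dvd_card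
      (hG19 ▸ ((hp.coprime_iff_not_dvd).2 hN19).mul_dvd_of_dvd_of_dvd h19C hNC))
    exact ⟨fun x hx g => by
      have h : x * g = g * x := Subgroup.mem_centralizer_iff.1 (hCtop.ge (Subgroup.mem_top g)) x hx
      rw [← h, mul_inv_cancel_right]
      exact hx⟩
  · have hMlt : Nat.card M < Nat.card G := lt_of_le_of_ne (Subgroup.card_le_card_group M)
      fun e => hMtop (Subgroup.eq_top_of_card_eq _ e)
    obtain ⟨R⟩ : Nonempty (Sylow 19 M) := inferInstance
    haveI := IH M hMlt (M.card_subgroup_dvd_card.trans hd) (hMcard ▸ dvd_mul_right 19 _) R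
    haveI := R.characteristic_of_normal ‹_›
    refine normal_of_card ((R : Subgroup M).map M.subtype) ?_ h361 P
    rw [Subgroup.card_subtype]
    have := SmallOrder.card_sylow_eq (k := 1) R (by rw [pow_one, hMcard]; exact dvd_mul_right 19 _)
      (fun h => h361 (h.trans M.card_subgroup_dvd_card))
    simpa using this

omit [Finite G] in
theorem proper_divisor : ∀ (n : ℕ) (H : Type u) [Group H] [Finite H], Nat.card H = n →
    n < 175560 → n ∣ 175560 → 19 ∣ n → ∀ P : Sylow 19 H, (P : Subgroup H).Normal := by
  intro n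
  induction n using Nat.strong_induction_on with
  | _ n ih =>
    intro H _ _ hcard hlt hd h19 P
    classical
    by_cases hs : ∃ N : Subgroup H, N.Normal ∧ N ≠ ⊥ ∧ N ≠ ⊤
    · obtain ⟨N, hN, hb, ht⟩ := hs
      haveI := hN
      exact step (hcard ▸ hd) (hcard ▸ h19) (fun K _ _ hK hKd hK19 =>
        ih _ (hcard ▸ hK) K rfl (lt_trans (hcard ▸ hK) hlt) hKd hK19) N hb ht P
    · push Not at hs
      haveI : Nontrivial H := Finite.one_lt_card_iff_nontrivial.1 (by
        rw [hcard]
        exact lt_of_lt_of_le (by norm_num) (Nat.le_of_dvd (hcard ▸ Nat.card_pos) h19))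
      haveI : IsSimpleGroup H := ⟨fun N hN => by
        by_cases hb : N = ⊥
        · exact Or.inl hb
        · exact Or.inr (hs N hN hb)⟩
      by_cases hG : IsMulCommutative H
      · exact ⟨fun x hx g => by rwa [hG.is_comm.comm g x, mul_inv_cancel_right]⟩
      exfalso
      obtain ⟨c, hc⟩ := mem_table hd h19 hlt
      have hok := List.all_eq_true.1 table_ok _ hc
      rw [← hcard] at hok
      exact false_58520 hG (List.mem_singleton.1 (mem_of_certOk hG hok))

theorem simple_or_normal (hG : Nat.card G = 175560) :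
    IsSimpleGroup G ∨ ∀ P : Sylow 19 G, (P : Subgroup G).Normal := by
  classical
  by_cases hs : ∃ N : Subgroup G, N.Normal ∧ N ≠ ⊥ ∧ N ≠ ⊤
  · obtain ⟨N, hN, hb, ht⟩ := hs
    haveI := hN
    exact Or.inr fun P => step (hG ▸ dvd_rfl) (hG ▸ (by norm_num : 19 ∣ 175560))
      (fun K _ _ hK hKd hK19 => proper_divisor _ K rfl (hG ▸ hK) hKd hK19) N hb ht P
  · push Not at hs
    haveI : Nontrivial G := Finite.one_lt_card_iff_nontrivial.1 (by rw [hG]; norm_num)
    exact Or.inl ⟨fun N hN => by
      by_cases hb : N = ⊥
      · exact Or.inl hb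
      · exact Or.inr (hs N hN hb)⟩

end CfsgLib.SmallOrders.Order175560
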