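import Cfsg.Agent.Lib.SmallOrders.Order459648
import Cfsg.Agent.Lib.SmallOrders.ClassEquation
import Cfsg.Agent.Lib.SmallOrders.PSLHalfDegree

/-!
# There is no simple group of order `5040`
-/

namespace CfsgLib.SmallOrders.Order5040

open Cfsg CfsgLib.CharTheory CfsgLib.Blocks CfsgLib.SmallOrders

set_option autoImplicit false
set_option linter.unusedVariables false
set_option linter.style.haveILetI false
set_option linter.unusedSectionVars false

universe u

theorem degCheck_seven : degCheck 7 720 [(8, 2), (15, 2), (36, 2), (120, 2), (120, 6)] = true := by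
  decide +kernel

theorem degCheck_five : degCheck 5 1008 [(6, 4), (21, 4), (36, 4), (126, 4)] = true := by
  decide +kernel

theorem seven_fifteen : search (cands 7 720 (7 * 720) 14 1)
    (fun l => degOk 7 720 (7 * 720) 14 2 l && decide ((1 + l.sum).natAbs ≠ 15) &&
      !(l.map Int.natAbs).contains 15) (2 - 1) [] = false := by decide +kernel

theorem five_sixteen : search (cands 5 1008 (5 * 1008) 10 1)
    (fun l => degOk 5 1008 (5 * 1008) 10 4 l && decide ((1 + l.sum).natAbs ≠ 16) &&
      !(l.map Int.natAbs).contains 16) (4 - 1) [] = false := by decide +kernel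

/-- The possible orders of the centraliser of an element of order `3` centralising `P`, of index at
least `9`, given by the number `d` of its Sylow `7`-subgroups and the order `f` of a normaliser. -/
theorem numeric : (List.range 561).all (fun d => (List.range 337).all fun f =>
    !(decide (d % 7 = 1) && decide (336 % f = 0) && decide (f % 21 = 0) && decide (f % 9 ≠ 0) &&
      decide (d * f % 9 = 0) && decide (d * f ≤ 560) && decide (5040 % (d * f) = 0)) ||
      (decide (d = 15) && decide (f = 21))) = true := by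
  decide +kernel

variable {G : Type u} [Group G] [Fintype G]

/-- A degree occurring in every admissible list occurs in the shape. -/
theorem exists_degree [IsSimpleGroup G] {p m e d k : ℕ} [hpf : Fact p.Prime]
    {M : Ideal AlgInt} {P : Subgroup G}
    (S : Shape p M P e) (hN : Nat.card G = p * m) (he : e < p) (he0 : 0 < e)
    (hk : ∀ χ : IrrCharacter G, χ ∈ S.X ∨ χ ∈ S.Y → k ≤ charDegree (χ : G → ℂ))
    (hs : search (cands p m (p * m) k 1) (fun l => degOk p m (p * m) k e l &&
      decide ((1 + l.sum).natAbs ≠ d) && !(l.map Int.natAbs).contains d) (e - 1) [] = false) :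
    ∃ χ, (χ ∈ S.X ∨ χ ∈ S.Y) ∧ charDegree (χ : G → ℂ) = d := by
  classical
  by_contra hno
  push Not at hno
  have hp : p.Prime := hpf.out
  have hm0 : m ≠ 0 := fun h => Nat.card_pos.ne' (by rw [hN, h, mul_zero] : Nat.card G = 0)
  obtain ⟨ψ, hψ⟩ : S.Y.Nonempty := Finset.card_pos.1 (S.cardY ▸ S.cardY_pos)
  have hdvd : ∀ (χ : IrrCharacter G) (s : ℤ) (r : ℕ), 0 < r → r < p →
      (p : ℤ) ∣ s * charDegree (χ : G → ℂ) - r → charDegree (χ : G → ℂ) ∣ m := by
    intro χ s r hr0 hrp h
    refine dvd_of_dvd_mul_prime hp (hN ▸ charDegree_dvd_card χ) fun hd => ?_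
    have : (p : ℤ) ∣ (r : ℤ) := by
      have := dvd_sub (dvd_mul_of_dvd_right (Int.natCast_dvd_natCast.2 hd) s) h
      simpa using this
    have := Nat.le_of_dvd hr0 (Int.natCast_dvd_natCast.1 this)
    omega
  have hsq := S.sum_sq_degree_le
  set l := S.X.toList.map fun χ : IrrCharacter G => S.δ χ * (charDegree (χ : G → ℂ) : ℤ) with hl
  have hb : 1 + l.sum = S.ε * charDegree (ψ : G → ℂ) := by
    rw [hl, Finset.sum_map_toList, S.degree_relation hp hψ]
  have hn := natAbs_sign_mul S.signY (charDegree (ψ : G → ℂ))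
  have htrue := search_complete (A := cands p m (p * m) k 1)
    (ok := fun l => degOk p m (p * m) k e l && decide ((1 + l.sum).natAbs ≠ d) &&
      !(l.map Int.natAbs).contains d) l [] (fun a ha => ?_) ?_
  · rw [show l.length = e - 1 by simp [hl, S.cardX], hs] at htrue
    exact Bool.false_ne_true htrue
  · obtain ⟨χ, hχ, rfl⟩ := List.mem_map.1 ha
    rw [Finset.mem_toList] at hχ
    have hn := natAbs_sign_mul (S.sign χ hχ) (charDegree (χ : G → ℂ))
    refine mem_cands hm0 ?_ (by rw [hn]; exact hk χ (Or.inl hχ)) (S.degX χ hχ) ?_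
    · rw [hn]; exact hdvd χ _ 1 one_pos hp.one_lt (by simpa using S.degX χ hχ)
    · have h1 : charDegree (χ : G → ℂ) ^ 2 ≤ ∑ φ ∈ S.X, charDegree (φ : G → ℂ) ^ 2 :=
        Finset.single_le_sum (f := fun φ : IrrCharacter G => charDegree (φ : G → ℂ) ^ 2)
          (fun _ _ => Nat.zero_le _) hχ
      rw [hn, ← sq, ← hN]
      omega
  · simp only [List.append_nil, Bool.and_eq_true, Bool.not_eq_true', decide_eq_true_eq, degOk,
      List.sum_reverse, hb, hn]
    refine ⟨⟨⟨⟨⟨hdvd ψ _ e he0 he (S.degY ψ hψ), hk ψ (Or.inr hψ)⟩,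
      Int.emod_eq_zero_of_dvd (S.degY ψ hψ)⟩, ?_⟩, hno ψ (Or.inr hψ)⟩, ?_⟩
    · rw [List.map_reverse, List.sum_reverse, ← hN]
      refine le_trans (le_of_eq ?_) hsq
      simp only [hl, List.map_map]
      rw [Finset.sum_map_toList, Finset.sum_congr (s₁ := S.X) rfl fun χ hχ => by
          rw [Function.comp_apply, natAbs_sign_mul (S.sign χ hχ), ← sq],
        Finset.sum_congr (s₁ := S.Y) rfl fun θ hθ => by rw [S.charDegree_eq hp hθ hψ],
        Finset.sum_const, S.cardY, smul_eq_mul, sq (charDegree (ψ : G → ℂ))]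
    · rw [← Bool.not_eq_true, List.contains_iff_mem]
      simp only [List.mem_map, List.mem_reverse, not_exists, not_and, hl, Finset.mem_toList]
      rintro a ⟨χ, hχ, rfl⟩
      rw [natAbs_sign_mul (S.sign χ hχ)]
      exact hno χ (Or.inl hχ)

variable [IsSimpleGroup G]

theorem index_bound (hN : Nat.card G = 7 * 720) {H : Subgroup G} (hH : H ≠ ⊤) :
    Nat.card H ≤ 560 := by
  have h1 := SmallOrder.card_dvd_factorial_index hH
  rw [hN] at h1
  have h2 := H.card_mul_index
  rw [hN] at h2
  by_contra hlt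
  have h3 : H.index < 9 := by
    by_contra h9
    push Not at h9
    nlinarith
  have h4 : H.index = 7 ∨ H.index = 8 := by
    interval_cases hi : H.index <;> norm_num [Nat.factorial] at h1 <;> omega
  -- the sign
  classical
  letI : Fintype (G ⧸ H) := Fintype.ofFinite _
  let φ := MulAction.toPermHom G (G ⧸ H)
  have hφ : Function.Injective φ := by
    rw [← MonoidHom.ker_eq_bot_iff]
    rcases (Subgroup.Normal.eq_bot_or_eq_top (inferInstance : φ.ker.Normal)) with h | h
    · exact h
    · exfalso; apply hH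
      rw [← Subgroup.normalCore_eq_ker] at h
      exact top_le_iff.mp (h.ge.trans H.normalCore_le)
  have hna := not_comm hN (by norm_num)
  have hsgn : ∀ g : G, Equiv.Perm.sign (φ g) = 1 := fun g =>
    hom_trivial hna (Equiv.Perm.sign.comp φ) g
  have hle : φ.range ≤ alternatingGroup (G ⧸ H) := by
    rintro _ ⟨g, rfl⟩
    exact Equiv.Perm.mem_alternatingGroup.2 (hsgn g)
  have hq : Nat.card (G ⧸ H) = H.index := rfl
  haveI : Nontrivial (G ⧸ H) := Finite.one_lt_card_iff_nontrivial.1 (by omega)
  have h2A := two_mul_nat_card_alternatingGroup (α := G ⧸ H)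
  rw [Nat.card_perm, hq] at h2A
  set K := φ.range.subgroupOf (alternatingGroup (G ⧸ H))
  have hK : Nat.card K = 5040 := by
    rw [Nat.card_congr (Subgroup.subgroupOfEquivOfLe hle).toEquiv,
      ← Nat.card_congr (MonoidHom.ofInjective hφ).toEquiv, hN]
  have hKA := K.card_mul_index
  rw [hK] at hKA
  rw [← hKA] at h2A
  rcases h4 with h4 | h4 <;> rw [h4] at h2A <;> norm_num [Nat.factorial] at h2A
  · have h0 : K.index ≠ 0 := Subgroup.index_ne_zero_of_finite
    have h5 : 1 ≤ K.index := by omega
    have h6 : 5040 ≤ 5040 * K.index := Nat.le_mul_of_pos_right _ h5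
    omega
  · haveI : IsSimpleGroup (alternatingGroup (G ⧸ H)) := alternatingGroup.isSimpleGroup (by omega)
    have hi : K.index = 4 := by omega
    have hKtop : K ≠ ⊤ := fun h => by rw [h, Subgroup.index_top] at hi; omega
    have h7 := SmallOrder.card_dvd_factorial_index hKtop
    rw [← hKA, hi] at h7
    have := Nat.le_of_dvd (by decide) h7
    norm_num [Nat.factorial] at this

/-- No element of order `3` centralises `P` when `5` does not divide `|C(P)|`. -/
theorem no_three [Fact (Nat.Prime 7)] (hN : Nat.card G = 7 * 720) (P : Sylow 7 G)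
    (hP : Nat.card P = 7)
    (h5C : ¬ 5 ∣ Nat.card (Subgroup.centralizer ((P : Subgroup G) : Set G)))
    (hNd : Nat.card (Subgroup.normalizer ((P : Subgroup G) : Set G)) ∣ 336)
    (hN9 : ¬ 9 ∣ Nat.card (Subgroup.normalizer ((P : Subgroup G) : Set G))) {y : G}
    (hy : y ∈ Subgroup.centralizer ((P : Subgroup G) : Set G)) (hy3 : orderOf y = 3) : False := by
  classical
  haveI h3' : Fact (Nat.Prime 3) := ⟨by norm_num⟩
  haveI h5' : Fact (Nat.Prime 5) := ⟨by norm_num⟩
  set C := Subgroup.centralizer ((P : Subgroup G) : Set G) with hC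
  set N := Subgroup.normalizer ((P : Subgroup G) : Set G) with hNdef
  set K := Subgroup.centralizer ({y} : Set G) with hK
  have hCN : C ≤ N := Subgroup.centralizer_le_normalizer _
  have hPK : (P : Subgroup G) ≤ K := fun x hx =>
    Subgroup.mem_centralizer_singleton_iff.2 (Subgroup.mem_centralizer_iff.1 hy x hx)
  haveI : IsCyclic (P : Subgroup G) := isCyclic_of_prime_card hP
  have hPC : (P : Subgroup G) ≤ C := (P : Subgroup G).le_centralizer
  have hyK : y ∈ K := Subgroup.mem_centralizer_singleton_iff.2 rfl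
  -- a Sylow `3`-subgroup centralises `y`
  have h9 : 9 ∣ Nat.card K := by
    obtain ⟨S, hS⟩ := (IsPGroup.of_card (p := 3) (n := 1)
      (by rw [Nat.card_zpowers, hy3, pow_one]) : IsPGroup 3 (Subgroup.zpowers y)).exists_le_sylow
    have hS9 : Nat.card S = 3 ^ 2 := SmallOrder.card_sylow_eq (k := 2) S (by rw [hN]; norm_num)
      (by rw [hN]; norm_num)
    have hab := IsPGroup.commutative_of_card_eq_prime_sq hS9
    have hSK : (S : Subgroup G) ≤ K := fun x hx => by
      refine Subgroup.mem_centralizer_singleton_iff.2 ?_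
      exact congrArg Subtype.val (hab ⟨x, hx⟩ ⟨y, hS (Subgroup.mem_zpowers y)⟩)
    have := Subgroup.card_dvd_of_le hSK
    rwa [show Nat.card (S : Subgroup G) = 3 ^ 2 from hS9] at this
  have hKtop : K ≠ ⊤ := by
    intro h
    have hz : y ∈ Subgroup.center G := Subgroup.mem_center_iff.2 fun g =>
      Subgroup.mem_centralizer_singleton_iff.1 (h ▸ Subgroup.mem_top g : g ∈ K)
    rcases Subgroup.Normal.eq_bot_or_eq_top (inferInstance : (Subgroup.center G).Normal) with e | e
    · rw [e, Subgroup.mem_bot] at hz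
      rw [hz, orderOf_one] at hy3
      omega
    · obtain ⟨a, b, hab⟩ := not_comm hN (by norm_num)
      exact hab (Subgroup.mem_center_iff.1 (e ▸ Subgroup.mem_top b : b ∈ Subgroup.center G) a)
  have hle := index_bound hN hKtop
  have h21C : 21 ∣ Nat.card (K ⊓ C : Subgroup G) := by
    have h7 : 7 ∣ Nat.card (K ⊓ C : Subgroup G) := by
      have := Subgroup.card_dvd_of_le (le_inf hPK hPC : (P : Subgroup G) ≤ K ⊓ C)
      rwa [show Nat.card (P : Subgroup G) = 7 from hP] at this
    have h3 : 3 ∣ Nat.card (K ⊓ C : Subgroup G) := by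
      have := Subgroup.card_dvd_of_le
        (Subgroup.zpowers_le.2 (Subgroup.mem_inf.2 ⟨hyK, hy⟩) : Subgroup.zpowers y ≤ K ⊓ C)
      rwa [Nat.card_zpowers, hy3] at this
    exact Nat.Coprime.mul_dvd_of_dvd_of_dvd (by norm_num : Nat.Coprime 3 7) h3 h7
  -- the Sylow `7`-subgroups of `K`
  let P' : Sylow 7 K := P.subtype hPK
  have hP' : Nat.card P' = 7 := by
    show Nat.card ((P : Subgroup G).subgroupOf K) = 7
    rw [Nat.card_congr (Subgroup.subgroupOfEquivOfLe hPK).toEquiv]
    exact hP
  have hnorm : Subgroup.normalizer (((P' : Subgroup K)) : Set K) = N.subgroupOf K := by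
    show Subgroup.normalizer (((P : Subgroup G).subgroupOf K : Subgroup K) : Set K) = _
    rw [hNdef, Subgroup.subgroupOf_normalizer_eq hPK]
  set f := Nat.card (K ⊓ N : Subgroup G) with hf
  have hfn : Nat.card (Subgroup.normalizer (((P' : Subgroup K)) : Set K)) = f := by
    rw [hnorm, hf, ← Subgroup.inf_subgroupOf_left, Nat.card_congr
      (Subgroup.subgroupOfEquivOfLe (inf_le_left : K ⊓ N ≤ K)).toEquiv]
  set d := Nat.card (Sylow 7 K) with hd
  have hdf : f * d = Nat.card K := by rw [← hfn]; exact SmallOrder.card_normalizer_mul_card_sylow P'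
  have hd7 : d % 7 = 1 := card_sylow_modEq_one 7 K
  have hfN : f ∣ Nat.card N := Subgroup.card_dvd_of_le inf_le_right
  have h21 : 21 ∣ f := h21C.trans (Subgroup.card_dvd_of_le (inf_le_inf_left _ hCN))
  have hf9 : ¬ 9 ∣ f := fun h => hN9 (h.trans hfN)
  have hK5040 : d * f ∣ 5040 := by
    rw [mul_comm, hdf]
    exact (Subgroup.card_subgroup_dvd_card K).trans (by rw [hN])
  have hf0 : 0 < f := Nat.card_pos
  have hd0 : 0 < d := Nat.card_pos
  have hcase : d = 15 ∧ f = 21 := by
    have hfle := Nat.le_of_dvd (by norm_num) (hfN.trans hNd)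
    have hdle : d ≤ d * f := Nat.le_mul_of_pos_right _ hf0
    have hKle : d * f ≤ 560 := by rw [mul_comm, hdf]; exact hle
    have h := List.all_eq_true.1 (List.all_eq_true.1 numeric d (List.mem_range.2 (by omega))) f
      (List.mem_range.2 (by omega))
    simp only [Bool.or_eq_true, Bool.not_eq_true', Bool.and_eq_false_imp, Bool.and_eq_true,
      decide_eq_true_eq, decide_eq_false_iff_not] at h
    refine h.resolve_left fun hh => hh ⟨⟨⟨⟨⟨hd7, ?_⟩, ?_⟩, ?_⟩, ?_⟩, hKle⟩ ?_
    · exact Nat.mod_eq_zero_of_dvd (hfN.trans hNd)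
    · exact Nat.mod_eq_zero_of_dvd h21
    · exact fun h0 => hf9 (Nat.dvd_of_mod_eq_zero h0)
    · exact Nat.mod_eq_zero_of_dvd (by rw [mul_comm, hdf]; exact h9)
    · exact Nat.mod_eq_zero_of_dvd hK5040
  obtain ⟨hd15, hf21⟩ := hcase
  have hKcard : Nat.card K = 315 := by rw [← hdf, hd15, hf21]
  -- `P` is central in its normaliser in `K`
  have hKN : K ⊓ N ≤ C := by
    have h1 : K ⊓ C = K ⊓ N := Subgroup.eq_of_le_of_card_ge (inf_le_inf_left _ hCN)
      (by rw [← hf, hf21]; exact Nat.le_of_dvd Nat.card_pos h21C)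
    exact h1 ▸ inf_le_right
  have hcen : Subgroup.normalizer (((P' : Subgroup K)) : Set K) ≤
      Subgroup.centralizer (((P' : Subgroup K)) : Set K) := fun g hg => by
    rw [hnorm, Subgroup.mem_subgroupOf] at hg
    refine Subgroup.mem_centralizer_iff.2 fun x hx => Subtype.ext ?_
    exact Subgroup.mem_centralizer_iff.1 (hKN (Subgroup.mem_inf.2 ⟨g.2, hg⟩)) x
      (Subgroup.mem_subgroupOf.1 hx)
  set L := (MonoidHom.transferSylow P' hcen).ker with hL
  have hL45 : Nat.card L = 45 := by
    have h : Nat.card L * Nat.card P' = Nat.card K :=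
      (MonoidHom.ker_transferSylow_isComplement' P' hcen).card_mul
    rw [hP', hKcard] at h
    omega
  haveI hLn : L.Normal := MonoidHom.normal_ker _
  obtain ⟨Q⟩ : Nonempty (Sylow 5 L) := inferInstance
  have hQ : Nat.card Q = 5 := by
    have := SmallOrder.card_sylow_eq (k := 1) Q (by rw [hL45]; norm_num) (by rw [hL45]; norm_num)
    rwa [pow_one] at this
  have hn1 : Nat.card (Sylow 5 L) = 1 := by
    have := SmallOrder.card_sylow_mem_filter Q hQ (n := 9) (by rw [hL45]) (by norm_num)
    rw [show (Nat.divisors 9).filter (fun d => d % 5 = 1) = {1} by decide, Finset.mem_singleton] at this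
    exact this
  haveI : Subsingleton (Sylow 5 L) := (Nat.card_eq_one_iff_unique.mp hn1).1
  haveI := Sylow.characteristic_of_subsingleton Q
  set R := (Q : Subgroup L).map L.subtype with hR
  haveI hRn : R.Normal := ConjAct.normal_of_characteristic_of_normal
  have hR5 : Nat.card R = 5 := by
    rw [hR, Subgroup.card_subtype]
    exact hQ
  obtain ⟨x, hx⟩ := exists_prime_orderOf_dvd_card' (G := (P' : Subgroup K)) 7 (dvd_of_eq hP'.symm)
  have hxR : (x : K) ∈ Subgroup.centralizer (R : Set K) := by
    have hidx := relIndex_dvd (p := 5) R hR5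
    have hnt : Subgroup.normalizer (R : Set K) = ⊤ := Subgroup.normalizer_eq_top R
    rw [hnt, Subgroup.relIndex_top_right] at hidx
    haveI : (Subgroup.centralizer (R : Set K)).Normal := inferInstance
    have h1 := Subgroup.pow_index_mem (Subgroup.centralizer (R : Set K)) (x : K)
    have h2 : (x : K) ^ 7 = 1 := by
      have := pow_orderOf_eq_one (x : K)
      rwa [Subgroup.orderOf_coe, hx] at this
    have hcop : Nat.Coprime 7 (Subgroup.centralizer (R : Set K)).index :=
      Nat.Coprime.coprime_dvd_right hidx (by norm_num)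
    have h3 := Nat.Coprime.pow_left_bijective (n := 7) (G := (K ⧸ Subgroup.centralizer (R : Set K))) ?_
    · have h4 : (((x : K) : K ⧸ Subgroup.centralizer (R : Set K))) ^ 7 = 1 ^ 7 := by
        rw [← QuotientGroup.mk_pow, h2, one_pow, QuotientGroup.mk_one]
      exact (QuotientGroup.eq_one_iff _).1 (h3.injective h4)
    · exact hcop.symm
  obtain ⟨q, hq⟩ := exists_prime_orderOf_dvd_card' (G := R) 5 (dvd_of_eq hR5.symm)
  have hqC : ((q : K) : G) ∈ C := by
    refine Subgroup.mem_centralizer_iff.2 fun z hz => ?_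
    have hxz : Subgroup.zpowers ((x : K) : G) = (P : Subgroup G) :=
      zpowers_eq hP (Subgroup.mem_subgroupOf.1 x.2) fun h => by
        have hxo : orderOf ((x : K) : G) = 7 := by
          rw [Subgroup.orderOf_coe, Subgroup.orderOf_coe, hx]
        rw [h, orderOf_one] at hxo
        omega
    rw [← hxz] at hz
    obtain ⟨k, rfl⟩ := hz
    have hc : Commute ((x : K) : G) ((q : K) : G) :=
      congrArg Subtype.val (Subgroup.mem_centralizer_iff.1 hxR q q.2).symm
    exact (hc.zpow_left k).eq
  refine h5C ?_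
  have := Subgroup.card_dvd_of_le (Subgroup.zpowers_le.2 hqC)
  rwa [Nat.card_zpowers, Subgroup.orderOf_coe, Subgroup.orderOf_coe, hq] at this

theorem false_5040 (hN : Nat.card G = 7 * 720) : False := by
  classical
  haveI h7' : Fact (Nat.Prime 7) := ⟨by norm_num⟩
  haveI h5' : Fact (Nat.Prime 5) := ⟨by norm_num⟩
  have hna := not_comm hN (by norm_num)
  obtain ⟨M, P, n, e, S, hM, hP, hC, hNC, hmem⟩ :=
    mem_exceptions (by norm_num) hN (by norm_num) (by norm_num) degCheck_seven
  set c := Nat.card (Subgroup.centralizer ((P : Subgroup G) : Set G)) with hc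
  have hval : ∀ r : ℕ, r = 5 ∨ r = 7 → (Nat.card G).factorization r = 1 := by
    intro r hr
    have hr' : r.Prime := by rcases hr with rfl | rfl <;> norm_num
    have key : ∀ r m : ℕ, r.Prime → ¬ r ∣ m → (r * m).factorization r = 1 := fun r m hr hm => by
      have hm0 : m ≠ 0 := by rintro rfl; exact hm (dvd_zero r)
      rw [Nat.factorization_mul hr.ne_zero hm0, Finsupp.add_apply, hr.factorization_self,
        Nat.factorization_eq_zero_of_not_dvd hm]
    rcases hr with rfl | rfl
    · rw [hN, show 7 * 720 = 5 * 1008 by norm_num]; exact key 5 1008 hr' (by norm_num)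
    · rw [hN]; exact key 7 720 hr' (by norm_num)
  -- a character of degree `15` against an element of order `5` centralising `P`
  have hfive : e = 2 → 5 ∣ c → False := by
    rintro rfl h5
    obtain ⟨y, hy⟩ := exists_prime_orderOf_dvd_card'
      (G := Subgroup.centralizer ((P : Subgroup G) : Set G)) 5 h5
    have hyo : orderOf (y : G) = 5 := by rw [Subgroup.orderOf_coe, hy]
    have hk : ∀ χ : IrrCharacter G, χ ∈ S.X ∨ χ ∈ S.Y → 14 ≤ charDegree (χ : G → ℂ) :=
      fun χ hχ => Shape.two_p_le (p := 7) hna hP y.2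
        (fun h => by rw [h, orderOf_one] at hyo; omega) (by rw [hyo]; norm_num) S hχ
    obtain ⟨χ, hχ, hd⟩ := exists_degree S hN (by norm_num) (by norm_num) hk seven_fifteen
    rcases hχ with hχ | hχ
    · exact not_dvd_of_centralizer (r := 5) (by norm_num) (by norm_num) hP S (hval 5 (Or.inl rfl)) h5
        hχ (by rw [hd]; norm_num)
    · have h := S.degY χ hχ
      rw [hd] at h
      rcases S.signY with h1 | h1 <;> rw [h1] at h <;> norm_num at h <;> omega
  simp only [List.mem_cons, Prod.mk.injEq, List.not_mem_nil, or_false] at hmem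
  rcases hmem with ⟨rfl, rfl⟩ | ⟨rfl, rfl⟩ | ⟨rfl, rfl⟩ | ⟨rfl, rfl⟩ | ⟨rfl, rfl⟩
  · exact hfive rfl (by rw [show c = 315 by omega]; norm_num)
  · have hc' : c = 168 := by omega
    obtain ⟨y, hy⟩ := exists_prime_orderOf_dvd_card'
      (G := Subgroup.centralizer ((P : Subgroup G) : Set G)) (p := 3)
      (hp := ⟨by norm_num⟩) (by rw [← hc, hc']; norm_num)
    exact no_three hN P hP (by rw [← hc, hc']; norm_num) (by rw [hNC, hc']) (by rw [hNC, hc']; norm_num)
      y.2 (by rw [Subgroup.orderOf_coe, hy])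
  · exact hfive rfl (by rw [show c = 70 by omega]; norm_num)
  · have hc' : c = 21 := by omega
    obtain ⟨y, hy⟩ := exists_prime_orderOf_dvd_card'
      (G := Subgroup.centralizer ((P : Subgroup G) : Set G)) (p := 3)
      (hp := ⟨by norm_num⟩) (by rw [← hc, hc']; norm_num)
    exact no_three hN P hP (by rw [← hc, hc']; norm_num) (by rw [hNC, hc']; norm_num)
      (by rw [hNC, hc']; norm_num) y.2 (by rw [Subgroup.orderOf_coe, hy])
  · -- `C(P) = P`: a character of degree `16`
    have hc' : c = 7 := by omega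
    have hN5 : Nat.card G = 5 * 1008 := hN
    obtain ⟨M5, Q, n5, e5, S5, hM5, hQ, hC5, hNC5, hmem5⟩ :=
      mem_exceptions (by norm_num) hN5 (by norm_num) (by norm_num) degCheck_five
    set c5 := Nat.card (Subgroup.centralizer ((Q : Subgroup G) : Set G)) with hc5
    simp only [List.mem_cons, Prod.mk.injEq, List.not_mem_nil, or_false] at hmem5
    have hr : e5 = 4 ∧ ∃ r : ℕ, r.Prime ∧ r ≠ 5 ∧ r ∣ c5 := by
      rcases hmem5 with ⟨rfl, rfl⟩ | ⟨rfl, rfl⟩ | ⟨rfl, rfl⟩ | ⟨rfl, rfl⟩
      · exact ⟨rfl, 2, by norm_num, by norm_num, by omega⟩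
      · exact ⟨rfl, 2, by norm_num, by norm_num, by omega⟩
      · exact ⟨rfl, 7, by norm_num, by norm_num, by omega⟩
      · exact ⟨rfl, 2, by norm_num, by norm_num, by omega⟩
    obtain ⟨rfl, r, hr, hr5, hrc⟩ := hr
    haveI : Fact r.Prime := ⟨hr⟩
    obtain ⟨y, hy⟩ := exists_prime_orderOf_dvd_card'
      (G := Subgroup.centralizer ((Q : Subgroup G) : Set G)) r hrc
    have hyo : orderOf (y : G) = r := by rw [Subgroup.orderOf_coe, hy]
    have hk : ∀ χ : IrrCharacter G, χ ∈ S5.X ∨ χ ∈ S5.Y → 10 ≤ charDegree (χ : G → ℂ) :=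
      fun χ hχ => Shape.two_p_le (p := 5) hna hQ y.2
        (fun h => by rw [h, orderOf_one] at hyo; exact hr.one_lt.ne hyo)
        (by
          rw [hyo]
          exact fun h => hr5 ((Nat.prime_dvd_prime_iff_eq (by norm_num) hr).1 h).symm) S5 hχ
    obtain ⟨χ, -, hd⟩ := exists_degree S5 hN5 (by norm_num) (by norm_num) hk five_sixteen
    have hχ1 : χ ≠ oneIrr G := fun h => by
      have h1 := irr_charDegree_cast χ
      rw [hd, h, show ((oneIrr G : IrrCharacter G) : G → ℂ) 1 = 1 from rfl] at h1
      norm_num at h1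
    by_cases hb : χ ∈ principalBlock M G
    · rcases (S.block χ).1 hb with h | h | h
      · exact hχ1 h
      · have h' := S.degX χ h
        rw [hd] at h'
        rcases S.sign χ h with h1 | h1 <;> rw [h1] at h' <;> norm_num at h' <;> omega
      · have h' := S.degY χ h
        rw [hd] at h'
        rcases S.signY with h1 | h1 <;> rw [h1] at h' <;> norm_num at h' <;> omega
    · letI : Fintype (P : Subgroup G) := Fintype.ofFinite _
      obtain ⟨k, hk'⟩ := classInner_char_nat
        (isCharacter_restrict (isCharacter_of_irr χ.2) (P : Subgroup G))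
        (isCharacter_of_irr (isIrrCharacter_one : IsIrrCharacter (P : Subgroup G) fun _ => 1))
      rw [classInner, Finset.sum_eq_single (1 : (P : Subgroup G)) (fun x _ hx => by
          rw [vanish_outside hM hP (by rw [← hc, hc']) (hval 7 (Or.inr rfl)) hb x.2
            (fun e => hx (Subtype.ext e)), zero_mul]) (fun h0 => absurd (Finset.mem_univ _) h0),
        map_one, mul_one, show Nat.card (P : Subgroup G) = 7 from hP, Subgroup.coe_one,
        inv_mul_eq_iff_eq_mul₀ (by norm_num), ← irr_charDegree_cast χ, hd] at hk'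
      have : (16 : ℕ) = 7 * k := by exact_mod_cast hk'
      omega

end CfsgLib.SmallOrders.Order5040
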