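import Mathlib

/-!
# The value search at an involution for order 5616
-/

namespace CfsgLib.SmallOrders.Order5616

set_option autoImplicit false

/-- Search over the multisets on a table of pairs `(k, w)` with prescribed sums. -/
def go (leaf : ℤ → Bool) : List (ℕ × ℤ) → ℕ → ℕ → ℤ → ℤ → Bool
  | [], _, rs, r1, u => decide (rs = 0) && decide (r1 = 0) && leaf u
  | kw :: tl, rk, rs, r1, u =>
    decide (r1 * r1 ≤ (rk : ℤ) * rs) && (List.range (rs + 1)).any fun j =>
      decide (j * (kw.1 * kw.1) ≤ rk) && decide (j * (kw.2.natAbs * kw.2.natAbs) ≤ rs) &&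
        go leaf tl (rk - j * (kw.1 * kw.1)) (rs - j * (kw.2.natAbs * kw.2.natAbs))
          (r1 - (j : ℤ) * ((kw.1 : ℤ) * kw.2)) (u + (j : ℤ) * ((12 / kw.1 : ℕ) * kw.2 ^ 3))

/-- `Σ k²`. -/
def sK (m : Multiset (ℕ × ℤ)) : ℕ := (m.map fun x => x.1 * x.1).sum

/-- `Σ w²`. -/
def sW (m : Multiset (ℕ × ℤ)) : ℕ := (m.map fun x => x.2.natAbs * x.2.natAbs).sum

/-- `Σ k w`. -/
def s1 (m : Multiset (ℕ × ℤ)) : ℤ := (m.map fun x => (x.1 : ℤ) * x.2).sum

/-- `Σ (12/k) w³`. -/
def sU (m : Multiset (ℕ × ℤ)) : ℤ := (m.map fun x => ((12 / x.1 : ℕ) : ℤ) * x.2 ^ 3).sum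

theorem cauchy (m : Multiset (ℕ × ℤ)) : s1 m * s1 m ≤ (sK m : ℤ) * sW m := by
  induction m using Multiset.induction with
  | empty => simp [s1, sK, sW]
  | cons x m ih =>
    simp only [s1, sK, sW, Multiset.map_cons, Multiset.sum_cons] at ih ⊢
    set a := (m.map fun x => (x.1 : ℤ) * x.2).sum
    set K := (m.map fun x => x.1 * x.1).sum
    set W := (m.map fun x => x.2.natAbs * x.2.natAbs).sum
    have hw : ((x.2.natAbs * x.2.natAbs : ℕ) : ℤ) = x.2 * x.2 := by
      push_cast; exact abs_mul_abs_self x.2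
    push_cast [Nat.cast_add]
    rw [← Int.natCast_natAbs] at *
    have hK : (0 : ℤ) ≤ K := Int.natCast_nonneg K
    have hW : (0 : ℤ) ≤ W := Int.natCast_nonneg W
    have hw' : ((x.2.natAbs : ℤ)) * (x.2.natAbs : ℤ) = x.2 * x.2 := Int.natAbs_mul_self' x.2
    rcases eq_or_lt_of_le hK with h0 | h0
    · have ha : a = 0 := by nlinarith
      rw [ha, ← h0, hw']
      nlinarith [mul_nonneg (mul_self_nonneg (x.1 : ℤ)) hW]
    · rw [hw']
      have key : 2 * a * ((x.1 : ℤ) * x.2) ≤ (K : ℤ) * (x.2 * x.2) + (x.1 : ℤ) * x.1 * W := by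
        refine le_of_mul_le_mul_left ?_ h0
        nlinarith [mul_self_nonneg ((K : ℤ) * x.2 - a * x.1),
          mul_le_mul_of_nonneg_left ih (mul_self_nonneg (x.1 : ℤ))]
      nlinarith

theorem go_complete {leaf : ℤ → Bool} : ∀ (tb : List (ℕ × ℤ)), (∀ x ∈ tb, x.2 ≠ 0) →
    ∀ (m : Multiset (ℕ × ℤ)) (rk : ℕ) (u : ℤ),
    (∀ x ∈ m, x ∈ tb) → sK m ≤ rk → leaf (u + sU m) = true →
    go leaf tb rk (sW m) (s1 m) u = true
  | [], _, m, rk, u, hm, _, hl => by
    have : m = 0 := Multiset.eq_zero_of_forall_notMem fun x hx => by simpa using hm x hx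
    subst this
    simpa [go, sW, s1, sU] using hl
  | kw :: tl, htb, m, rk, u, hm, hk, hl => by
    classical
    obtain ⟨n, hn⟩ : ∃ n, m.count kw = n := ⟨_, rfl⟩
    set m' := m.filter fun x => x ≠ kw
    have hsplit : m = Multiset.replicate n kw + m' := by
      rw [← hn, ← Multiset.filter_eq' m kw]
      exact (Multiset.filter_add_not (fun x => x = kw) m).symm
    have hK : sK m = n * (kw.1 * kw.1) + sK m' := by
      rw [hsplit]; simp [sK, Multiset.sum_replicate]
    have hW : sW m = n * (kw.2.natAbs * kw.2.natAbs) + sW m' := by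
      rw [hsplit]; simp [sW, Multiset.sum_replicate]
    have h1 : s1 m = (n : ℤ) * ((kw.1 : ℤ) * kw.2) + s1 m' := by
      rw [hsplit]; simp [s1, Multiset.sum_replicate]
    have hU : sU m = (n : ℤ) * (((12 / kw.1 : ℕ) : ℤ) * kw.2 ^ 3) + sU m' := by
      rw [hsplit]; simp [sU, Multiset.sum_replicate]
    have hpos : 1 ≤ kw.2.natAbs * kw.2.natAbs :=
      Nat.mul_pos (Int.natAbs_pos.2 (htb kw (List.mem_cons_self ..)))
        (Int.natAbs_pos.2 (htb kw (List.mem_cons_self ..)))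
    have hrec := go_complete (leaf := leaf) tl (fun x hx => htb x (List.mem_cons_of_mem _ hx)) m'
      (rk - n * (kw.1 * kw.1)) (u + (n : ℤ) * (((12 / kw.1 : ℕ) : ℤ) * kw.2 ^ 3))
      (fun x hx => by
        rw [Multiset.mem_filter] at hx
        exact (List.mem_cons.1 (hm x hx.1)).resolve_left hx.2) (by omega)
      (by rwa [hU, ← add_assoc] at hl)
    rw [go, Bool.and_eq_true, decide_eq_true_eq, List.any_eq_true]
    refine ⟨(cauchy m).trans (mul_le_mul_of_nonneg_right (by exact_mod_cast hk)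
      (Int.natCast_nonneg _)), n, List.mem_range.2 (Nat.lt_succ_of_le ?_), ?_⟩
    · rw [hW]
      exact le_add_right (Nat.le_mul_of_pos_right n hpos)
    · simp only [Bool.and_eq_true, decide_eq_true_eq]
      refine ⟨⟨by omega, by omega⟩, ?_⟩
      rwa [show sW m - n * (kw.2.natAbs * kw.2.natAbs) = sW m' by omega,
        show s1 m - (n : ℤ) * ((kw.1 : ℤ) * kw.2) = s1 m' by omega]

/-- The pairs with `1 ≤ k ≤ 4` and `0 < |w| ≤ b`. -/
def table (b : ℕ) : List (ℕ × ℤ) :=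
  ([4, 3, 2, 1] : List ℕ).flatMap fun k : ℕ =>
    (((List.range (2 * b + 1)).map fun i : ℕ => (i : ℤ) - b).filter fun w => decide (w ≠ 0)).map
      fun w => (k, w)

theorem table_ne_zero {b : ℕ} : ∀ x ∈ table b, x.2 ≠ 0 := by
  intro x hx
  simp only [table, List.mem_flatMap, List.mem_map, List.mem_filter, decide_eq_true_eq] at hx
  obtain ⟨k, -, w, ⟨-, hw⟩, rfl⟩ := hx
  exact hw

theorem mem_table {b k : ℕ} {w : ℤ} (hk : 1 ≤ k) (hk4 : k ≤ 4) (hw : w ≠ 0)
    (hwb : w.natAbs ≤ b) : (k, w) ∈ table b := by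
  simp only [table, List.mem_flatMap, List.mem_map, List.mem_filter, decide_eq_true_eq,
    List.mem_range]
  refine ⟨k, by simp; omega, w, ⟨⟨(w + b).toNat, by omega, by omega⟩, hw⟩, rfl⟩

/-- For centralisers of order 144 the class equation has no solution. -/
theorem go_144 : go (fun u => decide ((4 + u) % 9 = 0)) (table 3) 22 10 (-8) 0 = false := by
  decide +kernel

/-- For centralisers of order 48 the class equation gives 7, 8, 12 or 16 pairs. -/
theorem go_48 : go (fun u => !([-33, -32, -28, -24] : List ℤ).contains u) (table 2) 22 4 (-8) 0 = false := by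
  decide +kernel

theorem leaf_144 {m : Multiset (ℕ × ℤ)} (hk : ∀ x ∈ m, 1 ≤ x.1 ∧ x.1 ≤ 4 ∧ x.2 ≠ 0)
    (hK : sK m ≤ 22) (hW : sW m = 10) (h1 : s1 m = -8) : (4 + sU m) % 9 ≠ 0 := by
  intro h
  have hb : ∀ x ∈ m, x ∈ table 3 := fun x hx => by
    obtain ⟨a, b, c⟩ := hk x hx
    refine mem_table a b c ?_
    have : x.2.natAbs * x.2.natAbs ≤ sW m := Multiset.single_le_sum (fun _ _ => Nat.zero_le _) _
      (Multiset.mem_map.2 ⟨x, hx, rfl⟩)
    rw [hW] at this
    by_contra hc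
    have : 4 * 4 ≤ x.2.natAbs * x.2.natAbs := Nat.mul_le_mul (by omega) (by omega)
    omega
  have hg := go_complete (leaf := fun u => decide ((4 + u) % 9 = 0)) (table 3) table_ne_zero m 22 0
    hb hK (by simpa using h)
  rw [hW, h1, go_144] at hg
  exact Bool.false_ne_true hg

theorem leaf_48 {m : Multiset (ℕ × ℤ)} (hk : ∀ x ∈ m, 1 ≤ x.1 ∧ x.1 ≤ 4 ∧ x.2 ≠ 0)
    (hK : sK m ≤ 22) (hW : sW m = 4) (h1 : s1 m = -8) :
    sU m = -33 ∨ sU m = -32 ∨ sU m = -28 ∨ sU m = -24 := by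
  by_contra h
  have hb : ∀ x ∈ m, x ∈ table 2 := fun x hx => by
    obtain ⟨a, b, c⟩ := hk x hx
    refine mem_table a b c ?_
    have : x.2.natAbs * x.2.natAbs ≤ sW m := Multiset.single_le_sum (fun _ _ => Nat.zero_le _) _
      (Multiset.mem_map.2 ⟨x, hx, rfl⟩)
    rw [hW] at this
    by_contra hc
    have : 3 * 3 ≤ x.2.natAbs * x.2.natAbs := Nat.mul_le_mul (by omega) (by omega)
    omega
  have hg := go_complete (leaf := fun u => !([-33, -32, -28, -24] : List ℤ).contains u) (table 2)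
    table_ne_zero m 22 0 hb hK (by simpa using h)
  rw [hW, h1, go_48] at hg
  exact Bool.false_ne_true hg

end CfsgLib.SmallOrders.Order5616
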