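import Cfsg.Agent.Lib.SmallOrders.ClassEquation
import Cfsg.Agent.Lib.SmallOrders.Order5616Search
import Cfsg.Agent.Lib.CharTheory.PermChar
import Cfsg.Agent.S0157

/-!
# The involutions of a simple group of order 5616, by characters
-/

namespace CfsgLib.SmallOrders.Order5616

open Cfsg CfsgLib.CharTheory CfsgLib.Blocks
open scoped ComplexConjugate

set_option autoImplicit false
set_option linter.unusedVariables false
set_option linter.style.haveILetI false
set_option linter.unusedSectionVars false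

universe u

variable {G : Type u} [Group G] [Fintype G] [IsSimpleGroup G]

/-- The value at an involution is congruent to the degree modulo four. -/
theorem four_dvd (hna : ∃ a b : G, a * b ≠ b * a) {χ : IrrCharacter G} {z : G} (hz : z * z = 1)
    {v : ℤ} (hv : (χ : G → ℂ) z = v) : (4 : ℤ) ∣ v - charDegree (χ : G → ℂ) := by
  classical
  obtain ⟨n, ρ, hρ⟩ := isCharacter_of_irr χ.2
  set A : Matrix (Fin n) (Fin n) ℂ := LinearMap.toMatrix' (ρ z) with hA
  have hAA : A * A = 1 := by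
    rw [hA, ← LinearMap.toMatrix'_comp, ← Module.End.mul_eq_comp, ← map_mul, hz, map_one,
      Module.End.one_eq_id, LinearMap.toMatrix'_id]
  have hroot : ∀ r ∈ A.charpoly.roots, r = 1 ∨ r = -1 := by
    intro r hr
    rw [Polynomial.mem_roots A.charpoly_monic.ne_zero, ← Matrix.mem_spectrum_iff_isRoot_charpoly] at hr
    have h2 := spectrum.pow_mem_pow A 2 hr
    rcases Nat.eq_zero_or_pos n with hn | hn
    · subst hn
      exact absurd hr (by simp [spectrum.of_subsingleton])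
    haveI : Nonempty (Fin n) := ⟨⟨0, hn⟩⟩
    rw [pow_two, pow_two, hAA, spectrum.one_eq, Set.mem_singleton_iff] at h2
    exact mul_self_eq_one_iff.1 h2
  set R := A.charpoly.roots
  have hsplit : R = Multiset.replicate (R.count 1) 1 + Multiset.replicate (R.count (-1)) (-1) := by
    have h1 := (Multiset.filter_add_not (fun x => x = (1 : ℂ)) R).symm
    have h2 : R.filter (fun x => ¬ x = 1) = R.filter (fun x => x = -1) :=
      Multiset.filter_congr fun x hx => by
        rcases hroot x hx with e | e <;> norm_num [e]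
    rwa [h2, Multiset.filter_eq', Multiset.filter_eq'] at h1
  have hcard : Multiset.card R = n := by
    rw [IsAlgClosed.card_roots_eq_natDegree, Matrix.charpoly_natDegree_eq_dim, Fintype.card_fin]
  have hdet : A.det = 1 := by
    rw [hA, LinearMap.det_toMatrix']
    have h := hom_trivial hna ((Units.map (LinearMap.det : Module.End ℂ (Fin n → ℂ) →* ℂ)).comp
      (ρ : G →* Module.End ℂ (Fin n → ℂ)).toHomUnits) z
    exact congrArg Units.val h
  rw [Matrix.det_eq_prod_roots_charpoly] at hdet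
  change R.prod = 1 at hdet
  rw [hsplit] at hdet
  simp only [Multiset.prod_add, Multiset.prod_replicate, one_pow, one_mul] at hdet
  obtain ⟨j, hj⟩ := (neg_one_pow_eq_one_iff_even (by norm_num : (-1 : ℂ) ≠ 1)).1 hdet
  have htr : (χ : G → ℂ) z = A.trace := by
    rw [← hρ]
    show LinearMap.trace ℂ _ (ρ z) = _
    rw [LinearMap.trace_eq_matrix_trace ℂ (Pi.basisFun ℂ (Fin n)), LinearMap.toMatrix_eq_toMatrix']
  rw [Matrix.trace_eq_sum_roots_charpoly] at htr
  change (χ : G → ℂ) z = R.sum at htr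
  rw [hsplit] at htr
  simp only [Multiset.sum_add, Multiset.sum_replicate, nsmul_eq_mul, mul_one] at htr
  rw [hsplit, Multiset.card_add, Multiset.card_replicate, Multiset.card_replicate] at hcard
  have hd : charDegree (χ : G → ℂ) = n := by
    have : ((charDegree (χ : G → ℂ) : ℕ) : ℂ) = n := by
      rw [irr_charDegree_cast, ← hρ, Representation.char_one]
      simp
    exact_mod_cast this
  have hval : v = (R.count 1 : ℤ) - (R.count (-1) : ℤ) := by
    have : (v : ℂ) = (((R.count 1 : ℤ) - (R.count (-1) : ℤ) : ℤ) : ℂ) := by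
      rw [← hv, htr]; push_cast; ring
    exact_mod_cast this
  rw [hd, hval, ← hcard, hj]
  exact ⟨-(j : ℤ), by push_cast; ring⟩

/-- What the characters give. -/
structure CharData (G : Type u) [Group G] [Fintype G] where
  P : Sylow 13 G
  cardP : Nat.card P = 13
  centP : Nat.card (Subgroup.centralizer ((P : Subgroup G) : Set G)) = 13
  normP : Nat.card (Subgroup.normalizer ((P : Subgroup G) : Set G)) = 39
  a : IrrCharacter G
  b : IrrCharacter G
  Y : Finset (IrrCharacter G)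
  a_ne : a ≠ oneIrr G
  b_ne : b ≠ oneIrr G
  ab_ne : a ≠ b
  one_notY : oneIrr G ∉ Y
  a_notY : a ∉ Y
  b_notY : b ∉ Y
  cardY : Y.card = 4
  deg_a : (a : G → ℂ) 1 = 12
  deg_b : (b : G → ℂ) 1 = 27
  deg_Y : ∀ ψ ∈ Y, (ψ : G → ℂ) 1 = 16
  relY : ∀ ψ ∈ Y, ∀ g : G, ¬ 13 ∣ orderOf g →
    (ψ : G → ℂ) g = 1 - (a : G → ℂ) g + (b : G → ℂ) g
  outside : ∀ χ : IrrCharacter G, χ ≠ oneIrr G → χ ≠ a → χ ≠ b → χ ∉ Y →
    13 ∣ charDegree (χ : G → ℂ)
  pairCount_eq : ∀ x ∈ (P : Subgroup G), x ≠ 1 → ∀ z : G, ¬ 13 ∣ orderOf z →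
    (pairCount z z x : ℂ) * (Nat.card (Subgroup.centralizer ({z} : Set G)) : ℂ) ^ 2 =
      5616 * (1 - (a : G → ℂ) z ^ 2 / 12 + (b : G → ℂ) z ^ 2 / 27 -
        (1 - (a : G → ℂ) z + (b : G → ℂ) z) ^ 2 / 16)

theorem deg_search : ∀ u ∈ cands 13 432 (13 * 432) 2 1, ∀ v ∈ cands 13 432 (13 * 432) 2 1,
    degOk 13 432 (13 * 432) 2 3 [u, v] = true → (u = -12 ∧ v = 27) ∨ (u = 27 ∧ v = -12) := by
  decide +kernel

/-- An outside character has degree a multiple of thirteen. -/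
theorem dvd_of_vanish [hp : Fact (Nat.Prime 13)] {P : Sylow 13 G} (hP : Nat.card P = 13)
    {χ : IrrCharacter G} (hv : ∀ x ∈ (P : Subgroup G), x ≠ 1 → (χ : G → ℂ) x = 0) :
    13 ∣ charDegree (χ : G → ℂ) := by
  classical
  obtain ⟨n, hn⟩ := classInner_char_nat
    (isCharacter_restrict (isCharacter_of_irr χ.2) (P : Subgroup G)) (isCharacter_one (G := (P : Subgroup G)))
  rw [classInner, show Nat.card (P : Subgroup G) = 13 from hP,
    Finset.sum_eq_single (1 : (P : Subgroup G))] at hn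
  · simp only [Subgroup.coe_one, map_one, mul_one, ← irr_charDegree_cast] at hn
    refine ⟨n, ?_⟩
    have : ((charDegree (χ : G → ℂ) : ℕ) : ℂ) = ((13 * n : ℕ) : ℂ) := by
      push_cast at hn ⊢; linear_combination (13 : ℂ) * hn
    exact_mod_cast this
  · intro y _ hy
    rw [hv y y.2 fun h => hy (Subtype.ext h), zero_mul]
  · simp

theorem exists_charData (h : Nat.card G = 5616) : Nonempty (CharData G) := by
  classical
  haveI hp : Fact (Nat.Prime 13) := ⟨by norm_num⟩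
  have hN : Nat.card G = 13 * 432 := h.trans (by norm_num)
  have hna := not_comm hN (by norm_num)
  obtain ⟨M, P, n, e, S, hM, hP, hC, hNe, hmem⟩ := mem_exceptions (p := 13) (m := 432)
    (exc := [(144, 3)]) (by norm_num) hN (by norm_num) (by norm_num) (by decide +kernel)
  obtain ⟨rfl, rfl⟩ : n = 144 ∧ e = 3 := by simpa using hmem
  have hC13 : Nat.card (Subgroup.centralizer ((P : Subgroup G) : Set G)) = 13 := by omega
  have hval : (Nat.card G).factorization 13 = 1 := by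
    rw [hN, Nat.factorization_mul (by norm_num) (by norm_num), Finsupp.add_apply,
      hp.out.factorization_self, Nat.factorization_eq_zero_of_not_dvd (by norm_num)]
  obtain ⟨c₁, c₂, hne, hX⟩ := Finset.card_eq_two.1 S.cardX
  obtain ⟨ψ, hψ⟩ : S.Y.Nonempty := Finset.card_pos.1 (S.cardY ▸ S.cardY_pos)
  set s : IrrCharacter G → ℤ := fun χ => S.δ χ * (charDegree (χ : G → ℂ) : ℤ) with hs
  have hneX : ∀ χ ∈ S.X, χ ≠ oneIrr G := fun χ hχ e => S.one_notX (e ▸ hχ)
  have hsq := S.sum_sq_degree_le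
  have hcand : ∀ χ ∈ S.X, s χ ∈ cands 13 432 (13 * 432) 2 1 := by
    intro χ hχ
    have hn := natAbs_sign_mul (S.sign χ hχ) (charDegree (χ : G → ℂ))
    refine mem_cands (by norm_num) ?_ (by rw [hs, hn]; exact two_le_charDegree hna (hneX χ hχ))
      (S.degX χ hχ) ?_
    · rw [hs, hn]
      refine dvd_of_dvd_mul_prime hp.out (hN ▸ charDegree_dvd_card χ) fun hd => ?_
      have := dvd_sub (dvd_mul_of_dvd_right (Int.natCast_dvd_natCast.2 hd) (S.δ χ)) (S.degX χ hχ)
      simp only [sub_sub_cancel] at this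
      norm_num at this
    · rw [hs, hn, ← sq]
      have h9 : charDegree (χ : G → ℂ) ^ 2 ≤ ∑ φ ∈ S.X, charDegree (φ : G → ℂ) ^ 2 :=
        Finset.single_le_sum (f := fun φ : IrrCharacter G => charDegree (φ : G → ℂ) ^ 2)
          (fun _ _ => Nat.zero_le _) hχ
      omega
  have hrel := S.degree_relation hp.out hψ
  rw [hX, Finset.sum_pair hne] at hrel
  have hokk : degOk 13 432 (13 * 432) 2 3 [s c₁, s c₂] = true := by
    have hn := natAbs_sign_mul S.signY (charDegree (ψ : G → ℂ))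
    have hsum : 1 + [s c₁, s c₂].sum = S.ε * charDegree (ψ : G → ℂ) := by simp [hs, hrel]
    simp only [degOk, Bool.and_eq_true, decide_eq_true_eq, hsum, hn]
    refine ⟨⟨⟨?_, two_le_charDegree hna fun e => S.one_notY (e ▸ hψ)⟩,
      Int.emod_eq_zero_of_dvd (S.degY ψ hψ)⟩, ?_⟩
    · refine dvd_of_dvd_mul_prime hp.out (hN ▸ charDegree_dvd_card ψ) fun hd => ?_
      have := dvd_sub (dvd_mul_of_dvd_right (Int.natCast_dvd_natCast.2 hd) S.ε) (S.degY ψ hψ)
      simp only [sub_sub_cancel] at this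
      norm_num at this
    refine le_trans (le_of_eq ?_) (hN ▸ hsq)
    rw [Finset.sum_congr (s₁ := S.Y) rfl fun φ hφ => by rw [S.charDegree_eq hp.out hφ hψ],
      Finset.sum_const, S.cardY, smul_eq_mul, hX, Finset.sum_pair hne]
    simp [hs, natAbs_sign_mul (S.sign c₁ (by simp [hX])), natAbs_sign_mul (S.sign c₂ (by simp [hX])), sq]
  have hres := deg_search _ (hcand c₁ (by simp [hX])) _ (hcand c₂ (by simp [hX])) hokk
  obtain ⟨a, b, hab, hXab, ha, hb⟩ : ∃ a b, a ≠ b ∧ S.X = {a, b} ∧ s a = -12 ∧ s b = 27 := by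
    rcases hres with ⟨e1, e2⟩ | ⟨e1, e2⟩
    · exact ⟨c₁, c₂, hne, hX, e1, e2⟩
    · exact ⟨c₂, c₁, hne.symm, by rw [hX, Finset.pair_comm], e2, e1⟩
  have haX : a ∈ S.X := by simp [hXab]
  have hbX : b ∈ S.X := by simp [hXab]
  have hδa : S.δ a = -1 ∧ charDegree (a : G → ℂ) = 12 := by
    rcases S.sign a haX with e | e <;> simp [hs, e] at ha <;> omega
  have hδb : S.δ b = 1 ∧ charDegree (b : G → ℂ) = 27 := by
    rcases S.sign b hbX with e | e <;> simp [hs, e] at hb <;> omega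
  have hψ16 : S.ε = 1 ∧ charDegree (ψ : G → ℂ) = 16 := by
    have hr := S.degree_relation hp.out hψ
    rw [hXab, Finset.sum_pair hab] at hr
    simp only [hδa.1, hδa.2, hδb.1, hδb.2] at hr
    rcases S.signY with e | e <;> rw [e] at hr <;> push_cast at hr <;> [exact ⟨e, by omega⟩; (exfalso; omega)]
  have hdeg : ∀ χ : IrrCharacter G, ∀ d : ℕ, charDegree (χ : G → ℂ) = d → (χ : G → ℂ) 1 = (d : ℂ) :=
    fun χ d hd => by rw [← irr_charDegree_cast, hd]
  have hrelY : ∀ φ ∈ S.Y, ∀ g : G, ¬ 13 ∣ orderOf g →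
      (φ : G → ℂ) g = 1 - (a : G → ℂ) g + (b : G → ℂ) g := by
    intro φ hφ g hg
    have := S.relY φ hφ g hg
    rw [hXab, Finset.sum_pair hab, hδa.1, hδb.1, hψ16.1] at this
    push_cast at this
    linear_combination this
  refine ⟨{
    P := P, cardP := hP, centP := hC13, normP := by rw [hNe, hC13]
    a := a, b := b, Y := S.Y
    a_ne := hneX a haX, b_ne := hneX b hbX, ab_ne := hab
    one_notY := S.one_notY
    a_notY := fun e => Finset.disjoint_left.1 S.disj haX e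
    b_notY := fun e => Finset.disjoint_left.1 S.disj hbX e
    cardY := by rw [S.cardY]
    deg_a := by simpa using hdeg a 12 hδa.2
    deg_b := by simpa using hdeg b 27 hδb.2
    deg_Y := fun φ hφ => by simpa using hdeg φ 16 ((S.charDegree_eq hp.out hφ hψ).trans hψ16.2)
    relY := hrelY
    outside := fun χ h1 h2 h3 h4 => dvd_of_vanish hP fun x hx hx1 =>
      vanish_outside hM hP hC13 hval (by
        rw [S.block, hXab]
        simp [h1, h2, h3, h4]) hx hx1
    pairCount_eq := fun x hx hx1 z hz => ?_ }⟩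
  have key := pairCount_block hM hP hC13 hval S hx hx1 z
  rw [key, hN]
  have hY : ∑ φ ∈ S.Y, (φ : G → ℂ) z ^ 2 / (φ : G → ℂ) 1 * conj ((φ : G → ℂ) x) =
      -((1 - (a : G → ℂ) z + (b : G → ℂ) z) ^ 2 / 16) := by
    rw [Finset.sum_congr rfl fun φ hφ => by
      rw [hrelY φ hφ z hz, hdeg φ 16 ((S.charDegree_eq hp.out hφ hψ).trans hψ16.2)],
      ← Finset.mul_sum, ← map_sum, S.sumY x hx hx1, hψ16.1]
    simp
  rw [hY, hXab, Finset.sum_pair hab, hdeg a 12 hδa.2, hdeg b 27 hδb.2, hδa.1, hδb.1]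
  push_cast
  ring

/-- The possible pairs of values at an involution. -/
theorem value_search : ∀ i : ℕ, i < 13 → ∀ j : ℕ, j < 28 → ∀ s ∈ ([1, -1] : List ℤ), ∀ r ∈ ([1, -1] : List ℤ),
    ((s * i) % 4 = 0 ∧ (r * j - 27) % 4 = 0 ∧ (1 - s * i + r * j) % 4 = 0 ∧ s * i ≠ 12 ∧
      432 - 36 * (s * i) ^ 2 + 16 * (r * j) ^ 2 - 27 * (1 - s * i + r * j) ^ 2 = 0 ∧
      1 + (s * i) ^ 2 + (r * j) ^ 2 + 4 * (1 - s * i + r * j) ^ 2 ≤ 432) →
    (s * i = 4 ∧ r * j = 3) ∨ (s * i = 0 ∧ r * j = -9) := by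
  decide +kernel

variable (D : CharData G)

/-- The principal block. -/
noncomputable def CharData.B : Finset (IrrCharacter G) :=
  insert (oneIrr G) (insert D.a (insert D.b D.Y))

theorem CharData.sum_B (f : IrrCharacter G → ℂ) :
    ∑ χ ∈ D.B, f χ = f (oneIrr G) + f D.a + f D.b + ∑ ψ ∈ D.Y, f ψ := by
  rw [CharData.B, Finset.sum_insert (by simp [D.one_notY, D.a_ne.symm, D.b_ne.symm]),
    Finset.sum_insert (by simp [D.a_notY, D.ab_ne]), Finset.sum_insert D.b_notY]
  ring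

/-- The characters outside the principal block. -/
noncomputable def CharData.R : Finset (IrrCharacter G) := Finset.univ \ D.B

theorem CharData.sum_all (f : IrrCharacter G → ℂ) :
    ∑ χ, f χ = f (oneIrr G) + f D.a + f D.b + ∑ ψ ∈ D.Y, f ψ + ∑ χ ∈ D.R, f χ := by
  rw [← D.sum_B, CharData.R, add_comm, Finset.sum_sdiff (Finset.subset_univ _)]

theorem CharData.R_deg {χ : IrrCharacter G} (h : χ ∈ D.R) : 13 ∣ charDegree (χ : G → ℂ) := by
  simp only [CharData.R, CharData.B, Finset.mem_sdiff, Finset.mem_univ, true_and, Finset.mem_insert,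
    not_or] at h
  exact D.outside χ h.1 h.2.1 h.2.2.1 h.2.2.2

theorem CharData.R_ne {χ : IrrCharacter G} (h : χ ∈ D.R) : χ ≠ oneIrr G := by
  simp only [CharData.R, CharData.B, Finset.mem_sdiff, Finset.mem_univ, true_and, Finset.mem_insert,
    not_or] at h
  exact h.1

include D

/-- The elements commuting with an element of order thirteen have order dividing thirteen. -/
theorem CharData.pow13 {g x : G} (hx : orderOf x = 13) (hgx : g * x = x * g) : g ^ 13 = 1 := by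
  haveI hp : Fact (Nat.Prime 13) := ⟨by norm_num⟩
  obtain ⟨Q, hQ⟩ := (IsPGroup.of_card (n := 1) (by rw [Nat.card_zpowers, hx, pow_one]) :
    IsPGroup 13 (Subgroup.zpowers x)).exists_le_sylow
  obtain ⟨s, hs⟩ := MulAction.exists_smul_eq G Q D.P
  have hxP : s * x * s⁻¹ ∈ (D.P : Subgroup G) := by
    rw [← hs]; exact ⟨x, hQ (Subgroup.mem_zpowers _), rfl⟩
  have hne : s * x * s⁻¹ ≠ 1 := by
    rw [Ne, conj_eq_one_iff]
    intro e
    rw [e, orderOf_one] at hx
    norm_num at hx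
  have hgP : s * g * s⁻¹ ∈ (D.P : Subgroup G) := mem_of_commute D.cardP D.centP hxP hne (by
    rw [show s * g * s⁻¹ * (s * x * s⁻¹) = s * (g * x) * s⁻¹ by group,
      show s * x * s⁻¹ * (s * g * s⁻¹) = s * (x * g) * s⁻¹ by group, hgx])
  have h1 := pow_card_eq_one' (x := (⟨_, hgP⟩ : (D.P : Subgroup G)))
  rw [show Nat.card (D.P : Subgroup G) = 13 from D.cardP] at h1
  have h2 : (MulAut.conj s g) ^ 13 = 1 := congrArg Subtype.val h1
  rwa [← map_pow, map_eq_one_iff _ (MulEquiv.injective _)] at h2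

/-- Sums of squares of degrees outside the principal block. -/
theorem CharData.sum_k (h : Nat.card G = 5616) :
    ∑ χ ∈ D.R, (charDegree (χ : G → ℂ) / 13) * (charDegree (χ : G → ℂ) / 13) = 22 := by
  have hs := sum_irr_degree_sq (G := G)
  rw [D.sum_all, h, D.deg_a, D.deg_b,
    show ((oneIrr G : IrrCharacter G) : G → ℂ) 1 = 1 from rfl,
    Finset.sum_congr (s₁ := D.Y) rfl (fun ψ hψ => by rw [D.deg_Y ψ hψ]), Finset.sum_const, D.cardY] at hs
  have hR : ∑ χ ∈ D.R, (χ : G → ℂ) 1 ^ 2 =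
      169 * ((∑ χ ∈ D.R, (charDegree (χ : G → ℂ) / 13) * (charDegree (χ : G → ℂ) / 13) : ℕ) : ℂ) := by
    push_cast
    rw [Finset.mul_sum]
    refine Finset.sum_congr rfl fun χ hχ => ?_
    obtain ⟨k, hk⟩ := D.R_deg hχ
    rw [← irr_charDegree_cast, hk, Nat.mul_div_cancel_left _ (by norm_num : 0 < 13)]
    push_cast
    ring
  rw [hR] at hs
  have : ((169 * (∑ χ ∈ D.R, (charDegree (χ : G → ℂ) / 13) * (charDegree (χ : G → ℂ) / 13)) : ℕ) : ℂ)
      = ((3718 : ℕ) : ℂ) := by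
    push_cast at hs ⊢
    linear_combination hs
  have := Nat.cast_inj.1 this
  omega

theorem CharData.k_range (h : Nat.card G = 5616) {χ : IrrCharacter G} (hχ : χ ∈ D.R) :
    1 ≤ charDegree (χ : G → ℂ) / 13 ∧ charDegree (χ : G → ℂ) / 13 ≤ 4 := by
  obtain ⟨k, hk⟩ := D.R_deg hχ
  have hpos := irr_charDegree_pos χ
  have hle : (charDegree (χ : G → ℂ) / 13) * (charDegree (χ : G → ℂ) / 13) ≤ 22 := D.sum_k h ▸
    Finset.single_le_sum (f := fun χ : IrrCharacter G =>
      (charDegree (χ : G → ℂ) / 13) * (charDegree (χ : G → ℂ) / 13)) (fun _ _ => Nat.zero_le _) hχ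
  refine ⟨by omega, ?_⟩
  by_contra hc
  have := Nat.mul_le_mul (show 5 ≤ charDegree (χ : G → ℂ) / 13 by omega)
    (show 5 ≤ charDegree (χ : G → ℂ) / 13 by omega)
  omega

/-- The values and sums at an involution. -/
theorem CharData.exists_values (h : Nat.card G = 5616) {z : G} (hz : orderOf z = 2) :
    ∃ v : IrrCharacter G → ℤ, (∀ χ : IrrCharacter G, (χ : G → ℂ) z = v χ) ∧ v D.a = 4 ∧ v D.b = 3 ∧
      (∀ ψ ∈ D.Y, v ψ = 0) ∧ Nat.card (Subgroup.centralizer ({z} : Set G)) ∣ 432 ∧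
      (∀ χ ∈ D.R, (4 : ℤ) ∣ v χ - (charDegree (χ : G → ℂ) / 13 : ℕ)) ∧
      (∑ χ ∈ D.R, ((charDegree (χ : G → ℂ) / 13 : ℕ) : ℤ) * v χ = -10) ∧
      (∑ χ ∈ D.R, v χ * v χ = (Nat.card (Subgroup.centralizer ({z} : Set G)) : ℤ) - 26) := by
  classical
  haveI hp : Fact (Nat.Prime 13) := ⟨by norm_num⟩
  have hna := not_comm (G := G) h (by norm_num)
  have hzz : z * z = 1 := by rw [← sq, ← hz, pow_orderOf_eq_one]
  have hex : ∀ χ : IrrCharacter G, ∃ v : ℤ, (χ : G → ℂ) z = v ∧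
      (χ ≠ oneIrr G → v.natAbs ≤ charDegree (χ : G → ℂ) ∧ v ≠ charDegree (χ : G → ℂ) ∧
        (4 : ℤ) ∣ v - charDegree (χ : G → ℂ)) := by
    intro χ
    by_cases hχ : χ = oneIrr G
    · exact ⟨1, by subst hχ; simp [oneIrr], fun e => absurd hχ e⟩
    · obtain ⟨v, hv, h1, -, h3⟩ := exists_value hχ hz
      exact ⟨v, hv, fun _ => ⟨h1, h3, four_dvd hna hzz hv⟩⟩
  choose v hv hvp using hex
  have h1 : v (oneIrr G) = 1 := by
    have : ((v (oneIrr G) : ℤ) : ℂ) = ((1 : ℤ) : ℂ) := by rw [← hv]; simp [oneIrr]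
    exact_mod_cast this
  have hda : charDegree (D.a : G → ℂ) = 12 := by
    have := irr_charDegree_cast D.a; rw [D.deg_a] at this; exact_mod_cast this
  have hdb : charDegree (D.b : G → ℂ) = 27 := by
    have := irr_charDegree_cast D.b; rw [D.deg_b] at this; exact_mod_cast this
  obtain ⟨⟨ha1, ha2, ha3⟩, ⟨hb1, hb2, hb3⟩⟩ := hvp D.a D.a_ne, hvp D.b D.b_ne
  rw [hda] at ha1 ha2 ha3
  rw [hdb] at hb1 hb3
  have hz13 : ¬ 13 ∣ orderOf z := by rw [hz]; norm_num
  have hY : ∀ ψ ∈ D.Y, v ψ = 1 - v D.a + v D.b := by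
    intro ψ hψ
    have h2 := D.relY ψ hψ z hz13
    rw [hv, hv, hv] at h2
    exact_mod_cast h2
  obtain ⟨ψ, hψ⟩ : D.Y.Nonempty := Finset.card_pos.1 (by rw [D.cardY]; norm_num)
  have hψ4 : (4 : ℤ) ∣ v ψ - 16 := by
    have h2 := (hvp ψ fun e => D.one_notY (e ▸ hψ)).2.2
    have : charDegree (ψ : G → ℂ) = 16 := by
      have := irr_charDegree_cast ψ; rw [D.deg_Y ψ hψ] at this; exact_mod_cast this
    rwa [this] at h2
  obtain ⟨x, hx, hx1⟩ : ∃ x ∈ (D.P : Subgroup G), x ≠ 1 := by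
    refine ((Subgroup.bot_or_exists_ne_one (D.P : Subgroup G)).resolve_left fun hb => ?_)
    have := Subgroup.card_eq_one.2 hb
    rw [show Nat.card (D.P : Subgroup G) = 13 from D.cardP] at this
    norm_num at this
  have hpc : pairCount z z x = 0 := by
    rw [pairCount, Nat.card_eq_zero]
    refine Or.inl ⟨fun ⟨t, ht, ht'⟩ => ?_⟩
    obtain ⟨s, hs⟩ := isConj_iff.1 ht
    obtain ⟨s', hs'⟩ := isConj_iff.1 ht'
    have ht2 : t * t = 1 := by rw [← hs, conj_mul, hzz]; group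
    have hi : t⁻¹ = t := inv_eq_of_mul_eq_one_right ht2
    have htx : (t * x) * (t * x) = 1 := by
      have : (t⁻¹ * x) * (t⁻¹ * x) = 1 := by rw [← hs', conj_mul, hzz]; group
      rwa [hi] at this
    have hinv : t * x * t⁻¹ = x⁻¹ := by
      rw [hi]; exact eq_inv_of_mul_eq_one_left (by simpa [mul_assoc] using htx)
    have hmem : t ∈ Subgroup.normalizer ((D.P : Subgroup G) : Set G) := by
      rw [← zpowers_eq D.cardP hx hx1, Subgroup.mem_normalizer_iff]
      intro y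
      constructor
      · rintro ⟨k, rfl⟩
        refine ⟨-k, ?_⟩
        show x ^ (-k) = t * x ^ k * t⁻¹
        rw [← conj_zpow, hinv, inv_zpow, zpow_neg]
      · rintro ⟨k, hk⟩
        refine ⟨-k, ?_⟩
        show x ^ (-k) = y
        have : y = t⁻¹ * x ^ k * t := by rw [show x ^ k = t * y * t⁻¹ from hk]; group
        rw [this, zpow_neg, ← inv_zpow, ← hinv, conj_zpow, hi]
    have hto : orderOf t = 2 := by rw [← hs, ← MulAut.conj_apply, MulEquiv.orderOf_eq, hz]
    have := Subgroup.orderOf_dvd_natCard _ hmem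
    rw [D.normP, hto] at this
    norm_num at this
  have heq := D.pairCount_eq x hx hx1 z hz13
  rw [hpc, Nat.cast_zero, zero_mul, hv, hv] at heq
  have hzeq : 432 - 36 * v D.a ^ 2 + 16 * v D.b ^ 2 - 27 * (1 - v D.a + v D.b) ^ 2 = 0 := by
    have : ((432 - 36 * v D.a ^ 2 + 16 * v D.b ^ 2 - 27 * (1 - v D.a + v D.b) ^ 2 : ℤ) : ℂ)
        = ((0 : ℤ) : ℂ) := by
      push_cast
      linear_combination (-(432 : ℂ) / 5616) * heq
    exact_mod_cast this
  set C := Nat.card (Subgroup.centralizer ({z} : Set G)) with hC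
  have hC13 : ¬ 13 ∣ C := by
    intro hd
    obtain ⟨y, hy⟩ := exists_prime_orderOf_dvd_card' 13 hd
    have hyG : orderOf (y : G) = 13 := by rw [Subgroup.orderOf_coe, hy]
    have := D.pow13 hyG (Subgroup.mem_centralizer_singleton_iff.1 y.2).symm
    exact absurd (hz ▸ orderOf_dvd_of_pow_eq_one this) (by norm_num)
  have hC432 : C ∣ 432 :=
    dvd_of_dvd_mul_prime hp.out ((Subgroup.card_subgroup_dvd_card _).trans (h.trans (by norm_num)).dvd) hC13
  have hsq : (∑ χ ∈ D.R, v χ * v χ) + (1 + v D.a ^ 2 + v D.b ^ 2 + 4 * (1 - v D.a + v D.b) ^ 2) =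
      (C : ℤ) := by
    have hh := sum_irr_mul_conj z z
    rw [if_pos (IsConj.refl z), D.sum_all, ← hC] at hh
    simp only [hv, map_intCast, h1] at hh
    rw [Finset.sum_congr (s₁ := D.Y) rfl (fun ψ hψ => by rw [hY ψ hψ]), Finset.sum_const, D.cardY] at hh
    have : (((∑ χ ∈ D.R, v χ * v χ) + (1 + v D.a ^ 2 + v D.b ^ 2 + 4 * (1 - v D.a + v D.b) ^ 2) : ℤ) : ℂ)
        = ((C : ℤ) : ℂ) := by
      push_cast at hh ⊢
      linear_combination hh
    exact_mod_cast this
  have hlin : 13 * (∑ χ ∈ D.R, ((charDegree (χ : G → ℂ) / 13 : ℕ) : ℤ) * v χ) =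
      -(1 + 12 * v D.a + 27 * v D.b + 64 * (1 - v D.a + v D.b)) := by
    have hh := sum_irr_apply_mul_degree z
    rw [if_neg (fun e => by rw [e, orderOf_one] at hz; norm_num at hz), D.sum_all, D.deg_a, D.deg_b] at hh
    simp only [hv, h1, show ((oneIrr G : IrrCharacter G) : G → ℂ) 1 = 1 from rfl] at hh
    rw [Finset.sum_congr (s₁ := D.Y) rfl (fun ψ hψ => by rw [hY ψ hψ, D.deg_Y ψ hψ]), Finset.sum_const,
      D.cardY, Finset.sum_congr (s₁ := D.R) rfl (fun χ hχ => by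
        obtain ⟨k, hk⟩ := D.R_deg hχ
        rw [show (χ : G → ℂ) 1 = ((13 * (charDegree (χ : G → ℂ) / 13) : ℕ) : ℂ) by
          rw [hk, Nat.mul_div_cancel_left _ (by norm_num : 0 < 13), ← hk, irr_charDegree_cast]])] at hh
    have : ((13 * (∑ χ ∈ D.R, ((charDegree (χ : G → ℂ) / 13 : ℕ) : ℤ) * v χ) : ℤ) : ℂ)
        = ((-(1 + 12 * v D.a + 27 * v D.b + 64 * (1 - v D.a + v D.b)) : ℤ) : ℂ) := by
      obtain ⟨kf, hkf⟩ : ∃ kf : IrrCharacter G → ℕ, ∀ χ : IrrCharacter G,
          charDegree (χ : G → ℂ) / 13 = kf χ := ⟨_, fun χ => rfl⟩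
      simp only [hkf] at hh ⊢
      push_cast [Finset.mul_sum] at hh ⊢
      rw [show ∑ χ ∈ D.R, (13 : ℂ) * ((kf χ : ℂ) * (v χ : ℂ)) =
        ∑ χ ∈ D.R, (v χ : ℂ) * (13 * (kf χ : ℂ)) from Finset.sum_congr rfl fun _ _ => by ring]
      linear_combination hh
    exact_mod_cast this
  have hCle : (C : ℤ) ≤ 432 := by exact_mod_cast Nat.le_of_dvd (by norm_num) hC432
  have hnn : 0 ≤ ∑ χ ∈ D.R, v χ * v χ := Finset.sum_nonneg fun _ _ => mul_self_nonneg _
  have hres : (v D.a = 4 ∧ v D.b = 3) ∨ (v D.a = 0 ∧ v D.b = -9) := by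
    have e1 : ∀ u : ℤ, ∃ s ∈ ([1, -1] : List ℤ), u = s * (u.natAbs : ℤ) := fun u => by
      rcases Int.natAbs_eq u with e | e
      · exact ⟨1, by simp, by omega⟩
      · exact ⟨-1, by simp, by omega⟩
    obtain ⟨s, hs, es⟩ := e1 (v D.a)
    obtain ⟨r, hr, er⟩ := e1 (v D.b)
    have := value_search (v D.a).natAbs (by omega) (v D.b).natAbs (by omega) s hs r hr (by
      rw [← es, ← er]
      refine ⟨?_, ?_, ?_, ha2, hzeq, by omega⟩
      · omega
      · omega
      · rw [hY ψ hψ] at hψ4; omega)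
    rwa [← es, ← er] at this
  rcases hres with ⟨ea, eb⟩ | ⟨ea, eb⟩
  · refine ⟨v, hv, ea, eb, fun φ hφ => by rw [hY φ hφ, ea, eb]; norm_num, hC432, fun χ hχ => ?_,
      ?_, ?_⟩
    · have h4 := (hvp χ (D.R_ne hχ)).2.2
      obtain ⟨k, hk⟩ := D.R_deg hχ
      rw [hk] at h4 ⊢
      rw [Nat.mul_div_cancel_left _ (by norm_num : 0 < 13)]
      push_cast at h4
      omega
    · rw [ea, eb] at hlin; omega
    · rw [ea, eb] at hsq; omega
  · exfalso
    rw [ea, eb] at hlin hsq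
    have hS : ∑ χ ∈ D.R, ((charDegree (χ : G → ℂ) / 13 : ℕ) : ℤ) * v χ = 58 := by omega
    have hK : ∑ χ ∈ D.R, ((charDegree (χ : G → ℂ) / 13 : ℕ) : ℤ) ^ 2 = 22 := by
      have := D.sum_k h
      rw [← Nat.cast_inj (R := ℤ)] at this
      push_cast at this
      simpa [sq] using this
    have hcs := Finset.sum_mul_sq_le_sq_mul_sq D.R
      (fun χ => ((charDegree (χ : G → ℂ) / 13 : ℕ) : ℤ)) v
    rw [hS, hK] at hcs
    have : ∑ χ ∈ D.R, v χ ^ 2 = ∑ χ ∈ D.R, v χ * v χ := Finset.sum_congr rfl fun _ _ => sq _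
    rw [this] at hcs
    omega

/-- The class of an involution has the sum of cubes of its values. -/
theorem CharData.cube_eq (h : Nat.card G = 5616) {z : G} (v : IrrCharacter G → ℤ)
    (hv : ∀ χ : IrrCharacter G, (χ : G → ℂ) z = v χ) (ha : v D.a = 4) (hb : v D.b = 3) (hY : ∀ ψ ∈ D.Y, v ψ = 0) :
    (pairCount z z z : ℤ) * (Nat.card (Subgroup.centralizer ({z} : Set G)) : ℤ) ^ 2 =
      36 * (1144 + ∑ χ ∈ D.R, ((12 / (charDegree (χ : G → ℂ) / 13) : ℕ) : ℤ) * v χ ^ 3) := by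
  classical
  set C := Nat.card (Subgroup.centralizer ({z} : Set G)) with hC
  have h1 : v (oneIrr G) = 1 := by
    have : ((v (oneIrr G) : ℤ) : ℂ) = ((1 : ℤ) : ℂ) := by rw [← hv]; simp [oneIrr]
    exact_mod_cast this
  have hp := pairCount_mul z z z
  have hcG : ((Subgroup.centralizer ({z} : Set G)).index : ℂ) * (C : ℂ) = 5616 := by
    rw [hC, ← Nat.cast_mul, Subgroup.index_mul_card, h]; norm_num
  have hterm : ∀ χ : IrrCharacter G, clv z χ * ((χ : G → ℂ) z * conj ((χ : G → ℂ) z)) * C =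
      5616 * ((v χ : ℂ) ^ 3 / (χ : G → ℂ) 1) := fun χ => by
    rw [← hcG, clv, centralChar, hv, map_intCast]
    ring
  have hR : ∀ χ ∈ D.R, 5616 * ((v χ : ℂ) ^ 3 / (χ : G → ℂ) 1) =
      36 * ((((12 / (charDegree (χ : G → ℂ) / 13) : ℕ) : ℤ) * v χ ^ 3 : ℤ) : ℂ) := by
    intro χ hχ
    obtain ⟨hk1, hk4⟩ := D.k_range h hχ
    obtain ⟨k, hk⟩ := D.R_deg hχ
    rw [hk, Nat.mul_div_cancel_left _ (by norm_num : 0 < 13)] at hk1 hk4
    rw [← irr_charDegree_cast χ, hk, Nat.mul_div_cancel_left _ (by norm_num : 0 < 13)]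
    interval_cases k <;> norm_num <;> ring
  have : (((pairCount z z z : ℤ) * (C : ℤ) ^ 2 : ℤ) : ℂ) =
      ((36 * (1144 + ∑ χ ∈ D.R, ((12 / (charDegree (χ : G → ℂ) / 13) : ℕ) : ℤ) * v χ ^ 3) : ℤ) : ℂ) := by
    push_cast
    rw [sq, ← mul_assoc, hp, Finset.sum_mul, Finset.sum_congr rfl fun χ _ => hterm χ, D.sum_all,
      Finset.sum_eq_zero (s := D.Y) (fun ψ hψ => by rw [hY ψ hψ]; simp),
      Finset.sum_congr (s₁ := D.R) rfl hR, ha, hb, h1, D.deg_a, D.deg_b,
      show ((oneIrr G : IrrCharacter G) : G → ℂ) 1 = 1 from rfl, ← Finset.mul_sum]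
    push_cast
    ring
  exact_mod_cast this

/-- The permutation action on thirteen points is doubly transitive and an involution fixes five. -/
theorem CharData.no_index_thirteen (h : Nat.card G = 5616) {z : G} (hz : orderOf z = 2)
    (hva : (D.a : G → ℂ) z = 4) : Nat.card (Subgroup.centralizer ({z} : Set G)) ≠ 432 := by
  classical
  intro hC
  set H := Subgroup.centralizer ({z} : Set G) with hH
  haveI : Fintype H := Fintype.ofFinite _
  have hidx : Nat.card (G ⧸ H) = 13 := by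
    have := H.card_mul_index
    rw [hC, h] at this
    rw [← Subgroup.index]
    omega
  set π : G → ℂ := indFun H (fun _ => 1) with hπ
  have hπc : IsCharacter G π := isCharacter_indFun H isCharacter_one
  have hπe : ∀ g, π g = (Nat.card (MulAction.fixedBy (G ⧸ H) g) : ℂ) := fun g => by
    rw [hπ, indFun_one_eq_permChar, permChar, Int.cast_natCast]
  choose c hc using fun χ : IrrCharacter G => (isCharacter_iff_coeff_nat.1 hπc).2 χ χ.2
  have hexp : ∀ g, π g = ∑ χ : IrrCharacter G, (c χ : ℂ) * (χ : G → ℂ) g := fun g => by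
    conv_lhs => rw [eq_sum_irr (isClassFunction_char hπc)]
    simp [Finset.sum_apply, hc]
  have hc1 : c (oneIrr G) = 1 := by
    have h1 : classInner π (fun _ => 1) = 1 := by
      rw [hπ, frobenius_reciprocity H _ (isClassFunction_irr isIrrCharacter_one),
        classInner_irr_self (isIrrCharacter_one (G := H))]
    have := (hc (oneIrr G)).symm.trans h1
    exact_mod_cast this
  have hdeg : (13 : ℂ) = ∑ χ : IrrCharacter G, (c χ : ℂ) * (charDegree (χ : G → ℂ) : ℂ) := by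
    simp only [irr_charDegree_cast]
    rw [← hexp, hπe]
    rw [show MulAction.fixedBy (G ⧸ H) (1 : G) = Set.univ from Set.eq_univ_of_forall fun q => one_smul G q,
      Nat.card_congr (Equiv.Set.univ _), hidx]
    norm_num
  have hdeg' : ∑ χ : IrrCharacter G, c χ * charDegree (χ : G → ℂ) = 13 := by exact_mod_cast hdeg.symm
  rw [← Finset.add_sum_erase _ _ (Finset.mem_univ (oneIrr G)), hc1,
    ← Finset.add_sum_erase _ _ (Finset.mem_erase.2 ⟨D.a_ne, Finset.mem_univ D.a⟩)] at hdeg'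
  have hd1 : charDegree ((oneIrr G : IrrCharacter G) : G → ℂ) = 1 := by
    have := irr_charDegree_cast (oneIrr G)
    rw [show ((oneIrr G : IrrCharacter G) : G → ℂ) 1 = 1 from rfl] at this
    exact_mod_cast this
  have hda : charDegree (D.a : G → ℂ) = 12 := by
    have := irr_charDegree_cast D.a; rw [D.deg_a] at this; exact_mod_cast this
  rw [hd1, hda] at hdeg'
  have h0 : ∀ χ : IrrCharacter G, χ ≠ oneIrr G → χ ≠ D.a → c χ = 0 := by
    intro χ h1 h2
    have hle := Finset.single_le_sum (f := fun χ : IrrCharacter G => c χ * charDegree (χ : G → ℂ))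
      (fun _ _ => Nat.zero_le _) (Finset.mem_erase.2 ⟨h2, Finset.mem_erase.2 ⟨h1, Finset.mem_univ χ⟩⟩)
    have hd : 13 ≤ charDegree (χ : G → ℂ) := by
      by_cases hb : χ = D.b
      · have := irr_charDegree_cast χ; rw [hb, D.deg_b] at this
        have : charDegree (D.b : G → ℂ) = 27 := by exact_mod_cast this
        rw [hb]; omega
      by_cases hY : χ ∈ D.Y
      · have := irr_charDegree_cast χ; rw [D.deg_Y χ hY] at this
        have : charDegree (χ : G → ℂ) = 16 := by exact_mod_cast this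
        omega
      exact Nat.le_of_dvd (irr_charDegree_pos χ) (D.outside χ h1 h2 hb hY)
    by_contra hne
    have := Nat.mul_le_mul (Nat.one_le_iff_ne_zero.2 hne) hd
    omega
  have hca : c D.a = 1 := by
    rw [Finset.sum_eq_zero fun χ hχ => by
      simp only [Finset.mem_erase] at hχ
      rw [h0 χ hχ.2.1 hχ.1, zero_mul]] at hdeg'
    omega
  have hf : ∀ g, π g = 1 + (D.a : G → ℂ) g := fun g => by
    rw [hexp, ← Finset.add_sum_erase _ _ (Finset.mem_univ (oneIrr G)),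
      ← Finset.add_sum_erase _ _ (Finset.mem_erase.2 ⟨D.a_ne, Finset.mem_univ D.a⟩),
      Finset.sum_eq_zero fun χ hχ => by
        simp only [Finset.mem_erase] at hχ
        rw [h0 χ hχ.2.1 hχ.1, Nat.cast_zero, zero_mul], hc1, hca,
      show ((oneIrr G : IrrCharacter G) : G → ℂ) g = 1 from rfl]
    push_cast
    ring
  have hirr : IsIrrCharacter G fun g => (Nat.card (MulAction.fixedBy (G ⧸ H) g) : ℂ) - 1 := by
    have : (fun g => (Nat.card (MulAction.fixedBy (G ⧸ H) g) : ℂ) - 1) = (D.a : G → ℂ) := by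
      funext g; rw [← hπe, hf]; ring
    rw [this]; exact D.a.2
  have h2 := (Cfsg.Agent.S0157.result (G := G) (G ⧸ H) (by omega)).1 hirr
  rw [MulAction.is_two_pretransitive_iff] at h2
  have hfix : Nat.card (MulAction.fixedBy (G ⧸ H) z) = 5 := by
    have := hπe z
    rw [hf, hva] at this
    have h5 : ((Nat.card (MulAction.fixedBy (G ⧸ H) z) : ℕ) : ℂ) = ((5 : ℕ) : ℂ) := by
      push_cast; linear_combination -this
    exact_mod_cast h5
  set o : G ⧸ H := ((1 : G) : G ⧸ H) with ho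
  obtain ⟨y, hy, hyo⟩ : ∃ y ∈ MulAction.fixedBy (G ⧸ H) z, y ≠ o := by
    obtain ⟨y, hy, hne⟩ := Set.exists_ne_of_one_lt_ncard (s := MulAction.fixedBy (G ⧸ H) z)
      (by rw [← Nat.card_coe_set_eq, hfix]; norm_num) o
    exact ⟨y, hy, hne⟩
  have hall : MulAction.fixedBy (G ⧸ H) z = Set.univ := by
    refine Set.eq_univ_of_forall fun q => ?_
    by_cases hq : q = o
    · subst hq
      rw [MulAction.mem_fixedBy, ho, fix_mk_iff]
      simpa using Subgroup.mem_centralizer_singleton_iff.2 rfl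
    obtain ⟨g, hg1, hg2⟩ := h2 hyo.symm (fun e : o = q => hq e.symm)
    have hgH : g ∈ H := by
      have hg1' : ((g * 1 : G) : G ⧸ H) = ((1 : G) : G ⧸ H) := hg1
      rw [mul_one, eq_comm, QuotientGroup.eq, inv_one, one_mul] at hg1'
      exact hg1'
    rw [MulAction.mem_fixedBy] at hy ⊢
    rw [← hg2, ← mul_smul, ← Subgroup.mem_centralizer_singleton_iff.1 hgH, mul_smul, hy]
  rw [hall, Nat.card_congr (Equiv.Set.univ _), hidx] at hfix
  norm_num at hfix

/-- The pairs attached to the characters outside the block. -/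
theorem CharData.cent_card (h : Nat.card G = 5616) {z : G} (hz : orderOf z = 2) :
    Nat.card (Subgroup.centralizer ({z} : Set G)) = 48 ∧
      (pairCount z z z = 7 ∨ pairCount z z z = 8 ∨ pairCount z z z = 12 ∨ pairCount z z z = 16) := by
  classical
  obtain ⟨v, hv, ha, hb, hY, hC432, h4, h10, hS⟩ := D.exists_values h hz
  have hcub := D.cube_eq h v hv ha hb hY
  set C := Nat.card (Subgroup.centralizer ({z} : Set G)) with hC
  set k : IrrCharacter G → ℕ := fun χ => charDegree (χ : G → ℂ) / 13 with hk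
  choose! w hw using h4
  have hw' : ∀ χ ∈ D.R, v χ = (k χ : ℤ) + 4 * w χ := fun χ hχ => by
    have := hw χ hχ; simp only [hk]; omega
  have hK : ∑ χ ∈ D.R, ((k χ : ℤ) * k χ) = 22 := by exact_mod_cast D.sum_k h
  have hkw : ∑ χ ∈ D.R, (k χ : ℤ) * w χ = -8 := by
    have : ∑ χ ∈ D.R, (k χ : ℤ) * v χ = ∑ χ ∈ D.R, ((k χ : ℤ) * k χ) + 4 * ∑ χ ∈ D.R, (k χ : ℤ) * w χ := by
      rw [Finset.mul_sum, ← Finset.sum_add_distrib]
      exact Finset.sum_congr rfl fun χ hχ => by rw [hw' χ hχ]; ring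
    rw [hK, h10] at this
    omega
  have hww : (C : ℤ) + 16 = 16 * ∑ χ ∈ D.R, w χ * w χ := by
    have : ∑ χ ∈ D.R, v χ * v χ = ∑ χ ∈ D.R, ((k χ : ℤ) * k χ) + 8 * ∑ χ ∈ D.R, (k χ : ℤ) * w χ +
        16 * ∑ χ ∈ D.R, w χ * w χ := by
      rw [Finset.mul_sum, Finset.mul_sum, ← Finset.sum_add_distrib, ← Finset.sum_add_distrib]
      exact Finset.sum_congr rfl fun χ hχ => by rw [hw' χ hχ]; ring
    rw [hK, hkw, hS] at this
    omega
  have hcs : (10 : ℤ) ^ 2 ≤ 22 * ((C : ℤ) - 26) := by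
    have := Finset.sum_mul_sq_le_sq_mul_sq D.R (fun χ => (k χ : ℤ)) v
    simp only [sq] at this ⊢
    rw [hK, hS, h10] at this
    linarith
  have h16 : 16 ∣ C := by omega
  have hC3 : C = 48 ∨ C = 144 ∨ C = 432 := by
    have : ∀ c < 433, c ∣ 432 → 16 ∣ c → 31 ≤ c → c = 48 ∨ c = 144 ∨ c = 432 := by decide +kernel
    exact this C (Nat.lt_succ_of_le (Nat.le_of_dvd (by norm_num) hC432)) hC432 h16 (by omega)
  -- the multiset of nonzero pairs
  set R' := D.R.filter fun χ => w χ ≠ 0 with hR'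
  set m : Multiset (ℕ × ℤ) := R'.val.map fun χ => (k χ, w χ) with hm
  have hmk : ∀ x ∈ m, 1 ≤ x.1 ∧ x.1 ≤ 4 ∧ x.2 ≠ 0 := by
    intro x hx
    rw [hm, Multiset.mem_map] at hx
    obtain ⟨χ, hχ, rfl⟩ := hx
    rw [Finset.mem_val, hR', Finset.mem_filter] at hχ
    exact ⟨(D.k_range h hχ.1).1, (D.k_range h hχ.1).2, hχ.2⟩
  have hmK : sK m ≤ 22 := by
    have e : sK m = ∑ χ ∈ R', k χ * k χ := by simp [sK, hm, Finset.sum_map_val, Multiset.map_map]
    rw [e]
    exact (D.sum_k h) ▸ Finset.sum_le_sum_of_subset (Finset.filter_subset _ _)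
  have hmW : (sW m : ℤ) = ∑ χ ∈ D.R, w χ * w χ := by
    have e : sW m = ∑ χ ∈ R', (w χ).natAbs * (w χ).natAbs := by
      simp [sW, hm, Finset.sum_map_val, Multiset.map_map]
    rw [e]
    push_cast
    rw [Finset.sum_filter]
    refine Finset.sum_congr rfl fun χ _ => ?_
    by_cases hc : w χ = 0 <;> simp [hc]
  have hm1 : s1 m = -8 := by
    have e : s1 m = ∑ χ ∈ R', (k χ : ℤ) * w χ := by
      simp [s1, hm, Finset.sum_map_val, Multiset.map_map]
    rw [e, Finset.sum_filter, ← hkw]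
    refine Finset.sum_congr rfl fun χ _ => ?_
    by_cases hc : w χ = 0 <;> simp [hc]
  have hmU : sU m = ∑ χ ∈ D.R, ((12 / k χ : ℕ) : ℤ) * w χ ^ 3 := by
    have e : sU m = ∑ χ ∈ R', ((12 / k χ : ℕ) : ℤ) * w χ ^ 3 := by
      simp [sU, hm, Finset.sum_map_val, Multiset.map_map]
    rw [e, Finset.sum_filter]
    refine Finset.sum_congr rfl fun χ _ => ?_
    by_cases hc : w χ = 0 <;> simp [hc]
  have hT : ∑ χ ∈ D.R, ((12 / k χ : ℕ) : ℤ) * v χ ^ 3 =
      12 * ∑ χ ∈ D.R, ((k χ : ℤ) * k χ) + 144 * ∑ χ ∈ D.R, (k χ : ℤ) * w χ +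
        576 * ∑ χ ∈ D.R, w χ * w χ + 64 * ∑ χ ∈ D.R, ((12 / k χ : ℕ) : ℤ) * w χ ^ 3 := by
    simp only [Finset.mul_sum, ← Finset.sum_add_distrib]
    refine Finset.sum_congr rfl fun χ hχ => ?_
    obtain ⟨hk1, hk4⟩ := D.k_range h hχ
    have h12 : ((12 / k χ : ℕ) : ℤ) * (k χ : ℤ) = 12 := by
      have : k χ = 1 ∨ k χ = 2 ∨ k χ = 3 ∨ k χ = 4 := by simp only [hk]; omega
      rcases this with e | e | e | e <;> rw [e] <;> norm_num
    rw [hw' χ hχ]
    linear_combination ((k χ : ℤ) ^ 2 + 12 * (k χ : ℤ) * w χ + 48 * w χ ^ 2) * h12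
  rw [hT, hK, hkw, ← hmW, ← hmU] at hcub
  rw [← hmW] at hww
  rcases hC3 with e | e | e
  · refine ⟨e, ?_⟩
    rw [e] at hww hcub
    have hW4 : sW m = 4 := by omega
    have := leaf_48 hmk hmK hW4 hm1
    rw [hW4] at hcub
    push_cast at hcub
    omega
  · exfalso
    rw [e] at hww hcub
    have hW : sW m = 10 := by omega
    refine leaf_144 hmk hmK hW hm1 ?_
    rw [hW] at hcub
    push_cast at hcub
    omega
  · exact absurd e (D.no_index_thirteen h hz (by rw [hv, ha]; norm_num))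

/-- All involutions are conjugate. -/
theorem CharData.isConj (h : Nat.card G = 5616) {z z' : G} (hz : orderOf z = 2) (hz' : orderOf z' = 2) :
    IsConj z z' := by
  classical
  by_contra hn
  obtain ⟨v, hv, ha, hb, hY, -, -, -, hS⟩ := D.exists_values h hz
  obtain ⟨v', hv', ha', hb', hY', -, -, -, hS'⟩ := D.exists_values h hz'
  rw [(D.cent_card h hz).1] at hS
  rw [(D.cent_card h hz').1] at hS'
  have hh := sum_irr_mul_conj z z'
  rw [if_neg hn, D.sum_all] at hh
  simp only [hv, hv', map_intCast, ha, hb, ha', hb'] at hh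
  have e1 : v (oneIrr G) = 1 := by
    have : ((v (oneIrr G) : ℤ) : ℂ) = ((1 : ℤ) : ℂ) := by rw [← hv]; simp [oneIrr]
    exact_mod_cast this
  have e1' : v' (oneIrr G) = 1 := by
    have : ((v' (oneIrr G) : ℤ) : ℂ) = ((1 : ℤ) : ℂ) := by rw [← hv']; simp [oneIrr]
    exact_mod_cast this
  rw [e1, e1', Finset.sum_eq_zero (s := D.Y) (fun ψ hψ => by rw [hY ψ hψ]; simp)] at hh
  have hc : ∑ χ ∈ D.R, v χ * v' χ = -26 := by
    have : ((∑ χ ∈ D.R, v χ * v' χ : ℤ) : ℂ) = ((-26 : ℤ) : ℂ) := by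
      push_cast at hh ⊢; linear_combination hh
    exact_mod_cast this
  have hnn : 0 ≤ ∑ χ ∈ D.R, (v χ + v' χ) * (v χ + v' χ) :=
    Finset.sum_nonneg fun _ _ => mul_self_nonneg _
  have he : ∑ χ ∈ D.R, (v χ + v' χ) * (v χ + v' χ) =
      ∑ χ ∈ D.R, v χ * v χ + 2 * ∑ χ ∈ D.R, v χ * v' χ + ∑ χ ∈ D.R, v' χ * v' χ := by
    rw [Finset.mul_sum, ← Finset.sum_add_distrib, ← Finset.sum_add_distrib]
    exact Finset.sum_congr rfl fun _ _ => by ring
  rw [he, hc, hS, hS'] at hnn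
  norm_num at hnn

end CfsgLib.SmallOrders.Order5616
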