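import Cfsg.Agent.Lib.SmallOrders.PrincipalDegree

/-!
# The data attached to a Sylow subgroup of prime order, and the elimination by degrees
-/

namespace CfsgLib.SmallOrders

open Cfsg CfsgLib.CharTheory CfsgLib.Blocks

set_option autoImplicit false
set_option linter.unusedVariables false
set_option linter.style.haveILetI false
set_option linter.unusedSectionVars false

universe u

variable {G : Type u} [Group G] [Fintype G]

/-- A simple group whose order is not a prime is not abelian. -/
theorem not_comm [IsSimpleGroup G] {n : ℕ} (hn : Nat.card G = n) (h : ¬ n.Prime) :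
    ∃ a b : G, a * b ≠ b * a := by
  by_contra hc
  push Not at hc
  letI : CommGroup G := { (inferInstance : Group G) with mul_comm := hc }
  exact h (hn ▸ IsSimpleGroup.prime_card)

/-- The data: the number `n` of Sylow `p`-subgroups, the index `e`, and the shape, whose degrees
pass the search. -/
theorem exists_data [IsSimpleGroup G] {p m : ℕ} [hpf : Fact p.Prime] (hodd : p ≠ 2)
    (hN : Nat.card G = p * m) (hpm : ¬ p ∣ m) (hm : 1 < m) :
    ∃ (M : Ideal AlgInt) (P : Sylow p G) (n e : ℕ) (S : Shape p M (P : Subgroup G) e),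
      IsPModular p M ∧ Nat.card P = p ∧ n ∣ m ∧ n % p = 1 ∧ n ≠ 1 ∧ e ∣ p - 1 ∧ 2 ≤ e ∧
      Nat.card (Subgroup.centralizer ((P : Subgroup G) : Set G)) * (n * e) = p * m ∧
      n * e ∣ m ∧ degSearch p m (if n * e = m then 2 else 2 * p) e = true ∧
      Nat.card (Subgroup.normalizer ((P : Subgroup G) : Set G)) =
        Nat.card (Subgroup.centralizer ((P : Subgroup G) : Set G)) * e := by
  classical
  have hp : p.Prime := hpf.out
  obtain ⟨M, hM⟩ := exists_pModular hp
  obtain ⟨P⟩ : Nonempty (Sylow p G) := inferInstance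
  have hP : Nat.card P = p := by
    have := SmallOrder.card_sylow_eq (k := 1) P (by rw [hN, pow_one]; exact Dvd.intro m rfl)
      (by rw [hN, pow_succ, pow_one]; exact fun h => hpm ((Nat.mul_dvd_mul_iff_left hp.pos).1 h))
    rwa [pow_one] at this
  have hnp : ¬ (p * m).Prime := Nat.not_prime_mul hp.ne_one hm.ne'
  have hna := not_comm hN hnp
  set n := Nat.card (Sylow p G) with hn
  have hmem := SmallOrder.card_sylow_mem_filter P hP hN hp.ne_zero
  rw [Finset.mem_filter, Nat.mem_divisors] at hmem
  have hn1 : n ≠ 1 := SmallOrder.card_sylow_ne_one P (by rw [hP]; exact hp.ne_one)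
    (by rw [hN, hP]; exact fun h => hm.ne' ((Nat.mul_eq_left hp.ne_zero).1 h))
  set C := Subgroup.centralizer ((P : Subgroup G) : Set G) with hC
  set N := Subgroup.normalizer ((P : Subgroup G) : Set G) with hNdef
  set e := C.relIndex N with he
  have hCN : C ≤ N := Subgroup.centralizer_le_normalizer _
  have hed : e ∣ p - 1 := relIndex_dvd (P : Subgroup G) hP
  have h2 : Nat.card C * e = Nat.card N := by
    rw [he, Subgroup.relIndex, ← Nat.card_congr (Subgroup.subgroupOfEquivOfLe hCN).toEquiv]
    exact Subgroup.card_mul_index _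
  have hmulC : Nat.card C * (n * e) = p * m := by
    have h1 : Nat.card N * n = Nat.card G := SmallOrder.card_normalizer_mul_card_sylow P
    rw [← hN, ← h1, ← h2]
    ring
  have he2 : 2 ≤ e := by
    rcases Nat.lt_or_ge e 2 with h | h
    · exfalso
      have h0 : e ≠ 0 := Subgroup.index_ne_zero_of_finite
      have h1 : e = 1 := by omega
      have := SmallOrder.card_eq_sylow_of_normalizer_le_centralizer P
        (Subgroup.relIndex_eq_one.1 h1)
        (fun hb => hp.ne_one (by rw [← hP]; exact Subgroup.card_eq_one.2 hb))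
      rw [hN, hP] at this
      exact hm.ne' ((Nat.mul_eq_left hp.ne_zero).1 this)
    · exact h
  have hPC : (P : Subgroup G) ≤ C := by
    haveI : IsCyclic (P : Subgroup G) := isCyclic_of_prime_card hP
    exact (P : Subgroup G).le_centralizer
  obtain ⟨c, hc⟩ : p ∣ Nat.card C := by
    have := Subgroup.card_dvd_of_le hPC
    rwa [show Nat.card (P : Subgroup G) = p from hP] at this
  have hcm : c * (n * e) = m := by
    rw [hc, mul_assoc] at hmulC
    exact Nat.eq_of_mul_eq_mul_left hp.pos hmulC
  obtain ⟨S⟩ := exists_shape hM hodd P hP he.symm he2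
  refine ⟨M, P, n, e, S, hM, hP, hmem.1.1, hmem.2, hn1, hed, he2, hmulC, Dvd.intro_left c hcm, ?_,
    h2.symm⟩
  refine S.degSearch_eq_true hN ?_ (by omega) fun χ hχ => ?_
  · have := Nat.le_of_dvd (by have := hp.two_le; omega) hed
    have := hp.two_le
    omega
  have hne : χ ≠ oneIrr G := by
    rintro rfl
    exact hχ.elim S.one_notX S.one_notY
  split_ifs with h
  · exact two_le_charDegree hna hne
  · have hc1 : c ≠ 1 := fun h1 => h (by rw [← hcm, h1, one_mul])
    obtain ⟨r, hr, hrc⟩ := Nat.exists_prime_and_dvd hc1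
    haveI : Fact r.Prime := ⟨hr⟩
    obtain ⟨y, hy⟩ := exists_prime_orderOf_dvd_card' (G := C) r (hc ▸ hrc.mul_left p)
    refine Shape.two_p_le hna hP y.2 ?_ ?_ S hχ
    · intro h1
      rw [show y = 1 from Subtype.ext h1, orderOf_one] at hy
      exact hr.one_lt.ne hy
    · rw [Subgroup.orderOf_coe, hy, Nat.prime_dvd_prime_iff_eq hp hr]
      rintro rfl
      exact hpm (hrc.trans (Dvd.intro _ hcm))

/-- The pairs `(n, e)` to be examined. -/
def pairs (p m : ℕ) : List (ℕ × ℕ) :=
  List.flatMap (fun n : ℕ => ((List.range p).filter fun e => decide (2 ≤ e) && decide ((p - 1) % e = 0)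
      && decide (m % (n * e) = 0)).map fun e => (n, e))
    ((List.range (m + 1)).filter fun n : ℕ => decide (m % n = 0) && decide (n % p = 1) && decide (n ≠ 1))

theorem mem_pairs {p m n e : ℕ} (hp : 2 ≤ p) (hm : m ≠ 0) (h1 : n ∣ m) (h2 : n % p = 1) (h3 : n ≠ 1)
    (h4 : e ∣ p - 1) (h5 : 2 ≤ e) (h6 : n * e ∣ m) : (n, e) ∈ pairs p m := by
  rw [pairs, List.mem_flatMap]
  have := Nat.le_of_dvd (by omega) h1
  have := Nat.le_of_dvd (by omega) h4
  refine ⟨n, ?_, ?_⟩
  · simp only [List.mem_filter, List.mem_range, Bool.and_eq_true, decide_eq_true_eq]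
    exact ⟨by omega, ⟨Nat.mod_eq_zero_of_dvd h1, h2⟩, h3⟩
  · simp only [List.mem_map, List.mem_filter, List.mem_range, Bool.and_eq_true, decide_eq_true_eq]
    exact ⟨e, ⟨by omega, ⟨h5, Nat.mod_eq_zero_of_dvd h4⟩, Nat.mod_eq_zero_of_dvd h6⟩, rfl⟩

/-- The elimination by degrees, up to the listed exceptions. -/
def degCheck (p m : ℕ) (exc : List (ℕ × ℕ)) : Bool :=
  (pairs p m).all fun ne => exc.contains ne ||
    !degSearch p m (if ne.1 * ne.2 = m then 2 else 2 * p) ne.2

/-- A simple group of order `p m` lies in one of the exceptions. -/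
theorem mem_exceptions [IsSimpleGroup G] {p m : ℕ} {exc : List (ℕ × ℕ)} [hpf : Fact p.Prime]
    (hodd : p ≠ 2) (hN : Nat.card G = p * m) (hpm : ¬ p ∣ m) (hm : 1 < m)
    (hcheck : degCheck p m exc = true) :
    ∃ (M : Ideal AlgInt) (P : Sylow p G) (n e : ℕ) (S : Shape p M (P : Subgroup G) e),
      IsPModular p M ∧ Nat.card P = p ∧
      Nat.card (Subgroup.centralizer ((P : Subgroup G) : Set G)) * (n * e) = p * m ∧
      Nat.card (Subgroup.normalizer ((P : Subgroup G) : Set G)) =
        Nat.card (Subgroup.centralizer ((P : Subgroup G) : Set G)) * e ∧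
      (n, e) ∈ exc := by
  obtain ⟨M, P, n, e, S, hM, hP, h1, h2, h3, h4, h5, h6, h7, h8, h9⟩ := exists_data hodd hN hpm hm
  refine ⟨M, P, n, e, S, hM, hP, h6, h9, ?_⟩
  rw [degCheck, List.all_eq_true] at hcheck
  have := hcheck (n, e) (mem_pairs hpf.out.two_le (by omega) h1 h2 h3 h4 h5 h7)
  simp only [Bool.or_eq_true, Bool.not_eq_true', List.contains_iff_mem] at this
  exact this.resolve_right (by rw [h8]; simp)

/-- No simple group has order `p m` if the degree search fails throughout. -/
theorem false_of_degCheck [IsSimpleGroup G] {p m : ℕ} [hpf : Fact p.Prime] (hodd : p ≠ 2)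
    (hN : Nat.card G = p * m) (hpm : ¬ p ∣ m) (hm : 1 < m) (hcheck : degCheck p m [] = true) :
    False := by
  obtain ⟨M, P, n, e, S, -, -, -, -, h⟩ := mem_exceptions hodd hN hpm hm hcheck
  simp at h

end CfsgLib.SmallOrders
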