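import Cfsg.Agent.S4441
import Cfsg.Agent.Lib.SmallOrder
import Cfsg.Agent.Lib.Blocks.Principal
import Cfsg.Agent.Lib.Blocks.ThreePrimes
import Cfsg.Agent.Lib.Blocks.DefectZeroProducts
import Cfsg.Agent.Lib.CharTheory.DetOrbit
import Cfsg.Agent.Lib.CharTheory.Linear

/-!
# Degrees in the principal block of a simple group with a Sylow subgroup of prime order
-/

namespace CfsgLib.SmallOrders

open Cfsg CfsgLib.CharTheory CfsgLib.Blocks
open scoped ComplexConjugate

set_option autoImplicit false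
set_option linter.unusedVariables false
set_option linter.style.haveILetI false
set_option linter.unusedSectionVars false

universe u

variable {G : Type u} [Group G] [Fintype G]

/-- A homomorphism from a non-abelian simple group into a commutative group is trivial. -/
theorem hom_trivial [IsSimpleGroup G] (hna : ∃ a b : G, a * b ≠ b * a) {A : Type*} [CommGroup A]
    (f : G →* A) (g : G) : f g = 1 := by
  rcases Subgroup.Normal.eq_bot_or_eq_top (inferInstance : f.ker.Normal) with h | h
  · obtain ⟨a, b, hab⟩ := hna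
    exact absurd ((MonoidHom.ker_eq_bot_iff f).1 h
      (by rw [map_mul, map_mul, mul_comm] : f (a * b) = f (b * a))) hab
  · exact MonoidHom.mem_ker.1 (h ▸ Subgroup.mem_top g)

/-- A non-principal character of a non-abelian simple group is not linear. -/
theorem two_le_charDegree [IsSimpleGroup G] (hna : ∃ a b : G, a * b ≠ b * a) {χ : IrrCharacter G}
    (hχ : χ ≠ oneIrr G) : 2 ≤ charDegree (χ : G → ℂ) := by
  by_contra h
  have h1 : charDegree (χ : G → ℂ) = 1 := by have := irr_charDegree_pos χ; omega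
  obtain ⟨f, hf⟩ := exists_hom_of_degree_one (isCharacter_of_irr χ.2)
    (by rw [← irr_charDegree_cast χ, h1, Nat.cast_one])
  refine hχ (Subtype.ext ?_)
  rw [hf]
  funext g
  show (f g : ℂ) = 1
  rw [hom_trivial hna f g, Units.val_one]

/-- The faithful non-principal characters of a simple group. -/
theorem eq_one_of_apply_eq_apply_one [IsSimpleGroup G] {χ : IrrCharacter G} (hχ : χ ≠ oneIrr G)
    {y : G} (h : (χ : G → ℂ) y = (χ : G → ℂ) 1) : y = 1 := by
  by_contra hy
  have hc := isCharacter_of_irr χ.2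
  rcases Subgroup.Normal.eq_bot_or_eq_top (inferInstance : (charKernel _ hc).Normal) with e | e
  · exact hy (Subgroup.mem_bot.1 (e ▸ (mem_charKernel hc y).2 h))
  · refine hχ (Subtype.ext ?_)
    exact irr_eq_one_of_kernel_top χ.2 fun g => (mem_charKernel hc g).1 (e ▸ Subgroup.mem_top g)

/-- An integer prime to the prime `p` dividing `p m` divides `m`. -/
theorem dvd_of_dvd_mul_prime {p m d : ℕ} (hp : p.Prime) (h : d ∣ p * m) (hd : ¬ p ∣ d) : d ∣ m :=
  ((hp.coprime_iff_not_dvd.2 hd).symm).dvd_of_dvd_mul_left h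

/-- The signed shape of the principal block, the principal character singled out. -/
structure Shape (p : ℕ) (M : Ideal AlgInt) (P : Subgroup G) (e : ℕ) where
  /-- The non-exceptional characters. -/
  X : Finset (IrrCharacter G)
  /-- The exceptional characters. -/
  Y : Finset (IrrCharacter G)
  /-- The signs. -/
  δ : IrrCharacter G → ℤ
  /-- The sign of the exceptional characters. -/
  ε : ℤ
  block : ∀ χ, χ ∈ principalBlock M G ↔ χ = oneIrr G ∨ χ ∈ X ∨ χ ∈ Y
  one_notX : oneIrr G ∉ X
  one_notY : oneIrr G ∉ Y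
  disj : Disjoint X Y
  cardX : X.card = e - 1
  cardY : Y.card = (p - 1) / e
  cardY_pos : 0 < (p - 1) / e
  sign : ∀ χ ∈ X, δ χ = 1 ∨ δ χ = -1
  degX : ∀ χ ∈ X, (p : ℤ) ∣ δ χ * charDegree (χ : G → ℂ) - 1
  valX : ∀ χ ∈ X, ∀ x ∈ P, x ≠ 1 → ∀ y ∈ Subgroup.centralizer (P : Set G), ¬ p ∣ orderOf y →
    (χ : G → ℂ) (x * y) = (δ χ : ℂ)
  signY : ε = 1 ∨ ε = -1
  degY : ∀ ψ ∈ Y, (p : ℤ) ∣ ε * charDegree (ψ : G → ℂ) - e
  relY : ∀ ψ ∈ Y, ∀ g : G, ¬ p ∣ orderOf g →
    (ε : ℂ) * (ψ : G → ℂ) g = 1 + ∑ χ ∈ X, (δ χ : ℂ) * (χ : G → ℂ) g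
  sumY : ∀ x ∈ P, x ≠ 1 → ∑ ψ ∈ Y, (ψ : G → ℂ) x = -(ε : ℂ)

theorem dvd_of_eq_neg {a b c : ℤ} (h : a ∣ b) (e : c = -b) : a ∣ c := e ▸ Int.dvd_neg.2 h

theorem dvd_of_eq_int {a b c : ℤ} (h : a ∣ b) (e : c = b) : a ∣ c := e ▸ h

/-- The index of the centraliser in the normaliser of a subgroup of order `p` divides `p - 1`. -/
theorem relIndex_dvd {p : ℕ} [Fact p.Prime] (P : Subgroup G) (hP : Nat.card P = p) :
    (Subgroup.centralizer (P : Set G)).relIndex (Subgroup.normalizer (P : Set G)) ∣ p - 1 := by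
  haveI : IsCyclic P := isCyclic_of_prime_card hP
  have key := Subgroup.card_dvd_of_injective _ (QuotientGroup.kerLift_injective P.normalizerMonoidHom)
  rwa [Subgroup.normalizerMonoidHom_ker, ← Subgroup.index, ← Subgroup.relIndex,
    (inferInstance : IsCyclic P).card_mulAut, hP, Nat.totient_prime Fact.out] at key

/-- The shape exists. -/
theorem exists_shape {p : ℕ} [Fact p.Prime] {M : Ideal AlgInt} (hM : IsPModular p M) (hodd : p ≠ 2)
    (P : Sylow p G) (hP : Nat.card P = p) {e : ℕ}
    (he : (Subgroup.centralizer ((P : Subgroup G) : Set G)).relIndex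
      (Subgroup.normalizer ((P : Subgroup G) : Set G)) = e) (he2 : 2 ≤ e) :
    Nonempty (Shape p M (P : Subgroup G) e) := by
  classical
  have hp : p.Prime := Fact.out
  have hp3 : 3 ≤ p := by have := hp.two_le; omega
  obtain ⟨X, Y, hB, hdisj, hX, hY, εX, ε, hεX, hε, hdY, hagree, hrel⟩ :=
    Cfsg.Agent.S4441.result p M hM hodd P hP e he
  have hed : e ∣ p - 1 := he ▸ relIndex_dvd (P : Subgroup G) hP
  have hele : e ≤ p - 1 := Nat.le_of_dvd (by omega) hed
  have ht : 0 < (p - 1) / e := Nat.div_pos hele (by omega)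
  have hmem : ∀ χ, χ ∈ principalBlock M G ↔ χ ∈ X ∨ χ ∈ Y := fun χ => by rw [hB, Set.mem_union]
  have hcX : X.toFinset.card = e := by rw [← Nat.card_eq_card_toFinset, hX]
  have hcY : Y.toFinset.card = (p - 1) / e := by rw [← Nat.card_eq_card_toFinset, hY]
  have hrel' : ∀ θ ∈ Y, ∀ g : G, ¬ p ∣ orderOf g →
      (ε : ℂ) * (θ : G → ℂ) g = ∑ χ ∈ X.toFinset, (εX χ : ℂ) * (χ : G → ℂ) g := fun θ hθ g hg => by
    rw [hrel θ hθ g hg, finsum_mem_eq_toFinset_sum]
  have hreg1 : ¬ p ∣ orderOf (1 : G) := by rw [orderOf_one]; exact hp.not_dvd_one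
  have hone : ∀ g : G, ((oneIrr G : IrrCharacter G) : G → ℂ) g = 1 := fun g => rfl
  have hd1 : charDegree ((oneIrr G : IrrCharacter G) : G → ℂ) = 1 := by
    have := irr_charDegree_cast (oneIrr G)
    rw [hone 1] at this
    exact_mod_cast this
  rcases (hmem _).1 (oneIrr_mem (G := G) hM) with h1 | h1
  · -- the principal character is not exceptional
    have hε1 : εX (oneIrr G) = 1 := by
      rcases (hεX _ h1).1 with h | h
      · exact h
      · have h2 := (hεX _ h1).2.1
        rw [hd1, h, Int.modEq_iff_dvd] at h2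
        have := Int.le_of_dvd (by norm_num) (dvd_neg.2 h2)
        push_cast at this; omega
    refine ⟨{
      X := X.toFinset.erase (oneIrr G), Y := Y.toFinset, δ := εX, ε := ε
      block := fun χ => by
        rw [hmem, Finset.mem_erase, Set.mem_toFinset, Set.mem_toFinset]
        constructor
        · rintro (h | h)
          · by_cases hc : χ = oneIrr G
            · exact Or.inl hc
            · exact Or.inr (Or.inl ⟨hc, h⟩)
          · exact Or.inr (Or.inr h)
        · rintro (rfl | ⟨-, h⟩ | h)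
          exacts [Or.inl h1, Or.inl h, Or.inr h]
      one_notX := by simp
      one_notY := by
        rw [Set.mem_toFinset]; exact Set.disjoint_left.1 hdisj h1
      disj := Disjoint.mono_left (Finset.erase_subset _ _) (Set.disjoint_toFinset.2 hdisj)
      cardX := by rw [Finset.card_erase_of_mem (Set.mem_toFinset.2 h1), hcX]
      cardY := hcY
      cardY_pos := ht
      sign := fun χ hχ => (hεX χ (Set.mem_toFinset.1 (Finset.mem_of_mem_erase hχ))).1
      degX := fun χ hχ => by
        obtain ⟨hs, hd, -⟩ := hεX χ (Set.mem_toFinset.1 (Finset.mem_of_mem_erase hχ))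
        rw [Int.modEq_iff_dvd] at hd
        rcases hs with h | h <;> rw [h] at hd ⊢
        · simpa using dvd_neg.2 hd
        · exact dvd_of_eq_int hd (by ring)
      valX := fun χ hχ x hx hx1 y hy hyr =>
        (hεX χ (Set.mem_toFinset.1 (Finset.mem_of_mem_erase hχ))).2.2 x hx hx1 y hy hyr
      signY := hε
      degY := fun ψ hψ => by
        have hd := hdY ψ (Set.mem_toFinset.1 hψ)
        rw [Int.modEq_iff_dvd] at hd
        rcases hε with h | h <;> rw [h] at hd ⊢
        · exact dvd_of_eq_neg hd (by ring)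
        · exact dvd_of_eq_int hd (by ring)
      relY := fun ψ hψ g hg => by
        rw [hrel' ψ (Set.mem_toFinset.1 hψ) g hg,
          ← Finset.add_sum_erase _ _ (Set.mem_toFinset.2 h1), hε1, hone g, Int.cast_one, one_mul]
      sumY := fun x hx hx1 => ?_ }⟩
    have hpx : p ∣ orderOf x := by
      rw [orderOf_eq_prime (p := p) ?_ hx1]
      have := pow_card_eq_one' (x := (⟨x, hx⟩ : (P : Subgroup G)))
      rw [hP] at this
      exact congrArg Subtype.val this
    have h0 := weak_orth hM (principalBlock_isPBlock (M := M) (G := G)) (x := (1 : G)) hreg1 hpx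
    have hbs : bset (principalBlock M G) = X.toFinset ∪ Y.toFinset := by
      ext χ; rw [mem_bset, hmem, Finset.mem_union, Set.mem_toFinset, Set.mem_toFinset]
    rw [hbs, Finset.sum_union (Set.disjoint_toFinset.2 hdisj)] at h0
    have hXv : ∑ χ ∈ X.toFinset, (χ : G → ℂ) 1 * (χ : G → ℂ) x =
        ∑ χ ∈ X.toFinset, (εX χ : ℂ) * (χ : G → ℂ) 1 := by
      refine Finset.sum_congr rfl fun χ hχ => ?_
      have := (hεX χ (Set.mem_toFinset.1 hχ)).2.2 x hx hx1 1 (one_mem _) hreg1
      rw [mul_one] at this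
      rw [this, mul_comm]
    obtain ⟨θ, hθ⟩ : Y.toFinset.Nonempty := Finset.card_pos.1 (hcY ▸ ht)
    have hθY := Set.mem_toFinset.1 hθ
    rw [hXv, ← hrel' θ hθY 1 hreg1, Finset.sum_congr rfl fun ψ hψ => by
      rw [hagree ψ (Set.mem_toFinset.1 hψ) θ hθY 1 hreg1], ← Finset.mul_sum] at h0
    refine mul_left_cancel₀ (irr_one_ne_zero θ) ?_
    linear_combination h0
  · -- the principal character is exceptional: the block is symmetrical
    have hd := hdY _ h1
    rw [hd1, Int.modEq_iff_dvd] at hd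
    have hεm : ε = -1 := by
      rcases hε with h | h
      · rw [h] at hd
        have := Int.le_of_dvd (by omega) (by simpa using hd : (p : ℤ) ∣ (e : ℤ) - 1)
        omega
      · exact h
    have hep : e = p - 1 := by
      rw [hεm] at hd
      have h2 : (p : ℤ) ∣ (e : ℤ) + 1 := by
        exact dvd_of_eq_neg hd (by push_cast; ring)
      have := Int.le_of_dvd (by omega) h2
      omega
    have ht1 : (p - 1) / e = 1 := by rw [← hep]; exact Nat.div_self (by omega)
    have hY1 : Y.toFinset = {oneIrr G} :=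
      (Finset.eq_of_subset_of_card_le (Finset.singleton_subset_iff.2 (Set.mem_toFinset.2 h1))
        (by rw [hcY, ht1, Finset.card_singleton])).symm
    obtain ⟨θ, hθ⟩ : X.toFinset.Nonempty := Finset.card_pos.1 (by omega)
    have hθX := Set.mem_toFinset.1 hθ
    have hnX : oneIrr G ∉ X := fun h => Set.disjoint_left.1 hdisj h h1
    refine ⟨{
      X := X.toFinset.erase θ, Y := {θ}, δ := εX, ε := -εX θ
      block := fun χ => by
        rw [hmem, Finset.mem_erase, Finset.mem_singleton, Set.mem_toFinset]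
        constructor
        · rintro (h | h)
          · by_cases hc : χ = θ
            · exact Or.inr (Or.inr hc)
            · exact Or.inr (Or.inl ⟨hc, h⟩)
          · refine Or.inl ?_
            have := Set.mem_toFinset.2 h
            rwa [hY1, Finset.mem_singleton] at this
        · rintro (rfl | ⟨-, h⟩ | rfl)
          exacts [Or.inr h1, Or.inl h, Or.inl hθX]
      one_notX := fun h => hnX (Set.mem_toFinset.1 (Finset.mem_of_mem_erase h))
      one_notY := fun h => hnX (by rw [Finset.mem_singleton.1 h]; exact hθX)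
      disj := Finset.disjoint_singleton_right.2 (Finset.notMem_erase _ _)
      cardX := by rw [Finset.card_erase_of_mem hθ, hcX]
      cardY := by rw [Finset.card_singleton, ht1]
      cardY_pos := ht
      sign := fun χ hχ => (hεX χ (Set.mem_toFinset.1 (Finset.mem_of_mem_erase hχ))).1
      degX := fun χ hχ => by
        obtain ⟨hs, hd, -⟩ := hεX χ (Set.mem_toFinset.1 (Finset.mem_of_mem_erase hχ))
        rw [Int.modEq_iff_dvd] at hd
        rcases hs with h | h <;> rw [h] at hd ⊢
        · simpa using dvd_neg.2 hd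
        · exact dvd_of_eq_int hd (by ring)
      valX := fun χ hχ x hx hx1 y hy hyr =>
        (hεX χ (Set.mem_toFinset.1 (Finset.mem_of_mem_erase hχ))).2.2 x hx hx1 y hy hyr
      signY := by rcases (hεX θ hθX).1 with h | h <;> simp [h]
      degY := fun ψ hψ => by
        rw [Finset.mem_singleton.1 hψ]
        obtain ⟨hs, hd, -⟩ := hεX θ hθX
        rw [Int.modEq_iff_dvd] at hd
        have hee : (e : ℤ) = (p : ℤ) - 1 := by omega
        rw [hee]
        rcases hs with h | h <;> rw [h] at hd ⊢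
        · exact dvd_of_eq_int (dvd_sub hd (dvd_refl (p : ℤ))) (by ring)
        · exact dvd_of_eq_int (dvd_sub (dvd_neg.2 hd) (dvd_refl (p : ℤ))) (by ring)
      relY := fun ψ hψ g hg => by
        rw [Finset.mem_singleton.1 hψ]
        have h := hrel' _ h1 g hg
        rw [← Finset.add_sum_erase _ _ hθ, hone g, hεm, Int.cast_neg, Int.cast_one] at h
        rw [Int.cast_neg]
        linear_combination h
      sumY := fun x hx hx1 => by
        rw [Finset.sum_singleton]
        have := (hεX θ hθX).2.2 x hx hx1 1 (one_mem _) hreg1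
        rw [mul_one] at this
        rw [this, Int.cast_neg, neg_neg] }⟩

namespace Shape

variable {p : ℕ} {M : Ideal AlgInt} {P : Subgroup G} {e : ℕ}

/-- The degrees satisfy the relation at the identity. -/
theorem degree_relation (S : Shape p M P e) (hp : p.Prime) {ψ : IrrCharacter G} (hψ : ψ ∈ S.Y) :
    S.ε * charDegree (ψ : G → ℂ) = 1 + ∑ χ ∈ S.X, S.δ χ * charDegree (χ : G → ℂ) := by
  have h := S.relY ψ hψ 1 (by rw [orderOf_one]; exact hp.not_dvd_one)
  simp only [← irr_charDegree_cast] at h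
  exact_mod_cast h

/-- Exceptional characters have one degree. -/
theorem charDegree_eq (S : Shape p M P e) (hp : p.Prime) {ψ θ : IrrCharacter G} (hψ : ψ ∈ S.Y)
    (hθ : θ ∈ S.Y) : charDegree (ψ : G → ℂ) = charDegree (θ : G → ℂ) := by
  have h := (S.degree_relation hp hψ).trans (S.degree_relation hp hθ).symm
  rcases S.signY with e1 | e1 <;> rw [e1] at h <;> omega

/-- A bound on the sum of squares of values. -/
theorem sum_normSq_le (S : Shape p M P e) (g : G) :
    1 + ∑ χ ∈ S.X, Complex.normSq ((χ : G → ℂ) g) + ∑ ψ ∈ S.Y, Complex.normSq ((ψ : G → ℂ) g) ≤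
      (Nat.card (Subgroup.centralizer ({g} : Set G)) : ℝ) := by
  classical
  have h := sum_irr_mul_conj g g
  rw [if_pos (IsConj.refl g)] at h
  simp only [Complex.mul_conj] at h
  have h' : ∑ χ : IrrCharacter G, Complex.normSq ((χ : G → ℂ) g) =
      (Nat.card (Subgroup.centralizer ({g} : Set G)) : ℝ) := by exact_mod_cast h
  rw [← h']
  refine le_trans (le_of_eq ?_) (Finset.sum_le_sum_of_subset_of_nonneg
    (Finset.subset_univ (insert (oneIrr G) (S.X ∪ S.Y))) fun χ _ _ => Complex.normSq_nonneg _)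
  rw [Finset.sum_insert (by simp [S.one_notX, S.one_notY]), Finset.sum_union S.disj,
    show ((oneIrr G : IrrCharacter G) : G → ℂ) g = 1 from rfl, Complex.normSq_one]
  ring

theorem sum_sq_degree_le (S : Shape p M P e) :
    1 + ∑ χ ∈ S.X, charDegree (χ : G → ℂ) ^ 2 + ∑ ψ ∈ S.Y, charDegree (ψ : G → ℂ) ^ 2 ≤
      Nat.card G := by
  have h := S.sum_normSq_le 1
  have hc : ∀ χ : IrrCharacter G, Complex.normSq ((χ : G → ℂ) 1) =
      ((charDegree (χ : G → ℂ) ^ 2 : ℕ) : ℝ) := fun χ => by
    rw [← irr_charDegree_cast, Complex.normSq_natCast]; push_cast; ring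
  simp only [hc] at h
  rw [show Subgroup.centralizer ({1} : Set G) = ⊤ from eq_top_iff.2 fun x _ => by
    simp [Subgroup.mem_centralizer_singleton_iff], Subgroup.card_top] at h
  exact_mod_cast h

end Shape

section Bound

variable [IsSimpleGroup G] {p : ℕ} [hpf : Fact p.Prime] {M : Ideal AlgInt} {P : Subgroup G} {e : ℕ}
  {y : G}

/-- The characters of a cyclic group are linear. -/
theorem exists_hom_zpowers (ν : IrrCharacter (Subgroup.zpowers y)) :
    ∃ f : Subgroup.zpowers y →* ℂˣ, (ν : Subgroup.zpowers y → ℂ) = fun q => (f q : ℂ) :=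
  exists_hom_of_degree_one (isCharacter_of_irr ν.2)
    (degree_one_of_commutative (fun a b => mul_comm' a b) ν.2)

/-- The multiplicity of a non-trivial eigenvalue of `y` is a multiple of `p`. -/
theorem mult_dvd (hP : Nat.card P = p) (hy : y ∈ Subgroup.centralizer (P : Set G))
    (hyp : ¬ p ∣ orderOf y) {χ : IrrCharacter G} {δ : ℂ}
    (hval : ∀ x ∈ P, x ≠ 1 → ∀ z ∈ Subgroup.centralizer (P : Set G), ¬ p ∣ orderOf z →
      (χ : G → ℂ) (x * z) = δ)
    [Fintype (Subgroup.zpowers y)] (ν : IrrCharacter (Subgroup.zpowers y))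
    (hν : (ν : Subgroup.zpowers y → ℂ) ≠ fun _ => 1) :
    ∃ n : ℕ, classInner (fun q : Subgroup.zpowers y => (χ : G → ℂ) q)
      (ν : Subgroup.zpowers y → ℂ) = (p * n : ℕ) := by
  classical
  haveI : Fintype P := Fintype.ofFinite _
  have hcomm : ∀ (a : P) (b : (Subgroup.zpowers y)), Commute (P.subtype a) ((Subgroup.zpowers y).subtype b) := fun a b => by
    have hb : (b : G) ∈ Subgroup.centralizer (P : Set G) :=
      Subgroup.zpowers_le.2 hy b.2
    exact Subgroup.mem_centralizer_iff.1 hb a a.2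
  let f : P × (Subgroup.zpowers y) →* G := MonoidHom.noncommCoprod P.subtype (Subgroup.zpowers y).subtype hcomm
  have hχf := isCharacter_comp (isCharacter_of_irr χ.2) f
  have hνf := isCharacter_comp (isCharacter_of_irr ν.2) (MonoidHom.snd P (Subgroup.zpowers y))
  obtain ⟨n, hn⟩ := classInner_char_nat hχf hνf
  refine ⟨n, ?_⟩
  have h0 : ∑ q : (Subgroup.zpowers y), conj ((ν : (Subgroup.zpowers y) → ℂ) q) = 0 := by
    have h := classInner_irr_ne isIrrCharacter_one ν.2 (Ne.symm hν)
    rw [classInner, mul_eq_zero] at h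
    simpa using h.resolve_left (inv_ne_zero (Nat.cast_ne_zero.2 Nat.card_pos.ne'))
  have hs : ∀ q : (Subgroup.zpowers y), ∑ a : P, (χ : G → ℂ) ((a : G) * q) =
      (χ : G → ℂ) q + ((p : ℂ) - 1) * δ := by
    intro q
    rw [← Finset.add_sum_erase _ _ (Finset.mem_univ (1 : P)), Subgroup.coe_one, one_mul,
      Finset.sum_congr rfl fun (a : P) ha => hval a a.2
        (fun h => (Finset.mem_erase.1 ha).1 (Subtype.ext h)) q (Subgroup.zpowers_le.2 hy q.2)
        (fun h => hyp (h.trans (orderOf_dvd_of_mem_zpowers q.2))),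
      Finset.sum_const, Finset.card_erase_of_mem (Finset.mem_univ _), Finset.card_univ,
      ← Nat.card_eq_fintype_card, hP, nsmul_eq_mul, Nat.cast_sub hpf.out.one_le, Nat.cast_one]
  have : ∀ q : Subgroup.zpowers y, ∑ a : P, (χ : G → ℂ) (f (a, q)) *
        conj ((ν : Subgroup.zpowers y → ℂ) (MonoidHom.snd P (Subgroup.zpowers y) (a, q))) =
      (χ : G → ℂ) q * conj ((ν : Subgroup.zpowers y → ℂ) q) +
        ((p : ℂ) - 1) * δ * conj ((ν : Subgroup.zpowers y → ℂ) q) := fun q => by
    simp only [f, MonoidHom.noncommCoprod_apply, Subgroup.coe_subtype, MonoidHom.coe_snd,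
      ← Finset.sum_mul, hs, add_mul]
  rw [Nat.cast_mul, ← hn, classInner, classInner, Fintype.sum_prod_type_right,
    Finset.sum_congr rfl fun q _ => this q, Finset.sum_add_distrib, ← Finset.mul_sum, h0,
    mul_zero, add_zero, Nat.card_prod, hP, Nat.cast_mul]
  field_simp [hpf.out.ne_zero]

/-- If every non-trivial eigenvalue of `y ≠ 1` has multiplicity divisible by `p`, the degree is at
least `2p`. -/
theorem two_p_le_of_mult (hna : ∃ a b : G, a * b ≠ b * a) {χ : IrrCharacter G} (hχ : χ ≠ oneIrr G)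
    (hy1 : y ≠ 1) (hyp : ¬ p ∣ orderOf y) [Fintype (Subgroup.zpowers y)]
    (hmult : ∀ ν : IrrCharacter (Subgroup.zpowers y),
      (ν : Subgroup.zpowers y → ℂ) ≠ (fun _ => 1) →
      ∃ z : ℤ, classInner (fun q : Subgroup.zpowers y => (χ : G → ℂ) q)
        (ν : Subgroup.zpowers y → ℂ) = ((p : ℤ) * z : ℤ)) :
    2 * p ≤ charDegree (χ : G → ℂ) := by
  classical
  set r : (Subgroup.zpowers y) → ℂ := fun q => (χ : G → ℂ) q
  have hrc : IsCharacter (Subgroup.zpowers y) r := isCharacter_restrict (isCharacter_of_irr χ.2) (Subgroup.zpowers y)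
  choose m hm using fun ν : IrrCharacter (Subgroup.zpowers y) => classInner_char_nat hrc (isCharacter_of_irr ν.2)
  have hdec : r = ∑ ν : IrrCharacter (Subgroup.zpowers y), (m ν : ℂ) • (ν : (Subgroup.zpowers y) → ℂ) := by
    conv_lhs => rw [eq_sum_irr (isClassFunction_char hrc)]
    exact Finset.sum_congr rfl fun ν _ => by rw [hm]
  have hν1 : ∀ ν : IrrCharacter (Subgroup.zpowers y), (ν : (Subgroup.zpowers y) → ℂ) 1 = 1 := fun ν =>
    degree_one_of_commutative (fun a b => mul_comm' a b) ν.2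
  have hsum : ∑ ν : IrrCharacter (Subgroup.zpowers y), m ν = charDegree (χ : G → ℂ) := by
    have h := congrFun hdec 1
    simp only [Finset.sum_apply, Pi.smul_apply, smul_eq_mul, hν1, mul_one] at h
    have h' : (χ : G → ℂ) 1 = ∑ ν : IrrCharacter (Subgroup.zpowers y), (m ν : ℂ) := by simpa [r] using h
    rw [← irr_charDegree_cast] at h'
    exact_mod_cast h'.symm
  by_contra hlt
  have hdvd : ∀ ν : IrrCharacter (Subgroup.zpowers y), (ν : (Subgroup.zpowers y) → ℂ) ≠ (fun _ => 1) → p ∣ m ν := fun ν hν => by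
    obtain ⟨z, hz⟩ := hmult ν hν
    rw [hm] at hz
    have : ((m ν : ℤ)) = (p : ℤ) * z := by exact_mod_cast hz
    exact Int.natCast_dvd_natCast.1 ⟨z, this⟩
  by_cases hall : ∀ ν : IrrCharacter (Subgroup.zpowers y), (ν : (Subgroup.zpowers y) → ℂ) ≠ (fun _ => 1) → m ν = 0
  · refine hy1 (eq_one_of_apply_eq_apply_one hχ ?_)
    have h1 := congrFun hdec ⟨y, Subgroup.mem_zpowers y⟩
    have h2 := congrFun hdec 1
    simp only [Finset.sum_apply, Pi.smul_apply, smul_eq_mul, r, Subgroup.coe_one] at h1 h2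
    rw [h1, h2]
    refine Finset.sum_congr rfl fun ν _ => ?_
    by_cases hν : (ν : (Subgroup.zpowers y) → ℂ) = fun _ => 1
    · rw [hν]
    · rw [hall ν hν]; simp
  obtain ⟨ν₀, hν₀, hm₀⟩ : ∃ ν₀ : IrrCharacter (Subgroup.zpowers y), (ν₀ : (Subgroup.zpowers y) → ℂ) ≠ (fun _ => 1) ∧ m ν₀ ≠ 0 := by
    simpa using hall
  have hp₀ : p ≤ m ν₀ := Nat.le_of_dvd (Nat.pos_of_ne_zero hm₀) (hdvd _ hν₀)
  have hrest : ∀ ν : IrrCharacter (Subgroup.zpowers y), ν ≠ ν₀ → (ν : (Subgroup.zpowers y) → ℂ) ≠ (fun _ => 1) → m ν = 0 := by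
    intro ν hne hν
    by_contra h0
    have hp1 : p ≤ m ν := Nat.le_of_dvd (Nat.pos_of_ne_zero h0) (hdvd _ hν)
    have : m ν + m ν₀ ≤ ∑ μ : IrrCharacter (Subgroup.zpowers y), m μ :=
      (Finset.sum_pair hne).symm.trans_le (Finset.sum_le_univ_sum_of_nonneg fun _ => Nat.zero_le _)
    omega
  have hm0p : m ν₀ = p := by
    have hle : m ν₀ ≤ ∑ μ : IrrCharacter (Subgroup.zpowers y), m μ :=
      Finset.single_le_sum (fun _ _ => Nat.zero_le _) (Finset.mem_univ ν₀)
    obtain ⟨k, hk⟩ := hdvd _ hν₀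
    rw [hk] at hle ⊢
    have : k = 1 := by
      rcases k with _ | _ | k
      · exact absurd (by simpa using hk) hm₀
      · rfl
      · exfalso; nlinarith
    rw [this, mul_one]
  have hdet : detChar r = fun _ => 1 := by
    have hc := detChar_comp (isCharacter_of_irr χ.2) (Subgroup.zpowers y).subtype
    obtain ⟨D, hD⟩ := exists_detHom (isCharacter_of_irr χ.2)
    rw [show r = fun q => (χ : G → ℂ) ((Subgroup.zpowers y).subtype q) from rfl, hc, hD]
    funext q
    show (D (q : G) : ℂ) = 1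
    rw [hom_trivial hna D, Units.val_one]
  obtain ⟨f, hf⟩ := exists_hom_zpowers ν₀
  have hpow : ∀ q : (Subgroup.zpowers y), (f q : ℂ) ^ p = 1 := by
    intro q
    rw [hdec, detChar_sum _ _ fun ν _ => isCharacter_nsmul (isCharacter_of_irr ν.2) _] at hdet
    have h := congrFun hdet q
    rw [Finset.prod_apply, Finset.prod_eq_single ν₀] at h
    · rw [detChar_nsmul (isCharacter_of_irr ν₀.2), hf, detChar_linear, Pi.pow_apply, hm0p] at h
      exact h
    · intro ν _ hne
      rw [detChar_nsmul (isCharacter_of_irr ν.2)]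
      by_cases hν : (ν : (Subgroup.zpowers y) → ℂ) = fun _ => 1
      · have := detChar_linear (1 : (Subgroup.zpowers y) →* ℂˣ)
        simp only [MonoidHom.one_apply, Units.val_one] at this
        rw [hν, this]; simp
      · rw [hrest ν hne hν]; simp
    · simp
  refine hν₀ ?_
  rw [hf]
  funext q
  have h1 : (f q) ^ p = 1 := Units.ext (by simpa using hpow q)
  have h2 : (f q) ^ orderOf y = 1 := by
    rw [← map_pow, show q ^ orderOf y = 1 from Subtype.ext (by
      rw [Subgroup.coe_pow, Subgroup.coe_one]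
      exact orderOf_dvd_iff_pow_eq_one.1 (orderOf_dvd_of_mem_zpowers q.2)), map_one]
  have h3 : (f q) ^ Nat.gcd p (orderOf y) = 1 := pow_gcd_eq_one.2 ⟨h1, h2⟩
  rw [Nat.Coprime.gcd_eq_one ((hpf.out.coprime_iff_not_dvd).2 hyp), pow_one] at h3
  show (f q : ℂ) = 1
  rw [h3, Units.val_one]

/-- If a `p`-regular element `y ≠ 1` centralises `P`, all degrees in the principal block but the
first are at least `2p`. -/
theorem Shape.two_p_le (hna : ∃ a b : G, a * b ≠ b * a) (hP : Nat.card P = p)
    (hy : y ∈ Subgroup.centralizer (P : Set G)) (hy1 : y ≠ 1) (hyp : ¬ p ∣ orderOf y)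
    (S : Shape p M P e) {χ : IrrCharacter G} (hχ : χ ∈ S.X ∨ χ ∈ S.Y) :
    2 * p ≤ charDegree (χ : G → ℂ) := by
  classical
  haveI : Fintype (Subgroup.zpowers y) := Fintype.ofFinite _
  rcases hχ with hχ | hχ
  · refine two_p_le_of_mult hna (fun h => S.one_notX (h ▸ hχ)) hy1 hyp fun ν hν => ?_
    obtain ⟨n, hn⟩ := mult_dvd hP hy hyp (S.valX χ hχ) ν hν
    exact ⟨n, by rw [hn]; push_cast; rfl⟩
  · refine two_p_le_of_mult hna (fun h => S.one_notY (h ▸ hχ)) hy1 hyp fun ν hν => ?_
    have hX : ∀ φ : {φ // φ ∈ S.X}, ∃ n : ℕ, classInner (fun q : Subgroup.zpowers y =>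
        ((φ : IrrCharacter G) : G → ℂ) q) (ν : Subgroup.zpowers y → ℂ) = (p * n : ℕ) :=
      fun φ => mult_dvd hP hy hyp (S.valX φ φ.2) ν hν
    choose n hn using hX
    refine ⟨S.ε * ∑ φ ∈ S.X.attach, S.δ φ.1 * (n φ : ℤ), ?_⟩
    have hfun : (fun q : Subgroup.zpowers y => (χ : G → ℂ) q) = (S.ε : ℂ) • ((fun _ => 1) +
        ∑ φ ∈ S.X.attach, (S.δ φ.1 : ℂ) • fun q : Subgroup.zpowers y => (φ.1 : G → ℂ) q) := by
      funext q
      have h := S.relY χ hχ q fun h => hyp (h.trans (orderOf_dvd_of_mem_zpowers q.2))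
      simp only [Pi.smul_apply, Pi.add_apply, Finset.sum_apply, smul_eq_mul]
      rw [Finset.sum_attach S.X (fun φ => (S.δ φ : ℂ) * (φ : G → ℂ) q), ← h, ← mul_assoc,
        ← Int.cast_mul]
      rcases S.signY with e1 | e1 <;> simp [e1]
    rw [hfun, classInner_smul_left, classInner_add_left,
      classInner_irr_ne isIrrCharacter_one ν.2 (Ne.symm hν), zero_add, classInner_sum_left]
    simp only [classInner_smul_left, hn]
    push_cast
    simp only [Finset.mul_sum]
    exact Finset.sum_congr rfl fun φ _ => by ring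

end Bound

/-- Signed divisors of `m` of absolute value at least `k`, congruent to `r` mod `p`, with square at
most `N`. -/
def cands (p m N k : ℕ) (r : ℤ) : List ℤ :=
  List.flatMap (fun d : ℕ => [(d : ℤ), -(d : ℤ)].filter fun a => decide ((a - r) % (p : ℤ) = 0))
    ((List.range (m + 1)).filter fun d : ℕ => m % d == 0 && decide (k ≤ d) && decide (d * d ≤ N))

theorem mem_cands {p m N k : ℕ} {r a : ℤ} (hm : m ≠ 0) (h1 : a.natAbs ∣ m) (h2 : k ≤ a.natAbs)
    (h3 : (p : ℤ) ∣ a - r) (h4 : a.natAbs * a.natAbs ≤ N) : a ∈ cands p m N k r := by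
  rw [cands, List.mem_flatMap]
  refine ⟨a.natAbs, ?_, ?_⟩
  · rw [List.mem_filter, List.mem_range]
    have hle := Nat.le_of_dvd (Nat.pos_of_ne_zero hm) h1
    refine ⟨by omega, ?_⟩
    simp [h2, h4, Nat.dvd_iff_mod_eq_zero.1 h1]
  · rw [List.mem_filter]
    refine ⟨?_, decide_eq_true (Int.emod_eq_zero_of_dvd h3)⟩
    rcases Int.natAbs_eq a with h | h
    · exact List.mem_cons.2 (Or.inl h)
    · exact List.mem_cons.2 (Or.inr (List.mem_cons.2 (Or.inl h)))

/-- Exhaustive search over lists of a given length. -/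
def search {α : Type} (A : List α) (ok : List α → Bool) : ℕ → List α → Bool
  | 0, acc => ok acc
  | n + 1, acc => A.any fun a => search A ok n (a :: acc)

theorem search_complete {α : Type} {A : List α} {ok : List α → Bool} :
    ∀ (l acc : List α), (∀ a ∈ l, a ∈ A) → ok (l.reverse ++ acc) = true →
      search A ok l.length acc = true
  | [], acc, _, h => by simpa [search] using h
  | a :: l, acc, hA, h => by
    simp only [List.length_cons, search, List.any_eq_true]
    refine ⟨a, hA a (List.mem_cons_self ..), search_complete l (a :: acc)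
      (fun b hb => hA b (List.mem_cons_of_mem _ hb)) ?_⟩
    simpa [List.reverse_cons, List.append_assoc] using h

/-- The test on a list of signed degrees. -/
def degOk (p m N k e : ℕ) (l : List ℤ) : Bool :=
  decide ((1 + l.sum).natAbs ∣ m) && decide (k ≤ (1 + l.sum).natAbs) &&
    decide ((1 + l.sum - e) % (p : ℤ) = 0) &&
    decide (1 + (l.map fun a => a.natAbs * a.natAbs).sum +
      (p - 1) / e * ((1 + l.sum).natAbs * (1 + l.sum).natAbs) ≤ N)

/-- The search for signed degrees. -/
def degSearch (p m k e : ℕ) : Bool :=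
  search (cands p m (p * m) k 1) (degOk p m (p * m) k e) (e - 1) []

theorem natAbs_sign_mul {s : ℤ} (h : s = 1 ∨ s = -1) (d : ℕ) : (s * (d : ℤ)).natAbs = d := by
  rcases h with h | h <;> simp [h]

/-- A shape passes the search. -/
theorem Shape.degSearch_eq_true {p : ℕ} [hpf : Fact p.Prime] {M : Ideal AlgInt} {P : Subgroup G}
    {e m k : ℕ} (S : Shape p M P e) (hN : Nat.card G = p * m) (he : e < p) (he0 : 0 < e)
    (hk : ∀ χ : IrrCharacter G, χ ∈ S.X ∨ χ ∈ S.Y → k ≤ charDegree (χ : G → ℂ)) :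
    degSearch p m k e = true := by
  classical
  have hp : p.Prime := hpf.out
  have hm0 : m ≠ 0 := fun h => Nat.card_pos.ne' (by rw [hN, h, mul_zero] : Nat.card G = 0)
  have hdvd : ∀ (χ : IrrCharacter G) (s : ℤ) (r : ℕ), 0 < r → r < p →
      (p : ℤ) ∣ s * charDegree (χ : G → ℂ) - r → charDegree (χ : G → ℂ) ∣ m := by
    intro χ s r hr0 hrp h
    refine dvd_of_dvd_mul_prime hp (hN ▸ charDegree_dvd_card χ) fun hd => ?_
    have : (p : ℤ) ∣ (r : ℤ) := by
      have := dvd_sub (dvd_mul_of_dvd_right (Int.natCast_dvd_natCast.2 hd) s) h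
      simpa using this
    have := Nat.le_of_dvd hr0 (Int.natCast_dvd_natCast.1 this)
    omega
  have hsq := S.sum_sq_degree_le
  set l := S.X.toList.map fun χ : IrrCharacter G => S.δ χ * (charDegree (χ : G → ℂ) : ℤ)
  have hlen : l.length = e - 1 := by simp [l, S.cardX]
  rw [degSearch, ← hlen]
  obtain ⟨ψ, hψ⟩ : S.Y.Nonempty := Finset.card_pos.1 (S.cardY ▸ S.cardY_pos)
  have hls : l.sum = ∑ χ ∈ S.X, S.δ χ * (charDegree (χ : G → ℂ) : ℤ) := Finset.sum_map_toList _ _
  have hb : 1 + l.sum = S.ε * charDegree (ψ : G → ℂ) := by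
    rw [hls, S.degree_relation hp hψ]
  refine search_complete l [] (fun a ha => ?_) ?_
  · obtain ⟨χ, hχ, rfl⟩ := List.mem_map.1 ha
    rw [Finset.mem_toList] at hχ
    have hn := natAbs_sign_mul (S.sign χ hχ) (charDegree (χ : G → ℂ))
    refine mem_cands hm0 ?_ (by rw [hn]; exact hk χ (Or.inl hχ)) (S.degX χ hχ) ?_
    · rw [hn]; exact hdvd χ _ 1 one_pos hp.one_lt (by simpa using S.degX χ hχ)
    · have h1 : charDegree (χ : G → ℂ) ^ 2 ≤ ∑ φ ∈ S.X, charDegree (φ : G → ℂ) ^ 2 :=
        Finset.single_le_sum (f := fun φ : IrrCharacter G => charDegree (φ : G → ℂ) ^ 2)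
          (fun _ _ => Nat.zero_le _) hχ
      rw [hn, ← sq, ← hN]
      omega
  · rw [List.append_nil]
    have hs : l.reverse.sum = l.sum := List.sum_reverse _
    have hn := natAbs_sign_mul S.signY (charDegree (ψ : G → ℂ))
    simp only [degOk, Bool.and_eq_true, decide_eq_true_eq, hs, hb, hn]
    refine ⟨⟨⟨hdvd ψ _ e he0 he (S.degY ψ hψ), hk ψ (Or.inr hψ)⟩,
      Int.emod_eq_zero_of_dvd (S.degY ψ hψ)⟩, ?_⟩
    rw [List.map_reverse, List.sum_reverse, ← hN]
    refine le_trans (le_of_eq ?_) hsq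
    have hX' : (l.map fun a => a.natAbs * a.natAbs).sum =
        ∑ χ ∈ S.X, charDegree (χ : G → ℂ) ^ 2 := by
      simp only [l, List.map_map]
      rw [Finset.sum_map_toList]
      exact Finset.sum_congr rfl fun χ hχ => by
        simp [Function.comp_apply, natAbs_sign_mul (S.sign χ hχ), sq]
    rw [hX', Finset.sum_congr (s₁ := S.Y) rfl fun θ hθ => by rw [S.charDegree_eq hp hθ hψ],
      Finset.sum_const, S.cardY, smul_eq_mul, sq (charDegree (ψ : G → ℂ))]

end CfsgLib.SmallOrders
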