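import Cfsg.Agent.Lib.SmallOrders.OrderData
import Cfsg.Agent.S0499
import Cfsg.Agent.S0144
import Cfsg.Agent.S0985

/-!
# Certificates excluding orders of simple groups
-/

namespace CfsgLib.SmallOrders

open Cfsg
open scoped commutatorElement

set_option autoImplicit false
set_option linter.unusedVariables false
set_option linter.style.haveILetI false
set_option linter.unusedSectionVars false

universe u

/-- Primality below `6400`. -/
def primeBelow (p : ℕ) : Bool :=
  decide (2 ≤ p) && decide (p < 6400) &&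
    (List.range 80).all fun q => decide (q < 2) || decide (p ≤ q) || decide (p % q ≠ 0)

theorem prime_of_primeBelow {p : ℕ} (h : primeBelow p = true) : p.Prime := by
  simp only [primeBelow, Bool.and_eq_true, decide_eq_true_eq, List.all_eq_true, List.mem_range,
    Bool.or_eq_true] at h
  obtain ⟨⟨h2, hlt⟩, hall⟩ := h
  refine Nat.prime_def_le_sqrt.2 ⟨h2, fun q hq hqs hd => ?_⟩
  have hqq : q * q ≤ p := Nat.le_sqrt.1 hqs
  have hq80 : q < 80 := by nlinarith
  rcases hall q hq80 with (h' | h') | h'
  · omega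
  · nlinarith
  · exact h' (Nat.mod_eq_zero_of_dvd hd)

/-- A possible number of Sylow `p`-subgroups of a simple group of order `n`. -/
def sylowOk (n p a m d : ℕ) : Bool :=
  decide (m % d = 0) && decide (d % p = 1) && decide (d ≠ 1) &&
    (decide (60 ≤ d) || decide (d.factorial % n = 0)) &&
    !(decide (a = 1) && decide (Nat.gcd (m / d) (p - 1) = 1))

/-- The data of a certificate. -/
structure Cert where
  kind : ℕ
  p : ℕ
  q : ℕ
  a : ℕ
  b : ℕ

/-- Unpacking a certificate. -/
def decodeCert (c : ℕ) : Cert :=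
  ⟨c % 10, c / 4000 % 8000, c / 32000000, c / 10 % 20, c / 200 % 20⟩

/-- Whether the certificate `c` excludes the order `n`, the orders in `exc` excepted. -/
def certOk (exc : List ℕ) (n : ℕ) (c : Cert) : Bool :=
  match c.kind with
  | 0 => exc.contains n
  | 1 => primeBelow c.p && primeBelow c.q && decide (n = c.p ^ c.a * c.q ^ c.b)
  | 2 => decide (n % 2 = 0) && decide (n % 12 ≠ 0) && decide (n % 16 ≠ 0) && decide (n % 56 ≠ 0)
  | 3 => decide (n % 2 = 1) && primeBelow c.p && decide (c.a = 1 ∨ c.a = 2) &&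
      decide (n % c.p ^ c.a = 0) && decide (n % c.p ^ (c.a + 1) ≠ 0) && decide (n ≠ c.p ^ c.a) &&
      (List.range c.p).all fun q => decide (q < 2) || decide (n % q ≠ 0)
  | 4 => primeBelow c.p && decide (0 < c.a) && decide (n % c.p ^ c.a = 0) &&
      decide (n % c.p ^ (c.a + 1) ≠ 0) && decide (n ≠ c.p ^ c.a) &&
      (List.range (n / c.p ^ c.a + 1)).all fun d => !sylowOk n c.p c.a (n / c.p ^ c.a) d
  | 5 => primeBelow c.p && decide (c.p ≠ 2) && decide (n % c.p = 0) &&
      decide (n / c.p % c.p ≠ 0) && decide (1 < n / c.p) && degCheck c.p (n / c.p) []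
  | _ => false

/-- The table for consecutive orders starting at `lo`. -/
def tableOk (exc : List ℕ) : ℕ → List ℕ → Bool
  | _, [] => true
  | lo, c :: l => certOk exc lo (decodeCert c) && tableOk exc (lo + 1) l

theorem tableOk_spec {exc : List ℕ} : ∀ {lo : ℕ} {l : List ℕ}, tableOk exc lo l = true →
    ∀ n, lo ≤ n → n < lo + l.length → ∃ c, certOk exc n c = true := by
  intro lo l
  induction l generalizing lo with
  | nil => intro _ n h1 h2; simp at h2; omega
  | cons c l ih =>
    intro h n h1 h2
    simp only [tableOk, Bool.and_eq_true] at h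
    rcases h1.eq_or_lt with rfl | h3
    · exact ⟨_, h.1⟩
    · exact ih h.2 n h3 (by simp at h2; omega)

variable {G : Type u} [Group G] [Finite G] [IsSimpleGroup G]

theorem not_isMulCommutative_comm (hG : ¬ IsMulCommutative G) : ∃ a b : G, a * b ≠ b * a := by
  by_contra h
  push Not at h
  exact hG ⟨⟨h⟩⟩

theorem not_prime_card (hG : ¬ IsMulCommutative G) : ¬ (Nat.card G).Prime := fun hp => by
  haveI : Fact (Nat.card G).Prime := ⟨hp⟩
  haveI : IsCyclic G := isCyclic_of_prime_card rfl
  exact hG (IsCyclic.isMulCommutative)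

theorem not_isSolvable (hG : ¬ IsMulCommutative G) : ¬ Group.IsSolvable G := fun h => by
  obtain ⟨a, b, hab⟩ := not_isMulCommutative_comm hG
  haveI := h
  have hlt := Group.IsSolvable.commutator_lt_top_of_nontrivial G
  rcases Subgroup.Normal.eq_bot_or_eq_top (inferInstance : (commutator G).Normal) with e | e
  · have : ⁅a, b⁆ ∈ (⊥ : Subgroup G) := by
      rw [← e, commutator_def]
      exact Subgroup.commutator_mem_commutator (Subgroup.mem_top a) (Subgroup.mem_top b)
    exact hab (commutatorElement_eq_one_iff_mul_comm.1 (Subgroup.mem_bot.1 this))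
  · exact hlt.ne e

theorem card_ne_sylow (hG : ¬ IsMulCommutative G) {p a : ℕ} [Fact p.Prime] :
    Nat.card G ≠ p ^ a := by
  intro h
  have hpg : IsPGroup p G := IsPGroup.of_card h
  haveI := hpg.isNilpotent
  exact not_isSolvable hG inferInstance

/-- Odd order with a Sylow subgroup of order at most `p²` for the smallest prime `p`. -/
theorem false_of_smallest_prime (hG : ¬ IsMulCommutative G) {p a : ℕ} [hpf : Fact p.Prime]
    (hodd : Odd (Nat.card G)) (ha : a = 1 ∨ a = 2) (h1 : p ^ a ∣ Nat.card G)
    (h2 : ¬ p ^ (a + 1) ∣ Nat.card G) (hmin : ∀ q : ℕ, q.Prime → q ∣ Nat.card G → p ≤ q) : False := by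
  classical
  have hp : p.Prime := hpf.out
  obtain ⟨P⟩ : Nonempty (Sylow p G) := inferInstance
  haveI : Fintype (P : Subgroup G) := Fintype.ofFinite _
  have hP : Nat.card (P : Subgroup G) = p ^ a := SmallOrder.card_sylow_eq P h1 h2
  set N := Subgroup.normalizer ((P : Subgroup G) : Set G) with hN
  set φ := (P : Subgroup G).normalizerMonoidHom with hφ
  have hab : ∀ x y : (P : Subgroup G), x * y = y * x := by
    rcases ha with rfl | rfl
    · haveI : IsCyclic (P : Subgroup G) := isCyclic_of_prime_card (p := p) (by rw [hP, pow_one])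
      exact fun x y => IsCyclic.commGroup.mul_comm x y
    · exact IsPGroup.commutative_of_card_eq_prime_sq hP
  have hNC : N ≤ Subgroup.centralizer ((P : Subgroup G) : Set G) := by
    by_contra hnle
    have hker : φ.ker ≠ ⊤ := fun h => hnle fun g hg => by
      have : (⟨g, hg⟩ : N) ∈ φ.ker := h ▸ Subgroup.mem_top _
      rw [hφ, Subgroup.normalizerMonoidHom_ker] at this
      exact this
    have hr1 : Nat.card φ.range ≠ 1 := fun h => hker (by
      rw [MonoidHom.ker_eq_top_iff]
      refine MonoidHom.ext fun g => ?_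
      haveI := (Nat.card_eq_one_iff_unique.1 h).1
      exact congrArg Subtype.val (Subsingleton.elim (⟨φ g, g, rfl⟩ : φ.range) 1))
    obtain ⟨r, hr, hrd⟩ := Nat.exists_prime_and_dvd hr1
    haveI : Fact r.Prime := ⟨hr⟩
    have hrN : r ∣ Nat.card N := hrd.trans (Subgroup.card_range_dvd φ)
    have hrG : r ∣ Nat.card G := hrN.trans (Subgroup.card_subgroup_dvd_card _)
    have hrp : r ≠ p := by
      rintro rfl
      have hidx : φ.ker.index = Nat.card φ.range := Subgroup.index_ker φ
      have hle : (P : Subgroup G).subgroupOf N ≤ φ.ker := fun g hg => by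
        rw [hφ, Subgroup.normalizerMonoidHom_ker, Subgroup.mem_subgroupOf]
        exact Subgroup.mem_centralizer_iff.2 fun x hx =>
          congrArg Subtype.val (hab ⟨x, hx⟩ ⟨(g : G), hg⟩)
      have h3 : r ∣ ((P : Subgroup G).subgroupOf N).index :=
        (hidx ▸ hrd).trans (Subgroup.index_dvd_of_le hle)
      exact P.not_dvd_index (h3.trans (Subgroup.relIndex_dvd_index_of_le Subgroup.le_normalizer))
    have hlt : p < r := lt_of_le_of_ne (hmin r hr hrG) (Ne.symm hrp)
    have hr2 : r ≠ 2 := fun h => by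
      subst h
      exact (Nat.not_even_iff_odd.2 hodd) (even_iff_two_dvd.2 hrG)
    obtain ⟨β, hβ⟩ := exists_prime_orderOf_dvd_card' (G := φ.range) r hrd
    set H : Subgroup (MulAut (P : Subgroup G)) := Subgroup.zpowers (β : MulAut (P : Subgroup G)) with hH
    have hHp : IsPGroup r H := IsPGroup.of_card (n := 1)
      (by rw [Nat.card_zpowers, Subgroup.orderOf_coe, hβ, pow_one])
    have hmod := hHp.card_modEq_card_fixedPoints (P : Subgroup G)
    set F : Subgroup (P : Subgroup G) :=
      { carrier := MulAction.fixedPoints H (P : Subgroup G)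
        mul_mem' := fun {x y} hx hy h => by
          show (h : MulAut (P : Subgroup G)) (x * y) = x * y
          rw [map_mul, show (h : MulAut (P : Subgroup G)) x = x from hx h,
            show (h : MulAut (P : Subgroup G)) y = y from hy h]
        one_mem' := fun h => map_one (h : MulAut (P : Subgroup G))
        inv_mem' := fun {x} hx h => by
          show (h : MulAut (P : Subgroup G)) x⁻¹ = x⁻¹
          rw [map_inv, show (h : MulAut (P : Subgroup G)) x = x from hx h] } with hF
    rw [show Nat.card (MulAction.fixedPoints H (P : Subgroup G)) = Nat.card F from rfl, hP] at hmod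
    obtain ⟨j, hj, hjF⟩ := (Nat.dvd_prime_pow hp).1 (hP ▸ F.card_subgroup_dvd_card)
    have hja : j < a := by
      refine lt_of_le_of_ne hj fun e => ?_
      have htop : F = ⊤ := Subgroup.eq_top_of_card_eq _ (by rw [hjF, e, hP])
      have hβ1 : (β : MulAut (P : Subgroup G)) = 1 := MulEquiv.ext fun x =>
        (htop.ge (Subgroup.mem_top x) : x ∈ F) ⟨(β : MulAut (P : Subgroup G)), Subgroup.mem_zpowers _⟩
      have := hβ
      rw [← Subgroup.orderOf_coe, hβ1, orderOf_one] at this
      exact hr.ne_one this.symm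
    rw [hjF] at hmod
    have hd : r ∣ p ^ a - p ^ j :=
      (Nat.modEq_iff_dvd' (Nat.pow_le_pow_right hp.pos hja.le)).1 hmod.symm
    have hp2 := hp.two_le
    have hrdp : ¬ r ∣ p := fun h => hrp ((Nat.prime_dvd_prime_iff_eq hr hp).1 h)
    have hrdp1 : ¬ r ∣ p - 1 := fun h => by have := Nat.le_of_dvd (by omega) h; omega
    rcases ha with rfl | rfl
    · obtain rfl : j = 0 := by omega
      rw [pow_one, pow_zero] at hd
      exact hrdp1 hd
    · interval_cases j
      · rw [pow_zero, show p ^ 2 - 1 = (p + 1) * (p - 1) by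
          rw [← Nat.sq_sub_sq, one_pow]] at hd
        rcases hr.dvd_mul.1 hd with h | h
        · have hr' := Nat.le_of_dvd (by omega) h
          have : r = p + 1 := by omega
          rcases Nat.even_or_odd r with he | ho
          · exact hr2 (hr.even_iff.1 he)
          · have hp' : Odd p := by
              rcases hp.eq_two_or_odd' with h2 | h2
              · exfalso
                exact (Nat.not_even_iff_odd.2 hodd) (even_iff_two_dvd.2
                  (h2 ▸ (dvd_pow_self p (by norm_num : (2 : ℕ) ≠ 0)).trans h1))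
              · exact h2
            rw [this] at ho
            exact (Nat.not_even_iff_odd.2 ho) hp'.add_one
        · exact hrdp1 h
      · rw [pow_one, show p ^ 2 - p = p * (p - 1) by rw [sq, Nat.mul_sub, mul_one]] at hd
        rcases hr.dvd_mul.1 hd with h | h
        exacts [hrdp h, hrdp1 h]
  have hne : (P : Subgroup G) ≠ ⊥ := fun e => by
    rw [e, Subgroup.card_bot] at hP
    rcases ha with rfl | rfl
    · exact hp.ne_one (by simpa using hP.symm)
    · exact absurd hP (by nlinarith [hp.two_le])
  exact card_ne_sylow (p := p) (a := a) hG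
    ((SmallOrder.card_eq_sylow_of_normalizer_le_centralizer P hNC hne).trans hP)

/-- A certified order is an exception. -/
theorem mem_of_certOk (hG : ¬ IsMulCommutative G) {exc : List ℕ} {c : Cert}
    (h : certOk exc (Nat.card G) c = true) : Nat.card G ∈ exc := by
  classical
  haveI := Fintype.ofFinite G
  obtain ⟨kind, p, q, a, b⟩ := c
  rcases kind with _ | _ | _ | _ | _ | _ | k <;>
    simp only [certOk, Bool.and_eq_true, decide_eq_true_eq, List.contains_iff_mem,
      List.all_eq_true, List.mem_range, Bool.or_eq_true, Bool.false_eq_true] at h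
  · exact h
  all_goals exfalso
  · obtain ⟨⟨hp, hq⟩, hn⟩ := h
    exact not_isSolvable hG
      (Cfsg.Agent.S0144.result p q a b (prime_of_primeBelow hp) (prime_of_primeBelow hq) hn)
  · obtain ⟨⟨⟨h2, h12⟩, h16⟩, h56⟩ := h
    rcases Cfsg.Agent.S0499.result hG (Nat.even_iff.2 h2) with h' | h' | h'
    exacts [h12 (Nat.mod_eq_zero_of_dvd h'), h16 (Nat.mod_eq_zero_of_dvd h'),
      h56 (Nat.mod_eq_zero_of_dvd h')]
  · obtain ⟨⟨⟨⟨⟨⟨hodd, hp⟩, ha⟩, h1⟩, h2⟩, -⟩, hall⟩ := h
    haveI : Fact p.Prime := ⟨prime_of_primeBelow hp⟩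
    refine false_of_smallest_prime hG (Nat.odd_iff.2 hodd) ha (Nat.dvd_of_mod_eq_zero h1)
      (fun h' => h2 (Nat.mod_eq_zero_of_dvd h')) fun r hr hrd => ?_
    by_contra hlt
    push Not at hlt
    rcases hall r hlt with h' | h'
    · have := hr.two_le; omega
    · exact h' (Nat.mod_eq_zero_of_dvd hrd)
  · obtain ⟨⟨⟨⟨⟨hp, ha⟩, h1⟩, h2⟩, h3⟩, hall⟩ := h
    haveI : Fact p.Prime := ⟨prime_of_primeBelow hp⟩
    have hpp : p.Prime := Fact.out
    obtain ⟨P⟩ : Nonempty (Sylow p G) := inferInstance
    have hP : Nat.card P = p ^ a := SmallOrder.card_sylow_eq P (Nat.dvd_of_mod_eq_zero h1)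
      (fun h' => h2 (Nat.mod_eq_zero_of_dvd h'))
    have hmul : Nat.card G = p ^ a * (Nat.card G / p ^ a) :=
      (Nat.mul_div_cancel' (Nat.dvd_of_mod_eq_zero h1)).symm
    have hn1 : Nat.card (Sylow p G) ≠ 1 := SmallOrder.card_sylow_ne_one P
      (by rw [hP]; exact (Nat.one_lt_pow ha.ne' hpp.one_lt).ne') (by rw [hP]; exact h3)
    have hmem := SmallOrder.card_sylow_mem_filter P hP hmul (pow_ne_zero a hpp.ne_zero)
    rw [Finset.mem_filter, Nat.mem_divisors] at hmem
    have hd := hall (Nat.card (Sylow p G)) (Nat.lt_succ_of_le (Nat.le_of_dvd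
      (Nat.pos_of_ne_zero hmem.1.2) hmem.1.1))
    rw [Bool.not_eq_true', ← Bool.not_eq_true] at hd
    refine hd ?_
    simp only [sylowOk, Bool.and_eq_true, decide_eq_true_eq, Bool.or_eq_true, Bool.not_eq_true']
    refine ⟨⟨⟨⟨Nat.mod_eq_zero_of_dvd hmem.1.1, hmem.2⟩, hn1⟩, Or.inr (Nat.mod_eq_zero_of_dvd ?_)⟩, ?_⟩
    · rw [P.card_eq_index_normalizer]
      refine SmallOrder.card_dvd_factorial_index fun e => hn1 ?_
      rw [P.card_eq_index_normalizer, e, Subgroup.index_top]
    · by_contra hc
      rw [Bool.not_eq_false, Bool.and_eq_true, decide_eq_true_eq, decide_eq_true_eq] at hc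
      obtain ⟨rfl, hcop⟩ := hc
      rw [pow_one] at hP h3 hcop
      have hN := SmallOrder.card_normalizer_mul_card_sylow P
      have h4 := Subgroup.card_mul_index
        ((P : Subgroup G).subgroupOf (Subgroup.normalizer ((P : Subgroup G) : Set G)))
      rw [Nat.card_congr (Subgroup.subgroupOfEquivOfLe Subgroup.le_normalizer).toEquiv,
        show Nat.card ↥(P : Subgroup G) = p from hP] at h4
      have h5 : Nat.card G / p / Nat.card (Sylow p G) =
          ((P : Subgroup G).subgroupOf (Subgroup.normalizer ((P : Subgroup G) : Set G))).index := by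
        rw [← hN, ← show p * _ = Nat.card (Subgroup.normalizer (P : Set G)) from h4, mul_assoc,
          Nat.mul_div_cancel_left _ hpp.pos, Nat.mul_div_cancel _ Nat.card_pos]
      have hP' : Nat.card ↥(P : Subgroup G) = p := hP
      refine h3 ((SmallOrder.card_eq_sylow_of_normalizer_le_centralizer P
        (SmallOrder.normalizer_le_centralizer_of_coprime (P : Subgroup G) hP
          (h5 ▸ hcop)) fun e => ?_).trans hP')
      rw [e, Subgroup.card_bot] at hP'
      exact hpp.ne_one hP'.symm
  · obtain ⟨⟨⟨⟨⟨hp, hp2⟩, h1⟩, h2⟩, h3⟩, hdeg⟩ := h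
    haveI : Fact p.Prime := ⟨prime_of_primeBelow hp⟩
    exact false_of_degCheck hp2 (Nat.mul_div_cancel' (Nat.dvd_of_mod_eq_zero h1)).symm
      (fun h' => h2 (Nat.mod_eq_zero_of_dvd h')) h3 hdeg

/-- A certified range. -/
theorem mem_of_table (hG : ¬ IsMulCommutative G) {exc : List ℕ} {lo : ℕ} {l : List ℕ}
    (ht : tableOk exc lo l = true) (h1 : lo ≤ Nat.card G) (h2 : Nat.card G < lo + l.length) :
    Nat.card G ∈ exc := by
  obtain ⟨c, hc⟩ := tableOk_spec ht _ h1 h2
  exact mem_of_certOk hG hc

end CfsgLib.SmallOrders
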